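import Groth.Agent.CycDim.Basic
import Groth.Agent.CDivNormal.Primes
import Groth.Agent.Unibranch.Chains
import Groth.Agent.Catenary.CM
import Mathlib

/-!
Dimensions of closures of points computed by a dimension function.
-/

set_option autoImplicit false
set_option linter.style.haveILetI false
set_option backward.isDefEq.respectTransparency false

universe u

open CategoryTheory AlgebraicGeometry TopologicalSpace Opposite
open Groth.Agent.CDivNormal (genPrime specializes_of_le exists_genPrime_eq genPrime_mono)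

noncomputable section

namespace Groth.Agent.CycDim

variable {X : Scheme.{u}} {δ : X → ℤ}

theorem exists_step (hδ : Cyc.IsDimFun X δ) {a b : X} (h : a < b) : ∃ w : X, a ≤ w ∧ w < b ∧ δ b = δ w + 1 := by
  obtain ⟨m, ⟨w, haw, hwb, hw⟩, hmax⟩ := Int.exists_greatest_of_bdd (P := fun m => ∃ w, a ≤ w ∧ w < b ∧ δ w = m)
    ⟨δ b, fun m ⟨w, _, hwb, hw⟩ => by have := delta_lt hδ hwb; omega⟩ ⟨δ a, a, le_rfl, h, rfl⟩
  refine ⟨w, haw, hwb, (hδ b w (Scheme.le_iff_specializes.1 hwb.le) hwb.ne').2 fun z h1 h2 => ?_⟩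
  by_contra hz
  push Not at hz
  have h3 : w < z := lt_of_spec h2 hz.2
  have h4 : z < b := lt_of_spec h1 hz.1.symm
  have := hmax _ ⟨z, haw.trans h3.le, h4, rfl⟩
  have := delta_lt hδ h3
  omega

/-- The dimension of a set of points between `lo` and `ξ`. -/
theorem krullDim_eq (hδ : Cyc.IsDimFun X δ) (P : X → Prop) (ξ lo : X) (hξ : P ξ) (hlo : P lo) (hle : lo ≤ ξ)
    (hbd : ∀ z, P z → z ≤ ξ ∧ δ lo ≤ δ z) (hcl : ∀ z, lo ≤ z → z ≤ ξ → P z) :
    Order.krullDim {z : X // P z} = ((δ ξ - δ lo).toNat : WithBot ℕ∞) ∧ δ lo ≤ δ ξ := by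
  have hmono : ∀ {a b : X}, a ≤ b → δ a ≤ δ b := fun {a b} hab => by
    by_cases hab' : b = a
    · rw [hab']
    · exact (delta_lt hδ (lt_of_spec (Scheme.le_iff_specializes.1 hab) hab')).le
  have hd : δ lo ≤ δ ξ := hmono hle
  refine ⟨le_antisymm ?_ ?_, hd⟩
  · refine iSup_le fun s => ?_
    have key : ∀ i : Fin (s.length + 1), δ (s 0).1 + (i : ℕ) ≤ δ (s i).1 := by
      intro i
      induction i using Fin.induction with
      | zero => simp
      | succ i ih =>
        have h1 := delta_lt hδ (show (s i.castSucc).1 < (s i.succ).1 from s.step i)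
        simp only [Fin.val_succ, Fin.val_castSucc] at ih ⊢
        omega
    have h1 := key (Fin.last _)
    have h2 := (hbd _ (s 0).2).2
    have h3 := hmono (hbd _ (s (Fin.last s.length)).2).1
    rw [Fin.val_last] at h1
    exact_mod_cast (show s.length ≤ (δ ξ - δ lo).toNat by omega)
  · suffices H : ∀ (n : ℕ) (b : X), lo ≤ b → ∀ hb : b ≤ ξ, δ b - δ lo = n →
        ∃ s : LTSeries {z : X // P z}, s.length = n ∧ s.last.1 = b by
      obtain ⟨s, hs, -⟩ := H (δ ξ - δ lo).toNat ξ hle le_rfl (by omega)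
      exact Order.le_krullDim_iff.2 ⟨s, hs⟩
    intro n
    induction n with
    | zero =>
      intro b h1 h2 _
      exact ⟨RelSeries.singleton _ ⟨b, hcl b h1 h2⟩, rfl, rfl⟩
    | succ n ih =>
      intro b h1 h2 hn
      have hlt : lo < b := lt_of_spec (Scheme.le_iff_specializes.1 h1) (fun e => by rw [e] at hn; omega)
      obtain ⟨w, hw1, hw2, hw3⟩ := exists_step hδ hlt
      obtain ⟨s, hs, hsl⟩ := ih w hw1 (hw2.le.trans h2) (by omega)
      exact ⟨s.snoc ⟨b, hcl b h1 h2⟩ (show s.last < _ by rw [← Subtype.coe_lt_coe, hsl]; exact hw2),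
        by simp [hs], by simp⟩

theorem exists_closed [JacobsonSpace X] (ξ : X) : ∃ z : X, ξ ⤳ z ∧ IsClosed ({z} : Set X) := by
  obtain ⟨z, hz, hzc⟩ := nonempty_inter_closedPoints (Z := closure {ξ}) ⟨ξ, subset_closure rfl⟩
    isClosed_closure.isLocallyClosed
  exact ⟨z, specializes_iff_mem_closure.2 hz, hzc⟩

attribute [local instance] specializationOrder in
theorem topologicalKrullDim_closure (ξ : X) :
    topologicalKrullDim ↥(closure ({ξ} : Set X)) = Order.krullDim {z : X // ξ ⤳ z} := by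
  haveI : QuasiSober ↥(closure ({ξ} : Set X)) := isClosed_closure.isClosedEmbedding_subtypeVal.quasiSober
  rw [topologicalKrullDim, @Order.krullDim_eq_of_orderIso _ _ _
    (specializationOrder ↥(closure ({ξ} : Set X))).toPreorder irreducibleSetEquivPoints]
  exact @Order.krullDim_eq_of_orderIso _ _ (specializationOrder ↥(closure ({ξ} : Set X))).toPreorder _
    { toFun := fun z => ⟨z.1, specializes_iff_mem_closure.2 z.2⟩
      invFun := fun z => ⟨z.1, specializes_iff_mem_closure.1 z.2⟩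
      left_inv := fun z => rfl
      right_inv := fun z => rfl
      map_rel_iff' := fun {a b} => (subtype_specializes_iff b a).symm }

theorem ringKrullDim_locQuot {ξ x : X} (h : ξ ⤳ x) :
    ringKrullDim (Cyc.LocQuot x ξ h) = Order.krullDim {z : X // ξ ⤳ z ∧ z ⤳ x} := by
  let q : X.presheaf.stalk x →+* Cyc.LocQuot x ξ h := Ideal.Quotient.mk _
  have hker : RingHom.ker q = genPrime h := by
    rw [Ideal.mk_ker]
    exact Ideal.ext fun a => (Ideal.Quotient.eq_zero_iff_mem (I := IsLocalRing.maximalIdeal (X.presheaf.stalk ξ)))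
  have hp : ∀ z : {z : X // ξ ⤳ z ∧ z ⤳ x}, ((genPrime z.2.2).map q).IsPrime ∧
      ((genPrime z.2.2).map q).comap q = genPrime z.2.2 := by
    intro z
    have hle : RingHom.ker q ≤ genPrime z.2.2 := hker ▸ genPrime_mono z.2.1 z.2.2
    refine ⟨Ideal.map_isPrime_of_surjective Ideal.Quotient.mk_surjective hle, ?_⟩
    rw [Ideal.comap_map_of_surjective _ Ideal.Quotient.mk_surjective]
    exact sup_eq_left.2 hle
  let f : {z : X // ξ ⤳ z ∧ z ⤳ x} → (PrimeSpectrum (Cyc.LocQuot x ξ h))ᵒᵈ :=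
    fun z => OrderDual.toDual ⟨(genPrime z.2.2).map q, (hp z).1⟩
  have hrel : ∀ a b, f a ≤ f b ↔ a ≤ b := by
    intro a b
    constructor
    · intro hab
      have h1 := Ideal.comap_mono (f := q) (show (genPrime b.2.2).map q ≤ (genPrime a.2.2).map q from hab)
      rw [(hp a).2, (hp b).2] at h1
      exact Scheme.le_iff_specializes.2 (specializes_of_le b.2.2 a.2.2 h1)
    · intro hab
      exact Ideal.map_mono (genPrime_mono (Scheme.le_iff_specializes.1 hab) a.2.2)
  have hbij : Function.Bijective f := by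
    refine ⟨fun a b hab => Subtype.ext (eq_of_le_of_le ((hrel a b).1 hab.le) ((hrel b a).1 hab.ge)), fun p => ?_⟩
    obtain ⟨z, hz, hzp⟩ := exists_genPrime_eq x ((OrderDual.ofDual p).asIdeal.comap q)
    have hξz : ξ ⤳ z := specializes_of_le h hz (by rw [hzp, ← hker]; exact Ideal.comap_mono bot_le)
    refine ⟨⟨z, hξz, hz⟩, PrimeSpectrum.ext ?_⟩
    show (genPrime hz).map q = (OrderDual.ofDual p).asIdeal
    rw [hzp, Ideal.map_comap_of_surjective _ Ideal.Quotient.mk_surjective]
  rw [ringKrullDim, ← Order.krullDim_orderDual (α := PrimeSpectrum (Cyc.LocQuot x ξ h))]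
  exact (Order.krullDim_eq_of_orderIso { Equiv.ofBijective f hbij with map_rel_iff' := fun {a b} => hrel a b }).symm

/-- Every point has a maximal generisation. -/
theorem exists_maximal (x : X) : ∃ ξ : X, ξ ⤳ x ∧ ∀ ξ' : X, ξ' ⤳ ξ → ξ' = ξ := by
  have hI : IsIrreducible (irreducibleComponent x) := isIrreducible_irreducibleComponent
  have hg : IsGenericPoint hI.genericPoint (irreducibleComponent x) := by
    have h := hI.isGenericPoint_genericPoint_closure
    rwa [isClosed_irreducibleComponent.closure_eq] at h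
  refine ⟨hI.genericPoint, hg.specializes mem_irreducibleComponent, fun ξ' h => ?_⟩
  have hsub : irreducibleComponent x ⊆ closure {ξ'} := by
    rw [← hg.def]
    exact closure_minimal (Set.singleton_subset_iff.2 (specializes_iff_mem_closure.1 h)) isClosed_closure
  have h2 : closure {ξ'} = irreducibleComponent x :=
    eq_irreducibleComponent isIrreducible_singleton.closure.isPreirreducible hsub
  exact (h.antisymm (hg.specializes (h2 ▸ subset_closure rfl))).eq

/-- Near a point all maximal points specialise to it. -/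
theorem exists_nhd_maximal [IsLocallyNoetherian X] (x : X) :
    ∃ U : X.Opens, x ∈ U ∧ ∀ y ∈ U, ∀ ξ : X, (∀ ξ' : X, ξ' ⤳ ξ → ξ' = ξ) → ξ ⤳ y → ξ ⤳ x := by
  obtain ⟨U, hU, hxU, -⟩ := exists_isAffineOpen_mem_and_subset (U := (⊤ : X.Opens)) (x := x) trivial
  haveI : IsNoetherianRing Γ(X, U) := IsLocallyNoetherian.component_noetherian ⟨U, hU⟩
  have hN := noetherianSpace_of_isAffineOpen U hU
  have hfin0 : (irreducibleComponents U).Finite := @NoetherianSpace.finite_irreducibleComponents _ _ hN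
  let T : Set U := {ξ | ∀ ξ' : X, ξ' ⤳ ξ.1 → ξ' = ξ.1}
  have hT : T.Finite := by
    refine Set.Finite.of_finite_image (f := fun ξ => closure ({ξ} : Set U)) (hfin0.subset ?_) ?_
    · rintro _ ⟨ξ, hξ, rfl⟩
      refine ⟨isIrreducible_singleton.closure, fun s hs hle => ?_⟩
      have hs' : IsIrreducible (closure ((Subtype.val : U → X) '' s)) :=
        (hs.image _ continuous_subtype_val.continuousOn).closure
      have hg := hs'.isGenericPoint_genericPoint_closure
      rw [closure_closure] at hg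
      have hgξ : hs'.genericPoint ⤳ ξ.1 := hg.specializes (subset_closure ⟨ξ, hle (subset_closure rfl), rfl⟩)
      intro z hz
      refine specializes_iff_mem_closure.1 ((subtype_specializes_iff ξ z).2 ?_)
      rw [← hξ _ hgξ]
      exact hg.specializes (subset_closure ⟨z, hz, rfl⟩)
    · intro a _ b _ hab
      change closure ({a} : Set U) = closure {b} at hab
      exact ((specializes_iff_mem_closure.2 (hab ▸ subset_closure rfl : b ∈ closure {a})).antisymm
        (specializes_iff_mem_closure.2 (hab.symm ▸ subset_closure rfl : a ∈ closure {b}))).eq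
  let B : Set X := ⋃ ξ ∈ {ξ | ξ ∈ T ∧ ¬ ξ.1 ⤳ x}, closure {ξ.1}
  have hB : IsClosed B := (hT.subset fun ξ h => h.1).isClosed_biUnion fun ξ _ => isClosed_closure
  refine ⟨U ⊓ ⟨Bᶜ, hB.isOpen_compl⟩, ⟨hxU, fun hxB => ?_⟩, fun y hy ξ hξ hξy => ?_⟩
  · obtain ⟨ξ, ⟨-, hξ⟩, hx⟩ := Set.mem_iUnion₂.1 hxB
    exact hξ (specializes_iff_mem_closure.2 hx)
  · by_contra hn
    exact hy.2 (Set.mem_iUnion₂.2 ⟨⟨ξ, hξy.mem_open U.2 hy.1⟩, ⟨hξ, hn⟩, specializes_iff_mem_closure.1 hξy⟩)

/-- In a Cohen-Macaulay local ring all maximal generisations have the same dimension. -/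
theorem delta_eq_of_cm (hδ : Cyc.IsDimFun X δ) {ξ x : X} (h : ξ ⤳ x) (hξ : ∀ ξ' : X, ξ' ⤳ ξ → ξ' = ξ)
    [LocCoh.IsCohenMacaulayLocalRing (X.presheaf.stalk x)] {d : ℕ}
    (hd : ringKrullDim (X.presheaf.stalk x) = d) : δ ξ = δ x + d := by
  have hmin : genPrime h ∈ minimalPrimes (X.presheaf.stalk x) := by
    refine ⟨⟨inferInstance, bot_le⟩, fun p hp hle => ?_⟩
    haveI := hp.1
    obtain ⟨z, hz, rfl⟩ := exists_genPrime_eq x p
    have h1 := hξ z (specializes_of_le hz h hle)
    subst h1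
    exact le_rfl
  have hh : (genPrime h).height = 0 := Ideal.height_eq_zero_iff.2 hmin
  have hsum := Catenary.height_add_dim (genPrime h)
  rw [hh, WithBot.coe_zero, add_zero, hd] at hsum
  have hker : RingHom.ker (Cyc.specMap x ξ h) = genPrime h :=
    Ideal.ext fun a => (Ideal.Quotient.eq_zero_iff_mem (I := IsLocalRing.maximalIdeal (X.presheaf.stalk ξ)))
  have hLQ : ringKrullDim (Cyc.LocQuot x ξ h) = d :=
    (ringKrullDim_eq_of_ringEquiv (Ideal.quotEquivOfEq hker)).trans hsum
  rw [ringKrullDim_locQuot h] at hLQ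
  obtain ⟨h1, h2⟩ := krullDim_eq hδ (fun w => ξ ⤳ w ∧ w ⤳ x) ξ x ⟨specializes_rfl, h⟩ ⟨h, specializes_rfl⟩
    (Scheme.le_iff_specializes.2 h)
    (fun w hw => ⟨Scheme.le_iff_specializes.2 hw.1, by
      by_cases hwx : w = x
      · rw [hwx]
      · exact (hδ w x hw.2 hwx).1.le⟩)
    (fun w hw1 hw2 => ⟨Scheme.le_iff_specializes.1 hw2, Scheme.le_iff_specializes.1 hw1⟩)
  rw [h1] at hLQ
  have : (δ ξ - δ x).toNat = d := by exact_mod_cast hLQ
  omega

end Groth.Agent.CycDim
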