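import Groth.Agent.CycDim.PushDiv
import Groth.Agent.WeilLib.Trdeg
import Groth.Agent.Cohen.Structure
import Groth.Agent.Catenary.Space
import Groth.Agent.S9684
import Mathlib

/-!
The dimension function of schemes locally of finite type over a field, and degrees of zero cycles.
-/

set_option autoImplicit false
set_option linter.style.haveILetI false
set_option backward.isDefEq.respectTransparency false

universe u

open CategoryTheory AlgebraicGeometry TopologicalSpace

noncomputable section

namespace Groth.Agent.CycDeg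

variable {K : Type u} [Field K] {X Y : Scheme.{u}}

/-- The dimension of the closure, as an integer valued function. -/
def dl (X : Scheme.{u}) : X → ℤ := fun x => (WeilCoh.pdim X x : ℤ)

theorem isSetup_field (K : Type u) [Field K] : Cyc.IsSetup (Spec (CommRingCat.of K)) (fun _ => 0) := by
  refine ⟨inferInstance, fun x => ?_, fun a b h hne => absurd (Subsingleton.elim a b) hne⟩
  refine Catenary.isUniversallyCatenary_stalk (isAffineOpen_top _) x trivial
    (Catenary.isUniversallyCatenary_of_ringEquiv (Scheme.ΓSpecIso (CommRingCat.of K)).commRingCatIsoToRingEquiv.symm ?_)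
  haveI : IsAdicComplete (IsLocalRing.maximalIdeal K) K := by
    rw [IsLocalRing.maximalIdeal_eq_bot]; infer_instance
  exact Cohen.isUniversallyCatenary_of_complete K

/-- The additivity of transcendence degrees in a triangle over a field. -/
theorem deltaCompat_over (cX : X ⟶ Spec (CommRingCat.of K)) [LocallyOfFiniteType cX]
    (cY : Y ⟶ Spec (CommRingCat.of K)) [LocallyOfFiniteType cY] (p : X ⟶ Y) (hp : p ≫ cY = cX) :
    Cyc.DeltaCompat p (dl X) (dl Y) := by
  intro x
  letI := (WeilLib.kStr cY (p x)).toAlgebra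
  letI := (WeilLib.kStr cX x).toAlgebra
  letI := (p.residueFieldMap x).hom.toAlgebra
  haveI : IsScalarTower K (Y.residueField (p x)) (X.residueField x) :=
    IsScalarTower.of_algebraMap_eq fun a => (RingHom.congr_fun (WeilLib.kStr_comp cX p cY hp x) a).symm
  have h := trdeg_add_eq K (Y.residueField (p x)) (A := X.residueField x)
  rw [show Algebra.trdeg K (Y.residueField (p x)) = _ from (WeilLib.exists_pdim_eq_trd cY (p x)).1,
    show Algebra.trdeg K (X.residueField x) = _ from (WeilLib.exists_pdim_eq_trd cX x).1] at h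
  have hlt : Algebra.trdeg (Y.residueField (p x)) (X.residueField x) < Cardinal.aleph0 := by
    refine lt_of_le_of_lt ?_ (Cardinal.natCast_lt_aleph0 (n := WeilCoh.pdim X x))
    rw [← h]
    exact le_add_self
  obtain ⟨n, hn⟩ := Cardinal.lt_aleph0.1 hlt
  refine ⟨n, hn, ?_⟩
  rw [hn, ← Nat.cast_add] at h
  have h2 : WeilCoh.pdim Y (p x) + n = WeilCoh.pdim X x := Nat.cast_injective h
  simp only [dl]
  omega

theorem deltaCompat_zero (c : X ⟶ Spec (CommRingCat.of K)) [LocallyOfFiniteType c] :
    Cyc.DeltaCompat c (dl X) (fun _ => 0) := by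
  have h0 : dl (Spec (CommRingCat.of K)) = fun _ => 0 := funext fun a => by
    show (WeilCoh.pdim _ a : ℤ) = 0
    rw [(WeilLib.pdim_eq_zero_iff (𝟙 _) a).mpr (isClosed_singleton (x := a))]
    rfl
  rw [← h0]
  exact deltaCompat_over c (𝟙 _) c (Category.comp_id c)

theorem isDimFun_dl (c : X ⟶ Spec (CommRingCat.of K)) [LocallyOfFiniteType c] : Cyc.IsDimFun X (dl X) :=
  S9684.result c _ (isSetup_field K) _ (deltaCompat_zero c)

theorem residueDegree_comp {Z : Scheme.{u}} (f : X ⟶ Y) (g : Y ⟶ Z) (x : X) :
    (f ≫ g).residueDegree x = g.residueDegree (f x) * f.residueDegree x := by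
  show @Module.finrank (Z.residueField (g (f x))) (X.residueField x) _ _
    ((f ≫ g).residueFieldMap x).hom.toAlgebra.toModule = _
  rw [Scheme.residueFieldMap_comp]
  letI := (g.residueFieldMap (f x)).hom.toAlgebra
  letI := (f.residueFieldMap x).hom.toAlgebra
  letI : Algebra (Z.residueField (g (f x))) (X.residueField x) :=
    (g.residueFieldMap (f x) ≫ f.residueFieldMap x).hom.toAlgebra
  haveI : IsScalarTower (Z.residueField (g (f x))) (Y.residueField (f x)) (X.residueField x) :=
    IsScalarTower.of_algebraMap_eq fun _ => rfl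
  exact (Module.finrank_mul_finrank (Z.residueField (g (f x))) (Y.residueField (f x)) (X.residueField x)).symm

/-- A residue extension by a surjective map is trivial. -/
theorem residueDegree_eq_one (f : X ⟶ Y) {x : X} (hs : Function.Surjective (f.residueFieldMap x).hom) :
    f.residueDegree x = 1 := by
  letI := (f.residueFieldMap x).hom.toAlgebra
  have hb : Function.Bijective (Algebra.linearMap (Y.residueField (f x)) (X.residueField x)) :=
    ⟨RingHom.injective _, hs⟩
  show Module.finrank (Y.residueField (f x)) (X.residueField x) = 1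
  rw [← (LinearEquiv.ofBijective _ hb).finrank_eq, Module.finrank_self]

/-- The degree is unchanged by push forward. -/
theorem deg_push (p : X ⟶ Y) {S : Scheme.{u}} (cX : X ⟶ S) (cY : Y ⟶ S) (hp : p ≫ cY = cX) [QuasiCompact p]
    {δX : X → ℤ} {δY : Y → ℤ} (hδ : Cyc.DeltaCompat p δX δY) (hY0 : ∀ y, 0 ≤ δY y) (a : X → ℤ)
    (ha0 : ∀ x, a x ≠ 0 → δX x = 0) (hfin : (Function.support a).Finite) :
    (∑ᶠ y, (∑ᶠ x ∈ (p ⁻¹' {y} : Set X), a x * (AlgebraicCycle.mapCoeff p δX δY x : ℤ)) *
      (cY.residueDegree y : ℤ)) = ∑ᶠ x, a x * (cX.residueDegree x : ℤ) := by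
  classical
  let S := hfin.toFinset
  have hS : ∀ x, a x ≠ 0 → x ∈ S := fun x hx => hfin.mem_toFinset.2 hx
  have hcoef : ∀ x, a x ≠ 0 → AlgebraicCycle.mapCoeff p δX δY x = p.residueDegree x := by
    intro x hx
    obtain ⟨n, -, hn⟩ := hδ x
    have := ha0 x hx
    have := hY0 (p x)
    unfold AlgebraicCycle.mapCoeff
    rw [if_pos (by omega)]
  have hin : ∀ y, (∑ᶠ x ∈ (p ⁻¹' {y} : Set X), a x * (AlgebraicCycle.mapCoeff p δX δY x : ℤ)) =
      ∑ x ∈ S with p x = y, a x * (p.residueDegree x : ℤ) := by
    intro y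
    rw [finsum_mem_eq_sum_of_subset _ (t := S.filter fun x => p x = y)
      (fun x hx => by
        simp only [Finset.coe_filter, Set.mem_setOf_eq]
        exact ⟨hS x fun h => hx.2 (by simp [h]), hx.1⟩)
      (fun x hx => by
        simp only [Finset.coe_filter, Set.mem_setOf_eq] at hx
        exact hx.2)]
    refine Finset.sum_congr rfl fun x _ => ?_
    by_cases h : a x = 0
    · simp [h]
    · rw [hcoef x h]
  simp only [hin]
  rw [finsum_eq_finsetSum_of_support_subset _ (s := S.image fun x => p x) (fun y hy => by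
      rw [Finset.mem_coe, Finset.mem_image]
      by_contra hne
      push Not at hne
      refine hy ?_
      show (∑ x ∈ S with p x = y, a x * (p.residueDegree x : ℤ)) * _ = 0
      rw [Finset.filter_eq_empty_iff.2 fun x hx => hne x hx, Finset.sum_empty, zero_mul]),
    finsum_eq_finsetSum_of_support_subset _ (s := S) (fun x hx => hS x (left_ne_zero_of_mul hx)),
    ← Finset.sum_fiberwise_of_maps_to (g := fun x => p x) (t := S.image fun x => p x)
      (fun x hx => Finset.mem_image_of_mem _ hx)]
  refine Finset.sum_congr rfl fun y _ => ?_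
  rw [Finset.sum_mul]
  refine Finset.sum_congr rfl fun x hx => ?_
  subst hp
  rw [residueDegree_comp, (Finset.mem_filter.1 hx).2]
  push_cast
  ring

/-- A principal divisor on a quasi-compact scheme has finite support. -/
theorem finite_support_divFun [IsLocallyNoetherian X] [CompactSpace X] {δ : X → ℤ} (hδ : Cyc.IsDimFun X δ) (ξ : X)
    {f : X.residueField ξ} (hf : f ≠ 0) : (Function.support (Cyc.divFun δ ξ f)).Finite := by
  choose U hU hxU using fun x : X => exists_isAffineOpen_mem_and_subset (x := x) (U := (⊤ : X.Opens)) trivial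
  obtain ⟨t, ht⟩ := isCompact_univ.elim_finite_subcover (fun x => (U x : Set X)) (fun x => (U x).2)
    fun x _ => Set.mem_iUnion.2 ⟨x, (hxU x).1⟩
  refine (t.finite_toSet.biUnion fun x _ => CycDiv.finite_divFun hδ ξ hf (hU x)).subset fun y hy => ?_
  obtain ⟨x, hx, hyx⟩ := Set.mem_iUnion₂.1 (ht (Set.mem_univ y))
  exact Set.mem_biUnion hx ⟨hyx, hy⟩

theorem divFun_delta {δ : X → ℤ} {ξ x : X} {f : X.residueField ξ} (h : Cyc.divFun δ ξ f x ≠ 0) :
    ξ ⤳ x ∧ δ x + 1 = δ ξ := by
  by_contra hne
  exact h (dif_neg hne)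

theorem divFun_mul {δ : X → ℤ} {ξ : X} {f g : X.residueField ξ} (hf : f ≠ 0) (hg : g ≠ 0) (x : X) :
    Cyc.divFun δ ξ (f * g) x = Cyc.divFun δ ξ f x + Cyc.divFun δ ξ g x := by
  unfold Cyc.divFun
  split
  · next h => rw [C1Cap.ordAt_mul h.1 hf hg]
  · rw [add_zero]

end Groth.Agent.CycDeg
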