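import Groth.Agent.CycHex.Herbrand
import Mathlib

/-!
Lengths of quotients by an element in a one dimensional Noetherian local ring as sums over the minimal primes.
-/

set_option autoImplicit false
set_option linter.style.haveILetI false

universe u

noncomputable section

namespace Groth.Agent.CycDim

open CycAlg Groth.Agent.CycHex
open scoped Pointwise

variable {A : Type u} [CommRing A] [IsNoetherianRing A] [IsLocalRing A]

/-- In dimension at most one, a prime containing an element outside all minimal primes is maximal. -/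
theorem isMaximal_of_mem (hA : Ring.KrullDimLE 1 A) {a : A} (ha : ∀ p ∈ minimalPrimes A, a ∉ p) {q : Ideal A}
    [q.IsPrime] (haq : a ∈ q) : q.IsMaximal := by
  haveI := hA
  exact (Ring.krullDimLE_one_iff.1 hA q ‹_›).resolve_left fun h => ha q h haq

theorem length_lt_top_of_killed (hA : Ring.KrullDimLE 1 A) {a : A} (ha : ∀ p ∈ minimalPrimes A, a ∉ p) (M : Type u)
    [AddCommGroup M] [Module A M] [Module.Finite A M] (h : ∀ m : M, a • m = 0) : Module.length A M < ⊤ := by
  let I := Ideal.span {a}
  haveI : Ring.KrullDimLE 0 (A ⧸ I) := by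
    refine Ring.KrullDimLE.mk₀ fun q hq => ?_
    haveI := hq
    haveI := isMaximal_of_mem hA ha (q := q.comap (Ideal.Quotient.mk I)) (by
      rw [Ideal.mem_comap, Ideal.Quotient.eq_zero_iff_mem.2 (Ideal.mem_span_singleton_self a)]
      exact zero_mem _)
    have := Ideal.map_eq_top_or_isMaximal_of_surjective (Ideal.Quotient.mk I) Ideal.Quotient.mk_surjective this
    rw [Ideal.map_comap_of_surjective _ Ideal.Quotient.mk_surjective] at this
    exact this.resolve_left hq.ne_top
  haveI : IsArtinianRing (A ⧸ I) := IsNoetherianRing.isArtinianRing_of_krullDimLE_zero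
  have htor : Module.IsTorsionBySet A M (I : Set A) := by
    intro m b
    obtain ⟨c, hc⟩ := Ideal.mem_span_singleton'.1 b.2
    show (b : A) • m = 0
    rw [← hc, mul_smul, h, smul_zero]
  letI : Module (A ⧸ I) M := htor.module
  haveI : IsScalarTower A (A ⧸ I) M := Module.IsTorsionBySet.isScalarTower htor
  haveI : Module.Finite (A ⧸ I) M := Module.Finite.of_restrictScalars_finite A (A ⧸ I) M
  haveI hAr : IsArtinian A M :=
    isArtinian_of_surjective_algebraMap (R := A ⧸ I) (S := A) Ideal.Quotient.mk_surjective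
  exact lt_top_iff_ne_top.2 (Module.length_ne_top_iff.2
    (isFiniteLength_iff_isNoetherian_isArtinian.2 ⟨inferInstance, hAr⟩))

/-- The local multiplicity of a module at a prime. -/
def lenAt (p : PrimeSpectrum A) (M : Type u) [AddCommGroup M] [Module A M] : ℕ∞ :=
  Module.length (Localization.AtPrime p.asIdeal) (LocalizedModule p.asIdeal.primeCompl M)

/-- Length of the quotient by `p + (a)`. -/
def coef (a : A) (p : PrimeSpectrum A) : ℕ∞ := Module.length A (A ⧸ (p.asIdeal ⊔ Ideal.span {a}))

theorem lenAt_add (p : PrimeSpectrum A) {M₁ M₂ M₃ : Type u} [AddCommGroup M₁] [Module A M₁] [AddCommGroup M₂]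
    [Module A M₂] [AddCommGroup M₃] [Module A M₃] (f : M₁ →ₗ[A] M₂) (g : M₂ →ₗ[A] M₃) (hf : Function.Injective f)
    (hg : Function.Surjective g) (h : Function.Exact f g) : lenAt p M₂ = lenAt p M₁ + lenAt p M₃ :=
  Module.length_eq_add_of_exact (LocalizedModule.map p.asIdeal.primeCompl f) (LocalizedModule.map p.asIdeal.primeCompl g)
    (LocalizedModule.map_injective p.asIdeal.primeCompl f hf) (LocalizedModule.map_surjective p.asIdeal.primeCompl g hg)
    (LocalizedModule.map_exact p.asIdeal.primeCompl f g h)

theorem lenAt_congr (p : PrimeSpectrum A) {M N : Type u} [AddCommGroup M] [Module A M] [AddCommGroup N] [Module A N]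
    (e : M ≃ₗ[A] N) : lenAt p M = lenAt p N := by
  have h := lenAt_add p e.toLinearMap (0 : N →ₗ[A] PUnit.{u + 1}) e.injective (Function.surjective_to_subsingleton _)
    ((e.exact_zero_iff_surjective _).2 e.surjective)
  have h0 : lenAt p PUnit.{u + 1} = 0 := Module.length_eq_zero
  rw [h0, add_zero] at h
  exact h.symm

theorem lenAt_quot_self {p : PrimeSpectrum A} (hp : p.asIdeal ∈ minimalPrimes A) :
    lenAt p (A ⧸ p.asIdeal) = 1 := by
  let S := p.asIdeal.primeCompl
  rw [lenAt, Module.length_eq_one_iff, isSimpleModule_iff_toSpanSingleton_surjective]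
  refine ⟨?_, fun m hm => ?_⟩
  · refine ⟨LocalizedModule.mkLinearMap S _ 1, 0, fun h0 => ?_⟩
    obtain ⟨c, hc⟩ := (IsLocalizedModule.eq_zero_iff S (LocalizedModule.mkLinearMap S (A ⧸ p.asIdeal))).1 h0
    refine c.2 ((Ideal.Quotient.eq_zero_iff_mem (I := p.asIdeal)).1 ?_)
    exact ((mul_one _).symm.trans (Algebra.smul_def (c : A) (1 : A ⧸ p.asIdeal)).symm).trans hc
  · intro y
    induction m using LocalizedModule.induction_on with
    | h a s =>
      induction y using LocalizedModule.induction_on with
      | h b t =>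
        obtain ⟨a, rfl⟩ := Ideal.Quotient.mk_surjective a
        obtain ⟨b, rfl⟩ := Ideal.Quotient.mk_surjective b
        have ha : a ∈ S := by
          intro hap
          refine hm ?_
          rw [show Ideal.Quotient.mk p.asIdeal a = 0 from Ideal.Quotient.eq_zero_iff_mem.2 hap]
          exact LocalizedModule.zero_mk s
        refine ⟨Localization.mk (b * (s : A)) (⟨a, ha⟩ * t), ?_⟩
        rw [LinearMap.toSpanSingleton_apply, LocalizedModule.mk_smul_mk, LocalizedModule.mk_eq]
        refine ⟨1, ?_⟩
        simp only [one_smul, Submonoid.smul_def, Submonoid.coe_mul, smul_smul]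
        rw [Algebra.smul_def, Algebra.smul_def, Ideal.Quotient.algebraMap_eq, ← map_mul, ← map_mul]
        congr 1
        ring

theorem lenAt_quot_of_not_le {p : PrimeSpectrum A} {q : Ideal A} (h : ¬ q ≤ p.asIdeal) :
    lenAt p (A ⧸ q) = 0 := by
  obtain ⟨c, hcq, hcp⟩ := SetLike.not_le_iff_exists.1 h
  rw [lenAt, Module.length_eq_zero_iff]
  refine LocalizedModule.subsingleton_iff.2 fun m => ⟨c, hcp, ?_⟩
  obtain ⟨b, rfl⟩ := Ideal.Quotient.mk_surjective m
  exact Ideal.Quotient.eq_zero_iff_mem.2 (q.mul_mem_right _ hcq)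

/-- The quotient by `a` of a module. -/
abbrev Coker (a : A) (M : Type u) [AddCommGroup M] [Module A M] : Type u := M ⧸ a • (⊤ : Submodule A M)

theorem coker_finite (hA : Ring.KrullDimLE 1 A) {a : A} (ha : ∀ p ∈ minimalPrimes A, a ∉ p) (M : Type u)
    [AddCommGroup M] [Module A M] [Module.Finite A M] :
    Module.length A (Coker a M) < ⊤ ∧ Module.length A (LinearMap.ker (LinearMap.lsmul A M a)) < ⊤ := by
  refine ⟨length_lt_top_of_killed hA ha _ fun m => ?_, length_lt_top_of_killed hA ha _ fun m => Subtype.ext m.2⟩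
  obtain ⟨m, rfl⟩ := Submodule.Quotient.mk_surjective _ m
  rw [← Submodule.Quotient.mk_smul, Submodule.Quotient.mk_eq_zero]
  exact Submodule.smul_mem_pointwise_smul m a _ trivial

theorem length_perH (a : A) (M : Type u) [AddCommGroup M] [Module A M] :
    Module.length A (perH (LinearMap.lsmul A M a) 0) = Module.length A (LinearMap.ker (LinearMap.lsmul A M a)) ∧
    Module.length A (perH (0 : M →ₗ[A] M) (LinearMap.lsmul A M a)) = Module.length A (Coker a M) := by
  constructor
  · exact LinearEquiv.length_eq (Submodule.quotEquivOfEqBot _ (by simp [Submodule.submoduleOf]))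
  · refine LinearEquiv.length_eq ?_
    refine Submodule.Quotient.equiv _ _ ((LinearEquiv.ofEq _ _ LinearMap.ker_zero).trans Submodule.topEquiv) ?_
    ext y
    constructor
    · rintro ⟨z, ⟨w, hw⟩, rfl⟩
      show (z : M) ∈ a • (⊤ : Submodule A M)
      rw [show (z : M) = a • w from hw.symm]
      exact Submodule.smul_mem_pointwise_smul _ _ _ trivial
    · intro hy
      obtain ⟨w, -, rfl⟩ := hy
      exact ⟨⟨a • w, LinearMap.mem_ker.2 rfl⟩, ⟨w, rfl⟩, rfl⟩

theorem fin_coh (hA : Ring.KrullDimLE 1 A) {a : A} (ha : ∀ p ∈ minimalPrimes A, a ∉ p) (M : Type u)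
    [AddCommGroup M] [Module A M] [Module.Finite A M] : FinCoh A (LinearMap.lsmul A M a) 0 := by
  unfold FinCoh
  rw [(length_perH a M).1, (length_perH a M).2]
  exact ⟨(coker_finite hA ha M).2, (coker_finite hA ha M).1⟩

theorem add_exact (hA : Ring.KrullDimLE 1 A) {a : A} (ha : ∀ p ∈ minimalPrimes A, a ∉ p)
    {M₁ M₂ M₃ : Type u} [AddCommGroup M₁] [Module A M₁] [Module.Finite A M₁] [AddCommGroup M₂] [Module A M₂]
    [Module.Finite A M₂] [AddCommGroup M₃] [Module A M₃] [Module.Finite A M₃]
    (f : M₁ →ₗ[A] M₂) (g : M₂ →ₗ[A] M₃) (hf : Function.Injective f) (hg : Function.Surjective g)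
    (h : Function.Exact f g) :
    Module.length A (Coker a M₂) + Module.length A (LinearMap.ker (LinearMap.lsmul A M₁ a)) +
        Module.length A (LinearMap.ker (LinearMap.lsmul A M₃ a)) =
      Module.length A (LinearMap.ker (LinearMap.lsmul A M₂ a)) + Module.length A (Coker a M₁) +
        Module.length A (Coker a M₃) := by
  have H := (additive (LinearMap.lsmul A M₁ a) 0 (LinearMap.lsmul A M₂ a) 0 (LinearMap.lsmul A M₃ a) 0
    ⟨LinearMap.comp_zero _, LinearMap.zero_comp _⟩ f f g g (LinearMap.ext fun x => (map_smul f a x).symm) (by simp)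
    (LinearMap.ext fun x => (map_smul g a x).symm) (by simp) hf hf hg hg (LinearMap.exact_iff.1 h).symm
    (LinearMap.exact_iff.1 h).symm (Or.inl ⟨fin_coh hA ha M₁, fin_coh hA ha M₂⟩)).2.2.2
  simp only [herbrand, (length_perH a M₁).1, (length_perH a M₁).2, (length_perH a M₂).1, (length_perH a M₂).2,
    (length_perH a M₃).1, (length_perH a M₃).2] at H
  obtain ⟨c1, k1⟩ := coker_finite hA ha M₁
  obtain ⟨c2, k2⟩ := coker_finite hA ha M₂
  obtain ⟨c3, k3⟩ := coker_finite hA ha M₃
  lift Module.length A (Coker a M₁) to ℕ using c1.ne with x1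
  lift Module.length A (Coker a M₂) to ℕ using c2.ne with x2
  lift Module.length A (Coker a M₃) to ℕ using c3.ne with x3
  lift Module.length A (LinearMap.ker (LinearMap.lsmul A M₁ a)) to ℕ using k1.ne with y1
  lift Module.length A (LinearMap.ker (LinearMap.lsmul A M₂ a)) to ℕ using k2.ne with y2
  lift Module.length A (LinearMap.ker (LinearMap.lsmul A M₃ a)) to ℕ using k3.ne with y3
  simp only [ENat.toNat_coe] at H
  norm_cast
  omega

/-- The length formula. -/
theorem length_quot_eq (hA : Ring.KrullDimLE 1 A) {a : A} (ha : ∀ p ∈ minimalPrimes A, a ∉ p) (M : Type u)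
    [AddCommGroup M] [Module A M] [Module.Finite A M] :
    Module.length A (Coker a M) = Module.length A (LinearMap.ker (LinearMap.lsmul A M a)) +
      ∑ᶠ (p : PrimeSpectrum A) (_ : p.asIdeal ∈ minimalPrimes A), lenAt p M * coef a p := by
  classical
  have hfin : {p : PrimeSpectrum A | p.asIdeal ∈ minimalPrimes A}.Finite :=
    (minimalPrimes.finite_of_isNoetherianRing A).preimage (fun p _ q _ e => PrimeSpectrum.ext e)
  rw [show (∑ᶠ (p : PrimeSpectrum A) (_ : p.asIdeal ∈ minimalPrimes A), lenAt p M * coef a p) =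
    ∑ p ∈ hfin.toFinset, lenAt p M * coef a p from finsum_mem_eq_finite_toFinset_sum _ hfin]
  refine IsNoetherianRing.induction_on_isQuotientEquivQuotientPrime (A := A)
    (motive := fun N _ _ _ => Module.length A (Coker a N) = Module.length A (LinearMap.ker (LinearMap.lsmul A N a)) +
      ∑ p ∈ hfin.toFinset, lenAt p N * coef a p) inferInstance ?_ ?_ ?_
  · intro N _ _ _ _
    have h1 : Subsingleton (Coker a N) := (Submodule.Quotient.mk_surjective _).subsingleton
    rw [Module.length_eq_zero, Module.length_eq_zero]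
    refine (Finset.sum_eq_zero fun p _ => ?_).symm.trans (zero_add _).symm
    rw [lenAt, Module.length_eq_zero_iff.2 (LocalizedModule.subsingleton_iff.2 fun m =>
      ⟨1, p.asIdeal.primeCompl.one_mem, Subsingleton.elim _ _⟩), zero_mul]
  · intro N _ _ _ q e
    rw [Finset.sum_congr rfl (fun p _ => by rw [lenAt_congr p e])]
    by_cases hq : q.asIdeal ∈ minimalPrimes A
    · have hker : Subsingleton (LinearMap.ker (LinearMap.lsmul A N a)) := by
        refine subsingleton_of_forall_eq 0 fun m => Subtype.ext (e.injective ?_)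
        rw [Submodule.coe_zero, map_zero]
        have h1 : a • e m.1 = 0 := by rw [← map_smul, show a • m.1 = 0 from m.2, map_zero]
        obtain ⟨b, hb⟩ := Ideal.Quotient.mk_surjective (e m.1)
        rw [← hb] at h1 ⊢
        exact Ideal.Quotient.eq_zero_iff_mem.2
          ((q.2.mem_or_mem (Ideal.Quotient.eq_zero_iff_mem.1 h1)).resolve_left (ha _ hq))
      rw [Module.length_eq_zero (M := LinearMap.ker (LinearMap.lsmul A N a)), zero_add, Finset.sum_eq_single q]
      · rw [lenAt_quot_self hq, one_mul, coef]
        refine LinearEquiv.length_eq ?_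
        let φ : N →ₗ[A] A ⧸ (q.asIdeal ⊔ Ideal.span {a}) := (Submodule.factor le_sup_left).comp e.toLinearMap
        have hφ : Function.Surjective φ := (Submodule.factor_surjective le_sup_left).comp e.surjective
        refine (Submodule.quotEquivOfEq _ _ ?_).trans (φ.quotKerEquivOfSurjective hφ)
        ext n
        obtain ⟨b, hb⟩ := Ideal.Quotient.mk_surjective (e n)
        have hφn : φ n = Ideal.Quotient.mk _ b := by
          show Submodule.factor le_sup_left (e n) = _
          rw [← hb]; rfl
        rw [LinearMap.mem_ker, hφn, Ideal.Quotient.eq_zero_iff_mem]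
        constructor
        · rintro ⟨m, -, rfl⟩
          obtain ⟨c, hc⟩ := Ideal.Quotient.mk_surjective (e m)
          have h2 : Ideal.Quotient.mk q.asIdeal b = Ideal.Quotient.mk q.asIdeal (a * c) := by
            rw [hb]
            exact (map_smul e a m).trans (congrArg (a • ·) hc.symm)
          rw [Ideal.Quotient.eq] at h2
          have := Ideal.add_mem _ (Ideal.mem_sup_left h2 : b - a * c ∈ q.asIdeal ⊔ Ideal.span {a})
            (Ideal.mem_sup_right (Ideal.mul_mem_right c _ (Ideal.mem_span_singleton_self a)))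
          simpa using this
        · intro hb'
          obtain ⟨x, hx, y, hy, rfl⟩ := Submodule.mem_sup.1 hb'
          obtain ⟨c, rfl⟩ := Ideal.mem_span_singleton'.1 hy
          refine ⟨e.symm (Ideal.Quotient.mk _ c), trivial, e.injective ?_⟩
          show e (a • e.symm (Ideal.Quotient.mk _ c)) = e n
          rw [map_smul, LinearEquiv.apply_symm_apply, ← hb, map_add, Ideal.Quotient.eq_zero_iff_mem.2 hx, zero_add,
            mul_comm]
          rfl
      · intro p hp hpq
        rw [lenAt_quot_of_not_le (fun hle => hpq ?_), zero_mul]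
        have hp' := hfin.mem_toFinset.1 hp
        exact PrimeSpectrum.ext (le_antisymm (hp'.2 ⟨q.2, bot_le⟩ hle) hle)
      · intro h; exact absurd (hfin.mem_toFinset.2 hq) h
    · have hmax : q.asIdeal = IsLocalRing.maximalIdeal A :=
        IsLocalRing.eq_maximalIdeal ((Ring.krullDimLE_one_iff.1 hA _ q.2).resolve_left hq)
      rw [Finset.sum_eq_zero fun p hp => by
        rw [lenAt_quot_of_not_le (fun hle => ?_), zero_mul]
        have hp' := hfin.mem_toFinset.1 hp
        exact hq (le_antisymm hle (hp'.2 ⟨q.2, bot_le⟩ hle) ▸ hp')]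
      rw [add_zero]
      haveI : IsSimpleModule A N := by
        haveI hm : q.asIdeal.IsMaximal := by rw [hmax]; infer_instance
        haveI : IsSimpleModule A (A ⧸ q.asIdeal) := isSimpleModule_iff_isCoatom.2 hm.out
        exact IsSimpleModule.congr e
      have hN : Module.length A N < ⊤ := by rw [Module.length_eq_one]; exact ENat.one_lt_top
      have H := (finite_length (LinearMap.lsmul A N a) 0 ⟨LinearMap.comp_zero _, LinearMap.zero_comp _⟩ hN hN).2
      simp only [herbrand, (length_perH a N).1, (length_perH a N).2, sub_self] at H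
      obtain ⟨c1, k1⟩ := coker_finite hA ha N
      lift Module.length A (Coker a N) to ℕ using c1.ne with x1
      lift Module.length A (LinearMap.ker (LinearMap.lsmul A N a)) to ℕ using k1.ne with y1
      simp only [ENat.toNat_coe] at H
      norm_cast
      omega
  · intro N₁ _ _ _ N₂ _ _ _ N₃ _ _ _ f g hf hg hfg h₁ h₃
    have H := add_exact hA ha f g hf hg hfg
    rw [Finset.sum_congr rfl (fun p _ => by rw [lenAt_add p f g hf hg hfg, add_mul]), Finset.sum_add_distrib]
    rw [h₁, h₃] at H
    obtain ⟨-, k1⟩ := coker_finite hA ha N₁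
    obtain ⟨-, k3⟩ := coker_finite hA ha N₃
    refine (WithTop.add_right_inj (WithTop.add_ne_top.2 ⟨k1.ne, k3.ne⟩)).1 ?_
    have key : ∀ u v w s t : ℕ∞, u + (v + s) + (w + t) = u + (s + t) + (v + w) := by
      intros; ac_rfl
    exact ((add_assoc _ _ _).symm.trans H).trans (key _ _ _ _ _)

end Groth.Agent.CycDim
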