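import Groth.Agent.CycDim.Basic
import Groth.Agent.CycDim.OrdSum
import Groth.Agent.CDivNormal.Primes
import Groth.Agent.C1Cap.Basic
import Groth.Prelude.Def_C1
import Mathlib

/-!
Local rings along a specialisation and orders of elements along them.
-/

set_option autoImplicit false
set_option linter.style.haveILetI false
set_option backward.isDefEq.respectTransparency false

universe u

open CategoryTheory AlgebraicGeometry TopologicalSpace Opposite
open Groth.Agent.CDivNormal (genPrime mem_genPrime germ_mem_genPrime specializes_of_le exists_genPrime_eq)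
open Groth.Agent.C1Cap (rdu)

noncomputable section

namespace Groth.Agent.CycDim

variable {X : Scheme.{u}}

/-- The specialisation map of local rings. -/
abbrev spz {ξ x : X} (h : ξ ⤳ x) : X.presheaf.stalk x →+* X.presheaf.stalk ξ :=
  (X.presheaf.stalkSpecializes h).hom

/-- The local ring at a generisation is a localisation. -/
theorem isLocalization_genPrime {ξ x : X} (h : ξ ⤳ x) :
    @IsLocalization (X.presheaf.stalk x) _ (genPrime h).primeCompl (X.presheaf.stalk ξ) _ (spz h).toAlgebra := by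
  obtain ⟨U, hU, hxU, -⟩ := exists_isAffineOpen_mem_and_subset (x := x) (U := (⊤ : X.Opens)) trivial
  have hξU := h.mem_open U.2 hxU
  letI := (X.presheaf.germ U x hxU).hom.toAlgebra
  letI := (X.presheaf.germ U ξ hξU).hom.toAlgebra
  letI := (spz h).toAlgebra
  haveI := hU.isLocalization_stalk ⟨x, hxU⟩
  haveI := hU.isLocalization_stalk ⟨ξ, hξU⟩
  haveI : IsScalarTower Γ(X, U) (X.presheaf.stalk x) (X.presheaf.stalk ξ) :=
    IsScalarTower.of_algebraMap_eq fun a => (X.presheaf.germ_stalkSpecializes_apply hxU h a).symm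
  let M := (hU.primeIdealOf ⟨x, hxU⟩).asIdeal.primeCompl
  let N := (hU.primeIdealOf ⟨ξ, hξU⟩).asIdeal.primeCompl
  have hMN : M ≤ N := by
    intro a ha
    show a ∉ (hU.primeIdealOf ⟨ξ, hξU⟩).asIdeal
    intro hb
    have h1 := (germ_mem_genPrime h hU hxU a).2 hb
    exact (IsLocalRing.le_maximalIdeal (inferInstance : (genPrime h).IsPrime).ne_top h1)
      (IsLocalization.map_units (X.presheaf.stalk x) (⟨a, ha⟩ : M))
  haveI := IsLocalization.isLocalization_of_submonoid_le (X.presheaf.stalk x) (X.presheaf.stalk ξ) M N hMN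
  refine IsLocalization.isLocalization_of_is_exists_mul_mem (X.presheaf.stalk ξ)
    (N.map (algebraMap Γ(X, U) (X.presheaf.stalk x))) _ ?_ ?_
  · rintro _ ⟨a, ha, rfl⟩
    exact fun hm => ha ((germ_mem_genPrime h hU hxU a).1 hm)
  · rintro ⟨c, hc⟩
    obtain ⟨⟨a, s⟩, has⟩ := IsLocalization.surj M c
    refine ⟨algebraMap Γ(X, U) (X.presheaf.stalk x) s, a, fun ha => ?_, ?_⟩
    · have h1 : algebraMap Γ(X, U) (X.presheaf.stalk x) a ∈ genPrime h := (germ_mem_genPrime h hU hxU a).2 ha
      rw [← has] at h1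
      rcases (inferInstance : (genPrime h).IsPrime).mem_or_mem h1 with h2 | h2
      · exact hc h2
      · exact hMN s.2 ((germ_mem_genPrime h hU hxU s).1 h2)
    · rw [← has]; exact mul_comm _ _

theorem length_congr {A B : Type u} [CommRing A] [CommRing B] (e : A ≃+* B) :
    Module.length A A = Module.length B B := by
  letI := e.toRingHom.toAlgebra
  rw [← Module.length_eq_of_surjective (R := B) (M := B) (S := A) e.surjective]
  exact LinearEquiv.length_eq (LinearEquiv.ofBijective (Algebra.linearMap A B) e.bijective)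

/-- The multiplicity of the local ring at a generisation. -/
theorem lenAt_genPrime [IsLocallyNoetherian X] {ξ x : X} (h : ξ ⤳ x) :
    lenAt ⟨genPrime h, inferInstance⟩ (X.presheaf.stalk x) = Module.length (X.presheaf.stalk ξ) (X.presheaf.stalk ξ) := by
  letI := (spz h).toAlgebra
  haveI := isLocalization_genPrime h
  let Rp := Localization.AtPrime (genPrime h)
  have h1 : lenAt ⟨genPrime h, inferInstance⟩ (X.presheaf.stalk x) = Module.length Rp Rp := by
    refine LinearEquiv.length_eq ?_
    exact ((IsLocalizedModule.iso (genPrime h).primeCompl (Algebra.linearMap (X.presheaf.stalk x) Rp)).extendScalarsOfIsLocalization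
      (genPrime h).primeCompl Rp)
  rw [h1]
  exact length_congr (IsLocalization.algEquiv (genPrime h).primeCompl Rp (X.presheaf.stalk ξ)).toRingEquiv

theorem mem_genPrime_iff {ξ x : X} (h : ξ ⤳ x) (a : X.presheaf.stalk x) :
    a ∈ genPrime h ↔ a ∈ RingHom.ker (Cyc.specMap x ξ h) := by
  rw [RingHom.mem_ker]
  exact (Ideal.Quotient.eq_zero_iff_mem (I := IsLocalRing.maximalIdeal (X.presheaf.stalk ξ))).symm

/-- The order along a specialisation of an element of the local ring at the special point. -/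
theorem ordAt_spz [IsLocallyNoetherian X] {ξ x : X} (h : ξ ⤳ x) (hdim : Ring.KrullDimLE 1 (X.presheaf.stalk x))
    {a : X.presheaf.stalk x} (ha : a ∉ genPrime h)
    (hfin : Module.length (X.presheaf.stalk x) (X.presheaf.stalk x ⧸ (genPrime h ⊔ Ideal.span {a})) < ⊤) :
    Cyc.ordAt x ξ h (rdu ξ (spz h a)) =
      ((Module.length (X.presheaf.stalk x) (X.presheaf.stalk x ⧸ (genPrime h ⊔ Ideal.span {a}))).toNat : ℤ) := by
  have hker : RingHom.ker (Cyc.specMap x ξ h) = genPrime h := Ideal.ext fun b => (mem_genPrime_iff h b).symm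
  let Q := Cyc.LocQuot x ξ h
  let q : (X.presheaf.stalk x) →+* Q := Ideal.Quotient.mk _
  have halg : ∀ b : (X.presheaf.stalk x), algebraMap Q (X.residueField ξ) (q b) = rdu ξ (spz h b) := fun _ => rfl
  have hinj : Function.Injective (algebraMap Q (X.residueField ξ)) := by
    rw [injective_iff_map_eq_zero]
    intro b hb
    obtain ⟨b, rfl⟩ := Ideal.Quotient.mk_surjective b
    exact Ideal.Quotient.eq_zero_iff_mem.2 (RingHom.mem_ker.2 hb)
  haveI : IsDomain Q := hinj.isDomain
  haveI : FaithfulSMul Q (X.residueField ξ) := (faithfulSMul_iff_algebraMap_injective _ _).2 hinj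
  haveI hK1 : IsFractionRing Q (X.residueField ξ) := IsFractionRing.of_field _ _ fun z => by
    obtain ⟨w, rfl⟩ : ∃ w, rdu ξ w = z := Ideal.Quotient.mk_surjective z
    letI := (spz h).toAlgebra
    haveI := isLocalization_genPrime h
    obtain ⟨⟨b, s⟩, hbs⟩ := IsLocalization.surj (genPrime h).primeCompl w
    refine ⟨q b, q s, ?_⟩
    have hs : rdu ξ (spz h s) ≠ 0 := fun h0 => s.2 ((mem_genPrime_iff h s.1).2 (RingHom.mem_ker.2 h0))
    rw [halg, halg, eq_div_iff hs, ← map_mul]
    exact congrArg (rdu ξ) hbs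
  haveI hK2 : Ring.KrullDimLE 1 Q := Ring.krullDimLE_iff.2
    ((ringKrullDim_quotient_le _).trans (Ring.krullDimLE_iff.1 hdim))
  have hqa : q a ≠ 0 := fun h0 => ha (by rw [← hker]; exact Ideal.Quotient.eq_zero_iff_mem.1 h0)
  have hlen : Module.length Q (Q ⧸ Ideal.span {q a}) = Module.length (X.presheaf.stalk x) ((X.presheaf.stalk x) ⧸ (genPrime h ⊔ Ideal.span {a})) := by
    rw [← Module.length_eq_of_surjective (R := Q) (M := Q ⧸ Ideal.span {q a}) (S := X.presheaf.stalk x) Ideal.Quotient.mk_surjective]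
    refine LinearEquiv.length_eq ?_
    let φ : (X.presheaf.stalk x) →ₗ[(X.presheaf.stalk x)] Q ⧸ Ideal.span {q a} :=
      ((Submodule.mkQ (Ideal.span {q a})).restrictScalars (X.presheaf.stalk x)).comp
        (Submodule.mkQ (RingHom.ker (Cyc.specMap x ξ h)))
    have hφ : Function.Surjective φ :=
      (Submodule.mkQ_surjective (Ideal.span {q a})).comp (Submodule.mkQ_surjective _)
    have hmem : ∀ c : (X.presheaf.stalk x), c ∈ LinearMap.ker φ ↔ q c ∈ Ideal.span {q a} := fun c =>
      LinearMap.mem_ker.trans (Submodule.Quotient.mk_eq_zero (Ideal.span {q a}) (x := q c))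
    refine ((Submodule.quotEquivOfEq _ _ ?_).trans (φ.quotKerEquivOfSurjective hφ)).symm
    ext c
    rw [hmem]
    constructor
    · intro hc
      obtain ⟨u, hu, v, hv, rfl⟩ := Submodule.mem_sup.1 hc
      obtain ⟨d, rfl⟩ := Ideal.mem_span_singleton'.1 hv
      rw [map_add, show q u = 0 from Ideal.Quotient.eq_zero_iff_mem.2 (by rw [hker]; exact hu), zero_add, map_mul]
      exact Ideal.mul_mem_left _ _ (Ideal.mem_span_singleton_self _)
    · intro hc
      obtain ⟨d, hd⟩ := Ideal.mem_span_singleton'.1 hc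
      obtain ⟨d, rfl⟩ := Ideal.Quotient.mk_surjective d
      have h1 : q (c - d * a) = 0 := by rw [map_sub, map_mul, ← hd, sub_eq_zero]
      rw [Ideal.Quotient.eq_zero_iff_mem, hker] at h1
      have := Ideal.add_mem _ (Ideal.mem_sup_left h1 : c - d * a ∈ genPrime h ⊔ Ideal.span {a})
        (Ideal.mem_sup_right (Ideal.mul_mem_left _ d (Ideal.mem_span_singleton_self a)))
      simpa using this
  rw [← halg, Cyc.ordAt, CycAlg.ordFrac, dif_pos ⟨inferInstance, hK2, inferInstance, hK1⟩]
  change WithZero.recZeroCoe (motive := fun _ => ℤ) 0 _ (Ring.ordFrac Q (algebraMap Q (X.residueField ξ) (q a))) = _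
  rw [Ring.ordFrac_eq_ord Q hqa, Ring.ordMonoidWithZeroHom_eq_ord (mem_nonZeroDivisors_of_ne_zero hqa), Ring.ord,
    hlen]
  obtain ⟨m, hm⟩ := WithTop.ne_top_iff_exists.1 hfin.ne
  rw [← hm]
  rfl

/-- The divisor of a regular element of the local ring. -/
theorem length_quot_eq_sum [IsLocallyNoetherian X] {δ : X → ℤ} (hδ : Cyc.IsDimFun X δ) {k : ℤ}
    (hdim : ∀ y : X, δ y ≤ k + 1) {x : X} (hx : δ x = k) {a : X.presheaf.stalk x}
    (ha : a ∈ nonZeroDivisors (X.presheaf.stalk x)) :
    ((Module.length (X.presheaf.stalk x) (X.presheaf.stalk x ⧸ Ideal.span {a})).toNat : ℤ) =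
      ∑ᶠ ξ : {ξ : X // ξ ⤳ x ∧ δ ξ = k + 1},
        ((Module.length (X.presheaf.stalk ξ.1) (X.presheaf.stalk ξ.1)).toNat : ℤ) *
          Cyc.ordAt x ξ.1 ξ.2.1 (rdu ξ.1 (spz ξ.2.1 a)) := by
  classical
  have hR : Ring.KrullDimLE 1 (X.presheaf.stalk x) := by
    refine krullDimLE_of_coheight_le (Order.coheight_le_coe_iff.2 fun y hy => ?_)
    have h1 : δ x < δ y := delta_lt hδ hy
    have h2 : Order.coheight y = 0 := coheight_eq_zero_of_generic fun z hz =>
      eq_of_delta_le hδ hz (by have := hdim z; omega)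
    rw [h2]; exact_mod_cast one_pos
  have hmin : ∀ p ∈ minimalPrimes (X.presheaf.stalk x), a ∉ p := fun p hp h1 =>
    Set.disjoint_left.1 (Ideal.disjoint_nonZeroDivisors_of_mem_minimalPrimes hp) h1 ha
  have hquot : Module.length (X.presheaf.stalk x) ((X.presheaf.stalk x) ⧸ Ideal.span {a}) = Module.length (X.presheaf.stalk x) (Coker a (X.presheaf.stalk x)) := by
    refine LinearEquiv.length_eq (Submodule.quotEquivOfEq _ _ ?_)
    ext z
    rw [Ideal.mem_span_singleton']
    constructor
    · rintro ⟨c, rfl⟩; exact ⟨c, trivial, mul_comm a c⟩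
    · rintro ⟨c, -, rfl⟩; exact ⟨c, mul_comm c a⟩
  have hk0 : Module.length (X.presheaf.stalk x) (LinearMap.ker (LinearMap.lsmul (X.presheaf.stalk x) (X.presheaf.stalk x) a)) = 0 := by
    rw [Module.length_eq_zero_iff]
    refine subsingleton_of_forall_eq 0 fun m => Subtype.ext ?_
    have h0 : a * m.1 = 0 := m.2
    exact (mem_nonZeroDivisors_iff_left.1 ha) _ h0
  rw [hquot, length_quot_eq hR hmin (X.presheaf.stalk x), hk0, zero_add]
  let P := {ξ : X // ξ ⤳ x ∧ δ ξ = k + 1}
  let e : P → PrimeSpectrum (X.presheaf.stalk x) := fun ξ => ⟨genPrime ξ.2.1, inferInstance⟩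
  have he : Function.Injective e := by
    intro ξ η hξη
    have h1 : genPrime ξ.2.1 = genPrime η.2.1 := congrArg PrimeSpectrum.asIdeal hξη
    exact Subtype.ext ((specializes_of_le ξ.2.1 η.2.1 h1.le).antisymm (specializes_of_le η.2.1 ξ.2.1 h1.ge)).eq
  have hmem : ∀ ξ : P, (e ξ).asIdeal ∈ minimalPrimes (X.presheaf.stalk x) := by
    intro ξ
    refine ⟨⟨(e ξ).2, bot_le⟩, fun p hp hle => ?_⟩
    haveI := hp.1
    obtain ⟨z, hz, rfl⟩ := exists_genPrime_eq x p
    have h1 := eq_of_delta_le hδ (specializes_of_le hz ξ.2.1 hle) (by have := hdim z; have := ξ.2.2; omega)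
    subst h1
    exact le_rfl
  have hfin : {p : PrimeSpectrum (X.presheaf.stalk x) | p.asIdeal ∈ minimalPrimes (X.presheaf.stalk x)}.Finite :=
    (minimalPrimes.finite_of_isNoetherianRing (X.presheaf.stalk x)).preimage (fun p _ q _ he => PrimeSpectrum.ext he)
  haveI : Finite P :=
    Finite.of_injective (fun ξ => (⟨e ξ, hfin.mem_toFinset.2 (hmem ξ)⟩ : hfin.toFinset))
      fun ξ η h => he (congrArg Subtype.val h)
  haveI : Fintype P := Fintype.ofFinite P
  have hcoef : ∀ p : PrimeSpectrum (X.presheaf.stalk x), coef a p < ⊤ := fun p =>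
    length_lt_top_of_killed hR hmin _ fun m => by
      obtain ⟨c, rfl⟩ := Submodule.Quotient.mk_surjective _ m
      rw [← Submodule.Quotient.mk_smul, Submodule.Quotient.mk_eq_zero]
      exact Ideal.mem_sup_right (Ideal.mul_mem_right c _ (Ideal.mem_span_singleton_self a))
  have hlenξ : ∀ ξ : P, Module.length (X.presheaf.stalk ξ.1) (X.presheaf.stalk ξ.1) < ⊤ := fun ξ =>
    length_stalk_lt_top fun z hz => eq_of_delta_le hδ hz (by have := hdim z; have := ξ.2.2; omega)
  have hsum : (∑ᶠ (p : PrimeSpectrum (X.presheaf.stalk x)) (_ : p.asIdeal ∈ minimalPrimes (X.presheaf.stalk x)),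
      lenAt p (X.presheaf.stalk x) * coef a p) =
      ∑ ξ : P, Module.length (X.presheaf.stalk ξ.1) (X.presheaf.stalk ξ.1) * coef a (e ξ) := by
    refine (finsum_mem_eq_finite_toFinset_sum _ hfin).trans ?_
    refine (Finset.sum_of_injOn (s := (Finset.univ : Finset P))
      (f := fun ξ => Module.length (X.presheaf.stalk ξ.1) (X.presheaf.stalk ξ.1) * coef a (e ξ))
      (g := fun p => lenAt p (X.presheaf.stalk x) * coef a p)
      e he.injOn (fun ξ _ => hfin.mem_toFinset.2 (hmem ξ)) (fun p hp hne => ?_)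
      (fun ξ _ => congrArg (· * coef a (e ξ)) (lenAt_genPrime ξ.2.1).symm)).symm
    obtain ⟨z, hz, hzp⟩ := exists_genPrime_eq x p.asIdeal
    by_cases hzx : z = x
    · have hnot : a ∉ p.asIdeal := hmin _ (hfin.mem_toFinset.1 hp)
      rw [← hzp] at hnot
      subst hzx
      have hu : IsUnit a := by
        have h0 := not_not.1 fun h1 => hnot ((mem_genPrime hz a).2 h1)
        rw [show (X.presheaf.stalkSpecializes hz).hom a = a by
          rw [TopCat.Presheaf.stalkSpecializes_refl]; rfl] at h0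
        exact h0
      have htop : (⊤ : Ideal (X.presheaf.stalk z)) ≤ p.asIdeal ⊔ Ideal.span {a} := by
        rw [Ideal.span_singleton_eq_top.2 hu]; exact le_sup_right
      rw [coef, Module.length_eq_zero_iff.2 (Submodule.Quotient.subsingleton_iff.2 (top_le_iff.1 htop)),
        mul_zero]
    · have h1 := delta_lt hδ (lt_of_spec hz hzx)
      have hzk : δ z = k + 1 := by have := hdim z; omega
      exact absurd ⟨⟨z, hz, hzk⟩, Finset.mem_univ _, PrimeSpectrum.ext hzp⟩ hne
  rw [hsum, finsum_eq_sum_of_fintype]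
  have hterm : ∀ ξ : P, Module.length (X.presheaf.stalk ξ.1) (X.presheaf.stalk ξ.1) * coef a (e ξ) ≠ ⊤ := fun ξ =>
    WithTop.mul_ne_top (hlenξ ξ).ne (hcoef _).ne
  rw [ENat.toNat_sum fun ξ _ => hterm ξ, Nat.cast_sum]
  refine Finset.sum_congr rfl fun ξ _ => ?_
  rw [ENat.toNat_mul, Nat.cast_mul]
  refine congrArg _ (ordAt_spz ξ.2.1 hR ?_ (hcoef (e ξ))).symm
  exact hmin _ (hmem ξ)

end Groth.Agent.CycDim
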