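import Groth.Agent.CycDim.DegBase
import Groth.Agent.CycDim.Fund
import Groth.Agent.CurveP1.Basic
import Groth.Agent.ProjMor.Base
import Mathlib

/-!
The divisor of the coordinate on the projective line has degree zero.
-/

set_option autoImplicit false
set_option linter.style.haveILetI false
set_option backward.isDefEq.respectTransparency false

universe u

open CategoryTheory AlgebraicGeometry TopologicalSpace
open Groth.Agent.QC (resO)
open Groth.Agent.C1Cap (rdu)
open Groth.Agent.CDivNormal (genPrime)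

noncomputable section

namespace Groth.Agent.CycDeg

variable {K : Type u} [Field K]

theorem evaluation_resO {Y : Scheme.{u}} {U V : Y.Opens} (h : V ≤ U) {y : Y} (hy : y ∈ V) (a : Γ(Y, U)) :
    (Y.evaluation V y hy).hom (resO Y h a) = (Y.evaluation U y (h hy)).hom a :=
  congrArg (Y.residue y).hom (TopCat.Presheaf.germ_res_apply Y.presheaf (homOfLE h) y hy a)

/-- Constants are constants. -/
theorem evaluation_toGlobal {Y : Scheme.{u}} (q : Y ⟶ Spec (CommRingCat.of K)) {U : Y.Opens} {y : Y} (hy : y ∈ U)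
    (c : K) : (Y.evaluation U y hy).hom (resO Y le_top (ProjUP.toGlobal q c)) = WeilLib.kStr q y c := by
  rw [evaluation_resO]
  show _ = (Y.evaluation ⊤ y trivial).hom (q.appLE ⊤ ⊤ le_top ((Scheme.ΓSpecIso (CommRingCat.of K)).inv c))
  rw [show q.appLE ⊤ ⊤ le_top = q.appTop from Scheme.Hom.appLE_eq_app q]
  rfl

/-- The evaluation at a point with maximal prime is surjective. -/
theorem evaluation_surjective {Y : Scheme.{u}} {U : Y.Opens} (hU : IsAffineOpen U) {y : Y} (hy : y ∈ U)
    (hmax : (hU.primeIdealOf ⟨y, hy⟩).asIdeal.IsMaximal) :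
    Function.Surjective (Y.evaluation U y hy).hom := by
  intro z
  obtain ⟨z, rfl⟩ := IsLocalRing.residue_surjective z
  letI := Y.presheaf.algebra_section_stalk ⟨y, hy⟩
  haveI := hU.isLocalization_stalk ⟨y, hy⟩
  obtain ⟨⟨b, d⟩, hbd⟩ := IsLocalization.surj (hU.primeIdealOf ⟨y, hy⟩).asIdeal.primeCompl z
  obtain ⟨d', i, hi, hdi⟩ := hmax.exists_inv d.2
  have hker : ∀ a ∈ (hU.primeIdealOf ⟨y, hy⟩).asIdeal,
      IsLocalRing.residue (Y.presheaf.stalk y) (algebraMap Γ(Y, U) (Y.presheaf.stalk y) a) = 0 := fun a ha =>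
    (IsLocalRing.residue_eq_zero_iff _).2 ((IsLocalization.AtPrime.to_map_mem_maximal_iff _ _ a).2 ha)
  refine ⟨b * d', ?_⟩
  show IsLocalRing.residue (Y.presheaf.stalk y) (algebraMap Γ(Y, U) (Y.presheaf.stalk y) (b * d')) = _
  have h1 : IsLocalRing.residue (Y.presheaf.stalk y) (algebraMap Γ(Y, U) (Y.presheaf.stalk y) (d' * d)) = 1 := by
    rw [show d' * (d : Γ(Y, U)) = 1 - i from eq_sub_of_add_eq hdi, map_sub, map_one, map_sub, map_one, hker i hi,
      sub_zero]
  rw [map_mul (algebraMap Γ(Y, U) (Y.presheaf.stalk y)), ← hbd, mul_assoc,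
    ← map_mul (algebraMap Γ(Y, U) (Y.presheaf.stalk y)), map_mul, mul_comm _ d', h1, mul_one]

/-- An affine line chart: the coordinate has a simple zero at a rational point and no other zero. -/
theorem chart_zero {Y : Scheme.{u}} [IsIntegral Y] (q : Y ⟶ Spec (CommRingCat.of K)) [LocallyOfFiniteType q]
    {U : Y.Opens} (hU : IsAffineOpen U) (e : Γ(Y, U) ≃+* Polynomial K)
    (hC : ∀ c, e (resO Y le_top (ProjUP.toGlobal q c)) = Polynomial.C c) (s : Γ(Y, U)) (hs : e s = Polynomial.X)
    (hη : genericPoint Y ∈ U) (hd : WeilCoh.pdim Y (genericPoint Y) ≤ 1) :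
    (Y.evaluation U (genericPoint Y) hη).hom s ≠ 0 ∧ WeilCoh.pdim Y (genericPoint Y) = 1 ∧
    ∃ y₀ : Y, ∃ hy₀ : y₀ ∈ U, ¬ IsUnit ((Y.presheaf.germ U y₀ hy₀).hom s) ∧ IsClosed ({y₀} : Set Y) ∧
      q.residueDegree y₀ = 1 ∧
      Cyc.ordAt y₀ (genericPoint Y) (genericPoint_specializes y₀) ((Y.evaluation U (genericPoint Y) hη).hom s) = 1 ∧
      ∀ y ∈ U, y ≠ y₀ →
        Cyc.ordAt y (genericPoint Y) (genericPoint_specializes y) ((Y.evaluation U (genericPoint Y) hη).hom s) = 0 := by
  haveI : IsLocallyNoetherian Y := LocallyOfFiniteType.isLocallyNoetherian q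
  let Q : Ideal Γ(Y, U) := Ideal.span {s}
  have hQ : Q.IsMaximal := by
    have h1 : Q.map e = Ideal.span {Polynomial.X} := by rw [Ideal.map_span, Set.image_singleton, hs]
    haveI : (Ideal.span {(Polynomial.X : Polynomial K)}).IsMaximal :=
      PrincipalIdealRing.isMaximal_of_irreducible Polynomial.irreducible_X
    have h2 : Q = (Q.map e).comap e := (Ideal.comap_map_of_bijective e e.bijective).symm
    rw [h2, h1]
    exact Ideal.comap_isMaximal_of_surjective e e.surjective
  let y₀ : Y := hU.fromSpec ⟨Q, hQ.isPrime⟩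
  have hy₀ : y₀ ∈ U := hU.range_fromSpec.le ⟨_, rfl⟩
  have hp : hU.primeIdealOf ⟨y₀, hy₀⟩ = ⟨Q, hQ.isPrime⟩ :=
    hU.fromSpec.isOpenEmbedding.injective (hU.fromSpec_primeIdealOf ⟨y₀, hy₀⟩)
  have hgerm : ∀ (y : Y) (hy : y ∈ U) (a : Γ(Y, U)),
      IsUnit ((Y.presheaf.germ U y hy).hom a) ↔ a ∉ (hU.primeIdealOf ⟨y, hy⟩).asIdeal := by
    intro y hy a
    letI := Y.presheaf.algebra_section_stalk ⟨y, hy⟩
    haveI := hU.isLocalization_stalk ⟨y, hy⟩
    exact IsLocalization.AtPrime.isUnit_to_map_iff (Y.presheaf.stalk y) (hU.primeIdealOf ⟨y, hy⟩).asIdeal a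
  have hnu : ¬ IsUnit ((Y.presheaf.germ U y₀ hy₀).hom s) := fun h =>
    (hgerm y₀ hy₀ s).1 h (by rw [hp]; exact Ideal.subset_span rfl)
  have hinj : ∀ (y : Y), Function.Injective
      (fun a => rdu (genericPoint Y) ((Y.presheaf.stalkSpecializes (genericPoint_specializes y)).hom a)) := fun y =>
    (rdu (genericPoint Y)).injective.comp (RefStalk.stalkSpecializes_injective y)
  have hspec : ∀ (y : Y) (hy : y ∈ U), (Y.evaluation U (genericPoint Y) hη).hom s =
      rdu (genericPoint Y) ((Y.presheaf.stalkSpecializes (genericPoint_specializes y)).hom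
        ((Y.presheaf.germ U y hy).hom s)) := fun y hy =>
    congrArg (rdu (genericPoint Y)) (TopCat.Presheaf.germ_stalkSpecializes_apply (F := Y.presheaf) hy _ s).symm
  have hs0 : (Y.evaluation U (genericPoint Y) hη).hom s ≠ 0 := by
    have : Function.Injective (Y.presheaf.germ U (genericPoint Y) hη).hom :=
      germ_injective_of_isIntegral Y (genericPoint Y) hη
    refine fun h => Polynomial.X_ne_zero (R := K) (hs.symm.trans ?_)
    rw [show s = 0 from this (((rdu (genericPoint Y)).injective (h.trans (map_zero _).symm)).trans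
      (map_zero _).symm), map_zero]
  have hgp : genPrime (genericPoint_specializes y₀) = ⊥ := eq_bot_iff.2 fun a ha => by
    have h1 : rdu (genericPoint Y) ((Y.presheaf.stalkSpecializes (genericPoint_specializes y₀)).hom a) = 0 :=
      RingHom.mem_ker.1 ((CycDim.mem_genPrime_iff _ a).1 ha)
    exact (Submodule.mem_bot _).2 (hinj y₀ (h1.trans (map_zero ((rdu (genericPoint Y)).comp
      (Y.presheaf.stalkSpecializes (genericPoint_specializes y₀)).hom)).symm))
  have hne : y₀ ≠ genericPoint Y := fun h => hnu (by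
    have hu : IsUnit ((Y.presheaf.germ U (genericPoint Y) hη).hom s) :=
      IsUnit.mk0 _ fun h0 => hs0 ((congrArg (rdu (genericPoint Y)) h0).trans (map_zero _))
    generalize hy₀ = hy₀
    revert hy₀
    rw [h]
    exact fun _ => hu)
  have hlt := WeilLib.pdim_lt q (genericPoint_specializes y₀) hne
  have hres : Function.Surjective (q.residueFieldMap y₀).hom := by
    intro z
    obtain ⟨a, rfl⟩ := evaluation_surjective hU hy₀ (by rw [hp]; exact hQ) z
    refine ⟨WeilLib.kStr (𝟙 _) (q y₀) ((e a).coeff 0), ?_⟩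
    rw [show (q.residueFieldMap y₀).hom (WeilLib.kStr (𝟙 _) (q y₀) ((e a).coeff 0)) = WeilLib.kStr q y₀ ((e a).coeff 0)
      from RingHom.congr_fun (WeilLib.kStr_comp q q (𝟙 _) (Category.comp_id q) y₀) _,
      ← evaluation_toGlobal q hy₀]
    have hdec : a = s * e.symm (e a).divX + resO Y le_top (ProjUP.toGlobal q ((e a).coeff 0)) := by
      apply e.injective
      rw [map_add, map_mul, hs, hC, e.apply_symm_apply, Polynomial.X_mul_divX_add]
    have hz : (Y.evaluation U y₀ hy₀).hom s = 0 :=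
      (IsLocalRing.residue_eq_zero_iff _).2 ((IsLocalRing.mem_maximalIdeal _).2 hnu)
    conv_rhs => rw [hdec, map_add, map_mul, hz, zero_mul, zero_add]
  have hdeg := residueDegree_eq_one q hres
  have hy0pd : WeilCoh.pdim Y y₀ = 0 := by
    rw [← WeilLib.pdim_eq_of_residueDegree_ne_zero q q (𝟙 _) (Category.comp_id q) (x := y₀) (by omega)]
    exact (WeilLib.pdim_eq_zero_iff (𝟙 _) _).mpr (isClosed_singleton (x := q y₀))
  refine ⟨hs0, by omega, y₀, hy₀, hnu, (WeilLib.pdim_eq_zero_iff q y₀).1 hy0pd, hdeg, ?_, fun y hy hyne => ?_⟩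
  · rw [hspec y₀ hy₀]
    refine (CycPull.ordAt_eq_length (isDimFun_dl q) (genericPoint_specializes y₀) ?_ ?_).trans ?_
    · simp only [dl]; omega
    · rw [hgp, Submodule.mem_bot]
      exact fun h0 => hs0 (by rw [hspec y₀ hy₀, h0, map_zero, map_zero])
    · letI := Y.presheaf.algebra_section_stalk ⟨y₀, hy₀⟩
      haveI := hU.isLocalization_stalk ⟨y₀, hy₀⟩
      have hm : genPrime (genericPoint_specializes y₀) ⊔ Ideal.span {(Y.presheaf.germ U y₀ hy₀).hom s} =
          IsLocalRing.maximalIdeal (Y.presheaf.stalk y₀) := by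
        rw [hgp, bot_sup_eq, ← IsLocalization.AtPrime.map_eq_maximalIdeal (hU.primeIdealOf ⟨y₀, hy₀⟩).asIdeal
          (Y.presheaf.stalk y₀), hp]
        exact ((Ideal.map_span (algebraMap Γ(Y, U) (Y.presheaf.stalk y₀)) {s}).trans
          (congrArg Ideal.span Set.image_singleton)).symm
      rw [hm]
      haveI : IsSimpleModule (Y.presheaf.stalk y₀)
          (Y.presheaf.stalk y₀ ⧸ IsLocalRing.maximalIdeal (Y.presheaf.stalk y₀)) :=
        isSimpleModule_iff_isCoatom.2 (IsLocalRing.maximalIdeal.isMaximal _).out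
      rw [Module.length_eq_one]
      rfl
  · rw [hspec y hy]
    refine C1Cap.ordAt_unit _ ((hgerm y hy s).2 fun hmem => hyne ?_)
    have : (hU.primeIdealOf ⟨y, hy⟩).asIdeal = Q :=
      (hQ.eq_of_le (hU.primeIdealOf ⟨y, hy⟩).isPrime.ne_top ((Ideal.span_singleton_le_iff_mem _).2 hmem)).symm
    have h2 := congrArg hU.fromSpec (PrimeSpectrum.ext (y := ⟨Q, hQ.isPrime⟩) this)
    rw [hU.fromSpec_primeIdealOf] at h2
    exact h2

variable (K)

/-- The projective line. -/
abbrev P1 : Scheme.{u} := Proj (CohB1.polyGrading 1 K)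

/-- Its structure morphism. -/
abbrev str : P1 K ⟶ Spec (CommRingCat.of K) := ProjMor.base (CohB1.polyGrading 1 K)

/-- The standard charts. -/
abbrev chartU (i : Fin 2) : (P1 K).Opens := Proj.basicOpen (CohB1.polyGrading 1 K) (MvPolynomial.X i)

/-- The affine coordinate of a chart. -/
abbrev coord (i : Fin 2) : Γ(P1 K, chartU K i) :=
  GrT.deh _ (CurveP1.X_mem K i) (MvPolynomial.X (i + 1))

theorem exists_chart_coord (i : Fin 2) :
    ∃ e : Γ(P1 K, chartU K i) ≃+* Polynomial K,
      (∀ c, e (resO (P1 K) le_top (ProjUP.toGlobal (str K) c)) = Polynomial.C c) ∧ e (coord K i) = Polynomial.X := by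
  let φ : MvPolynomial (Fin 2) K →+* Polynomial K :=
    MvPolynomial.eval₂Hom Polynomial.C (fun j => if j = i then 1 else Polynomial.X)
  have hne : (i + 1 : Fin 2) ≠ i := by fin_cases i <;> simp
  have hφ : φ (MvPolynomial.X i) = 1 := by simp [φ]
  let ψ : Polynomial K →+* Γ(P1 K, chartU K i) :=
    Polynomial.eval₂RingHom ((GrT.deh _ (CurveP1.X_mem K i)).comp (algebraMap K (MvPolynomial (Fin 2) K)))
      (coord K i)
  have hψ : ψ.comp φ = GrT.deh _ (CurveP1.X_mem K i) := by
    refine MvPolynomial.ringHom_ext (fun c => ?_) (fun j => ?_)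
    · simp [φ, ψ, MvPolynomial.algebraMap_eq]
    · by_cases h : j = i
      · subst h
        rw [RingHom.comp_apply, hφ, map_one, GrT.deh_self]
      · obtain rfl : j = i + 1 := by
          fin_cases i <;> fin_cases j <;> simp_all
        simp [φ, ψ, h]
  have hX : ProjMor.chartHom (CurveP1.X_mem K i) φ hφ (coord K i) = Polynomial.X := by
    rw [ProjMor.chartHom_deh]
    simp [φ, hne]
  refine ⟨RingEquiv.ofBijective (ProjMor.chartHom (CurveP1.X_mem K i) φ hφ) ⟨fun a b hab => ?_, fun p => ?_⟩,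
    fun c => ?_, hX⟩
  · obtain ⟨a, rfl⟩ := ProjMor.exists_deh_eq (CurveP1.X_mem K i) a
    obtain ⟨b, rfl⟩ := ProjMor.exists_deh_eq (CurveP1.X_mem K i) b
    rw [ProjMor.chartHom_deh, ProjMor.chartHom_deh] at hab
    rw [← hψ, RingHom.comp_apply, RingHom.comp_apply, hab]
  · refine ⟨ψ p, ?_⟩
    induction p using Polynomial.induction_on' with
    | add p q hp hq => rw [map_add, map_add, hp, hq]
    | monomial m c => simp [φ, ψ, coord, ProjMor.chartHom_deh, hne, Polynomial.C_mul_X_pow_eq_monomial]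
  · rw [RingEquiv.ofBijective_apply, ProjMor.res_toGlobal_base _ (CurveP1.X_mem K i), ProjMor.chartHom_deh]
    simp [φ, MvPolynomial.algebraMap_eq]

theorem isProper_str : IsProper (str K) := ProjMor.isProper_toSpec 1 K

theorem isAffineOpen_chartU (i : Fin 2) : IsAffineOpen (chartU K i) :=
  ProjLib.isAffineOpen_basicOpen _ (CurveP1.X_mem K i) one_pos

theorem mem_chartU_cases (y : P1 K) : y ∈ chartU K 0 ∨ y ∈ chartU K 1 := by
  obtain ⟨⟨i⟩, hi⟩ := CohFinite.cov_X 1 K y
  have h := (ProjectiveSpectrum.mem_basicOpen _ _ y).mpr hi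
  fin_cases i
  · exact Or.inl h
  · exact Or.inr h

instance : IsIntegral (P1 K) := CurveP1.isIntegral K

theorem genericPoint_mem (i : Fin 2) : genericPoint (P1 K) ∈ chartU K i := by
  obtain ⟨e, -⟩ := exists_chart_coord K i
  refine ((genericPoint_spec (P1 K)).mem_open_set_iff (chartU K i).2).2 ?_
  rw [Set.univ_inter]
  haveI : Nontrivial Γ(P1 K, chartU K i) := e.toEquiv.nontrivial
  exact ⟨(isAffineOpen_chartU K i).fromSpec (Classical.arbitrary _),
    (isAffineOpen_chartU K i).range_fromSpec.le ⟨_, rfl⟩⟩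

/-- The coordinate as a rational function. -/
def tRat : (P1 K).residueField (genericPoint (P1 K)) :=
  ((P1 K).evaluation (chartU K 0) _ (genericPoint_mem K 0)).hom (coord K 0)

/-- The divisor of the coordinate on the projective line has degree zero. -/
theorem degree_tRat (hd : WeilCoh.pdim (P1 K) (genericPoint (P1 K)) ≤ 1) :
    tRat K ≠ 0 ∧ ∑ᶠ y, Cyc.divFun (dl (P1 K)) (genericPoint (P1 K)) (tRat K) y * ((str K).residueDegree y : ℤ) = 0 := by
  classical
  haveI := isProper_str K
  obtain ⟨e0, he0, hX0⟩ := exists_chart_coord K 0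
  obtain ⟨e1, he1, hX1⟩ := exists_chart_coord K 1
  obtain ⟨ht, hη, a, ha, hau, hacl, hadeg, haord, hao⟩ :=
    chart_zero (str K) (isAffineOpen_chartU K 0) e0 he0 _ hX0 (genericPoint_mem K 0) hd
  obtain ⟨ht1, -, b, hb, hbu, hbcl, hbdeg, hbord, hbo⟩ :=
    chart_zero (str K) (isAffineOpen_chartU K 1) e1 he1 _ hX1 (genericPoint_mem K 1) hd
  have ht' : tRat K ≠ 0 := ht
  let V := chartU K 0 ⊓ chartU K 1
  have hprod : resO (P1 K) (inf_le_left : V ≤ _) (coord K 0) * resO (P1 K) (inf_le_right : V ≤ _) (coord K 1) = 1 := by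
    have h := GrT.deh_inv (CohB1.polyGrading 1 K) (CurveP1.X_mem K 0) (CurveP1.X_mem K 1) 1
      (inf_le_left : V ≤ _) (inf_le_right : V ≤ _)
    rw [pow_one, pow_one] at h
    exact h
  have hinv : ((P1 K).evaluation (chartU K 1) _ (genericPoint_mem K 1)).hom (coord K 1) = (tRat K)⁻¹ := by
    refine eq_inv_of_mul_eq_one_right ?_
    have h := congrArg ((P1 K).evaluation V _ ⟨genericPoint_mem K 0, genericPoint_mem K 1⟩).hom hprod
    rw [map_mul, map_one, evaluation_resO, evaluation_resO] at h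
    exact h
  have hb0 : b ∉ chartU K 0 := by
    intro hb0
    have h := congrArg ((P1 K).presheaf.germ V b ⟨hb0, hb⟩).hom hprod
    rw [map_mul, map_one] at h
    refine hbu ?_
    have h2 := IsUnit.of_mul_eq_one_right _ h
    rw [show ((P1 K).presheaf.germ V b ⟨hb0, hb⟩).hom (resO (P1 K) inf_le_right (coord K 1)) =
      ((P1 K).presheaf.germ (chartU K 1) b hb).hom (coord K 1) from TopCat.Presheaf.germ_res_apply _ _ _ _ _] at h2
    exact h2
  have hval : ∀ y : P1 K, y ≠ a → y ≠ b → Cyc.divFun (dl (P1 K)) (genericPoint (P1 K)) (tRat K) y = 0 := by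
    intro y hya hyb
    unfold Cyc.divFun
    split
    swap
    · rfl
    rcases mem_chartU_cases K y with hy | hy
    · exact hao y hy hya
    · have := hbo y hy hyb
      rw [hinv, C1Cap.ordAt_inv _ ht', neg_eq_zero] at this
      exact this
  have hdl : ∀ y : P1 K, IsClosed ({y} : Set (P1 K)) → dl (P1 K) y + 1 = dl (P1 K) (genericPoint (P1 K)) := by
    intro y hy
    simp only [dl, hη, (WeilLib.pdim_eq_zero_iff (str K) y).2 hy]
    norm_num
  have hva : Cyc.divFun (dl (P1 K)) (genericPoint (P1 K)) (tRat K) a = 1 := by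
    unfold Cyc.divFun
    rw [dif_pos ⟨genericPoint_specializes a, hdl a hacl⟩]
    exact haord
  have hvb : Cyc.divFun (dl (P1 K)) (genericPoint (P1 K)) (tRat K) b = -1 := by
    unfold Cyc.divFun
    rw [dif_pos ⟨genericPoint_specializes b, hdl b hbcl⟩]
    have := hbord
    rw [hinv, C1Cap.ordAt_inv _ ht'] at this
    omega
  have hab : a ≠ b := fun h => hb0 (h ▸ ha)
  refine ⟨ht, ?_⟩
  rw [finsum_eq_finsetSum_of_support_subset _ (s := {a, b}) (fun y hy => by
      by_contra h
      simp only [Finset.coe_insert, Finset.coe_singleton, Set.mem_insert_iff, Set.mem_singleton_iff, not_or] at h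
      exact hy (by simp [hval y h.1 h.2])),
    Finset.sum_pair hab, hva, hvb, hadeg, hbdeg]
  norm_num

end Groth.Agent.CycDeg
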