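import Groth.Agent.CycDim.PullDiv
import Mathlib

/-!
Flat pullback preserves rational equivalence to zero.
-/

set_option autoImplicit false
set_option linter.style.haveILetI false

universe u

open CategoryTheory AlgebraicGeometry TopologicalSpace
open Groth.Agent.EquidimPt (IsFibMax)

noncomputable section

namespace Groth.Agent.CycPull

variable {X Y : Scheme.{u}}

theorem finsum_sigma_eq {ι : Type*} {β : ι → Type*} {M : Type*} [AddCommMonoid M] (h : (Σ i, β i) → M)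
    (I : Finset ι) (T : (i : ι) → Finset (β i)) (hI : ∀ i (b : β i), h ⟨i, b⟩ ≠ 0 → i ∈ I ∧ b ∈ T i) :
    ∑ᶠ p, h p = ∑ᶠ i, ∑ᶠ b, h ⟨i, b⟩ := by
  classical
  have h1 : ∀ i, ∑ᶠ b, h ⟨i, b⟩ = ∑ b ∈ T i, h ⟨i, b⟩ := fun i =>
    finsum_eq_sum_of_support_subset _ fun b hb => (hI i b hb).2
  rw [finsum_congr h1, finsum_eq_sum_of_support_subset _ (s := I.sigma T) fun p hp =>
    Finset.mem_coe.2 (Finset.mem_sigma.2 ⟨(hI p.1 p.2 hp).1, (hI p.1 p.2 hp).2⟩),
    finsum_eq_sum_of_support_subset _ (s := I) fun i hi => ?_, Finset.sum_sigma]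
  by_contra hn
  exact hi (Finset.sum_eq_zero fun b _ => by_contra fun hb => hn (hI i b hb).1)

/-- The points over `η` maximal in their fibre in an affine open form a finite set. -/
theorem finite_over [IsLocallyNoetherian X] (f : X ⟶ Y) (η : Y) {U : X.Opens} (hU : IsAffineOpen U) :
    {ξ : {ξ : X // f ξ = η ∧ IsFibMax f ξ} | ξ.1 ∈ U}.Finite := by
  refine Set.Finite.subset
    ((CycDiv.finite_maximal (isClosed_closure.preimage f.continuous (t := closure ({η} : Set Y))) hU).preimage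
      Subtype.val_injective.injOn) ?_
  rintro ⟨ξ, hξη, hm⟩ hξU
  refine ⟨hξU, show f ξ ∈ closure {η} from hξη ▸ subset_closure rfl, fun y hy hyξ => ?_⟩
  exact hm y ((hyξ.map f.continuous).antisymm (hξη.symm ▸ specializes_iff_mem_closure.2 hy)).eq hyξ

theorem divFun_pow {δ : X → ℤ} (ξ : X) {g : X.residueField ξ} (hg : g ≠ 0) (n : ℕ) (x : X) :
    Cyc.divFun δ ξ (g ^ n) x = (n : ℤ) * Cyc.divFun δ ξ g x := by
  unfold Cyc.divFun
  split
  · next h => rw [← zpow_natCast, C1Cap.ordAt_zpow h.1 hg]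
  · rw [mul_zero]

theorem pullFun_sub (f : X ⟶ Y) (δX : X → ℤ) (δY : Y → ℤ) (c : ℤ) (α β : Y → ℤ) :
    Cyc.pullFun f δX δY c (α - β) = Cyc.pullFun f δX δY c α - Cyc.pullFun f δX δY c β := by
  funext x
  unfold Cyc.pullFun
  simp only [Pi.sub_apply]
  split_ifs <;> simp [sub_mul]

/-- Flat pullback preserves rational equivalence to zero. -/
theorem ratEquivZero_pull [IsLocallyNoetherian X] [IsLocallyNoetherian Y] (f : X ⟶ Y) [Flat f] {δX : X → ℤ}
    {δY : Y → ℤ} (hX : Cyc.IsDimFun X δX) (hY : Cyc.IsDimFun Y δY) {c : ℤ}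
    (hc : ∀ x : X, IsFibMax f x → δX x = δY (f x) + c) {k : ℤ} {α : AlgebraicCycle Y ℤ}
    (h0 : Cyc.RatEquivZero δY k α) {α' : AlgebraicCycle X ℤ} (hα' : ⇑α' = Cyc.pullFun f δX δY c ⇑α) :
    Cyc.RatEquivZero δX (k + c) α' := by
  classical
  obtain ⟨ι, η, g, hη, hg, hloc, hsum⟩ := h0
  let m : X → ℕ := fun ξ => (Module.length (X.presheaf.stalk ξ) (X.presheaf.stalk ξ ⧸
    Ideal.map (f.stalkMap ξ).hom (IsLocalRing.maximalIdeal (Y.presheaf.stalk (f ξ))))).toNat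
  let P : ι → Type u := fun i => {ξ : X // f ξ = η i ∧ IsFibMax f ξ}
  let G : (p : Σ i, P i) → X.residueField p.2.1 := fun p =>
    f.residueFieldMap p.2.1 ((Y.residueFieldCongr p.2.2.1.symm).hom (g p.1))
  have hG : ∀ p, G p ≠ 0 := fun p => (map_ne_zero _).2 ((map_ne_zero _).2 (hg p.1))
  have hnear : ∀ x : X, ∃ U : X.Opens, x ∈ U ∧ ∃ (I : Finset ι) (T : (i : ι) → Finset (P i)),
      ∀ i (ξ : P i), ξ.1 ∈ U → i ∈ I ∧ ξ ∈ T i := by
    intro x
    obtain ⟨V, hV, hxV, hfin⟩ := hloc (f x)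
    obtain ⟨U, hU, hxU, hUV⟩ := exists_isAffineOpen_mem_and_subset (x := x) (U := f ⁻¹ᵁ ⟨V, hV⟩) hxV
    refine ⟨U, hxU, hfin.toFinset, fun i => (finite_over f (η i) hU).toFinset, fun i ξ hξ =>
      ⟨hfin.mem_toFinset.2 ⟨η i, subset_closure rfl, ξ.2.1 ▸ hUV hξ⟩, (Set.Finite.mem_toFinset _).2 hξ⟩⟩
  refine ⟨Σ i, P i, fun p => p.2.1, fun p => G p ^ m p.2.1, fun p => ?_, fun p => pow_ne_zero _ (hG p),
    fun x => ?_, fun x => ?_⟩
  · show δX p.2.1 = _
    rw [hc _ p.2.2.2, p.2.2.1, hη]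
    ring
  · obtain ⟨U, hxU, I, T, hT⟩ := hnear x
    refine ⟨U, U.2, hxU, (I.sigma T).finite_toSet.subset ?_⟩
    rintro ⟨i, ξ⟩ ⟨z, hz, hzU⟩
    exact Finset.mem_coe.2 (Finset.mem_sigma.2 (hT i ξ ((specializes_iff_mem_closure.2 hz).mem_open U.2 hzU)))
  · obtain ⟨U, hxU, I, T, hT⟩ := hnear x
    have hterm : ∀ p : Σ i, P i, Cyc.divFun δX p.2.1 (G p ^ m p.2.1) x ≠ 0 → p.1 ∈ I ∧ p.2 ∈ T p.1 := by
      intro p hp
      refine hT p.1 p.2 ?_
      unfold Cyc.divFun at hp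
      split at hp
      · next h => exact h.1.mem_open U.2 hxU
      · exact absurd rfl hp
    rw [finsum_sigma_eq _ I T fun i b hb => hterm ⟨i, b⟩ hb, hα']
    have h1 : Cyc.pullFun f δX δY c (⇑α) x = ∑ᶠ i, Cyc.pullFun f δX δY c (Cyc.divFun δY (η i) (g i)) x := by
      unfold Cyc.pullFun
      split
      · rw [hsum (f x), finsum_mul]
      · exact finsum_zero.symm
    rw [h1]
    refine finsum_congr fun i => ?_
    rw [pullFun_divFun f hX hY hc (η i) (hg i) x]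
    exact finsum_congr fun ξ => (divFun_pow ξ.1 (hG ⟨i, ξ⟩) (m ξ.1) x).symm

end Groth.Agent.CycPull
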