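import Groth.Agent.CycDim.DegP1
import Groth.Agent.CycDim.PullRat
import Mathlib

/-!
Principal divisors on a curve proper over a field have degree zero.
-/

set_option autoImplicit false
set_option linter.style.haveILetI false
set_option backward.isDefEq.respectTransparency false

universe u

open CategoryTheory CategoryTheory.Limits AlgebraicGeometry TopologicalSpace
open Groth.Agent.QC (resO)
open Groth.Agent.C1Cap (rdu)

noncomputable section

namespace Groth.Agent.CycDeg

variable {K : Type u} [Field K]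

/-- The structure morphism on an affine open. -/
theorem fromSpec_comp {Y : Scheme.{u}} (q : Y ⟶ Spec (CommRingCat.of K)) {U : Y.Opens} (hU : IsAffineOpen U) :
    hU.fromSpec ≫ q = Spec.map (CommRingCat.ofHom (WeilLib.secStr q U)) := by
  rw [← IsAffineOpen.SpecMap_appLE_fromSpec q (isAffineOpen_top _) hU (le_top : U ≤ q ⁻¹ᵁ ⊤),
    IsAffineOpen.fromSpec_top, Scheme.isoSpec_Spec_inv, ← Spec.map_comp]
  rfl

theorem fromSpecResidueField_eq {Y : Scheme.{u}} {U : Y.Opens} (hU : IsAffineOpen U) {y : Y} (hy : y ∈ U) :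
    Y.fromSpecResidueField y = Spec.map (Y.evaluation U y hy) ≫ hU.fromSpec := by
  show Spec.map (Y.residue y) ≫ Y.fromSpecStalk y = _
  rw [← hU.fromSpecStalk_eq_fromSpecStalk hy, IsAffineOpen.fromSpecStalk, Scheme.evaluation, Spec.map_comp,
    Category.assoc]

theorem fromSpecResidueField_comp {Y : Scheme.{u}} (q : Y ⟶ Spec (CommRingCat.of K)) (y : Y) :
    Y.fromSpecResidueField y ≫ q = Spec.map (CommRingCat.ofHom (WeilLib.kStr q y)) := by
  obtain ⟨U, hU, hy, -⟩ := exists_isAffineOpen_mem_and_subset (x := y) (U := (⊤ : Y.Opens)) trivial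
  rw [fromSpecResidueField_eq hU hy, Category.assoc, fromSpec_comp q hU, ← Spec.map_comp]
  congr 1
  exact CommRingCat.hom_ext (WeilLib.evaluation_comp_secStr q hy)

variable {X : Scheme.{u}} (c : X ⟶ Spec (CommRingCat.of K)) [IsProper c]

/-- The degree zero statement for a function read off from a point of the graph. -/
theorem degree_aux (ζ : ↥(pullback c (str K))) (hd : WeilCoh.pdim X (pullback.fst c (str K) ζ) = 1)
    (hs : Function.Surjective ((pullback.fst c (str K)).residueFieldMap ζ).hom)
    (hη : pullback.snd c (str K) ζ = genericPoint (P1 K))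
    (g : X.residueField (pullback.fst c (str K) ζ))
    (hg : ((pullback.fst c (str K)).residueFieldMap ζ).hom g =
      ((pullback.snd c (str K)).residueFieldMap ζ).hom (((P1 K).residueFieldCongr hη.symm).hom (tRat K))) :
    g ≠ 0 ∧
      ∑ᶠ x, Cyc.divFun (dl X) (pullback.fst c (str K) ζ) g x * (c.residueDegree x : ℤ) = 0 := by
  classical
  haveI := isProper_str K
  let π := pullback.fst c (str K)
  let q := pullback.snd c (str K)
  let W := pullback c (str K)
  let cW : W ⟶ Spec (CommRingCat.of K) := π ≫ c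
  haveI : IsProper cW := inferInstanceAs (IsProper (π ≫ c))
  haveI : IsLocallyNoetherian W := LocallyOfFiniteType.isLocallyNoetherian cW
  haveI : IsLocallyNoetherian X := LocallyOfFiniteType.isLocallyNoetherian c
  haveI : IsLocallyNoetherian (P1 K) := LocallyOfFiniteType.isLocallyNoetherian (str K)
  haveI : CompactSpace W := QuasiCompact.compactSpace_of_compactSpace cW
  haveI : CompactSpace (P1 K) := QuasiCompact.compactSpace_of_compactSpace (str K)
  have hq : q ≫ str K = cW := pullback.condition.symm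
  have hδp : Cyc.DeltaCompat π (dl W) (dl X) := deltaCompat_over cW c π rfl
  have hδq : Cyc.DeltaCompat q (dl W) (dl (P1 K)) := deltaCompat_over cW (str K) q hq
  have hdeg1 := residueDegree_eq_one π hs
  have hζ : dl W ζ = dl X (π ζ) := by
    have h := WeilLib.pdim_eq_of_residueDegree_ne_zero cW π c rfl (x := ζ) (by rw [hdeg1]; exact one_ne_zero)
    simp only [dl]; omega
  have hζ1 : dl W ζ = 1 := by rw [hζ]; simp only [dl]; exact_mod_cast hd
  have hP1 : WeilCoh.pdim (P1 K) (genericPoint (P1 K)) ≤ 1 := by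
    obtain ⟨n, -, hn⟩ := hδq ζ
    rw [hζ1, hη] at hn
    simp only [dl] at hn
    omega
  obtain ⟨ht, hdegP⟩ := degree_tRat K hP1
  have hPη : WeilCoh.pdim (P1 K) (genericPoint (P1 K)) = 1 := by
    obtain ⟨e0, he0, hX0⟩ := exists_chart_coord K 0
    exact (chart_zero (str K) (isAffineOpen_chartU K 0) e0 he0 _ hX0 (genericPoint_mem K 0) hP1).2.1
  have hξq : dl W ζ = dl (P1 K) (q ζ) := by
    rw [hζ1, show q ζ = genericPoint (P1 K) from hη]; simp only [dl, hPη]; rfl
  have aux : ∀ (y : P1 K) (h : y = genericPoint (P1 K)),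
      ((P1 K).residueFieldCongr h.symm).hom (tRat K) ≠ 0 ∧ ∑ᶠ x, Cyc.divFun (dl (P1 K)) y
        (((P1 K).residueFieldCongr h.symm).hom (tRat K)) x * ((str K).residueDegree x : ℤ) = 0 := by
    rintro y rfl
    rw [Scheme.residueFieldCongr_refl]
    exact ⟨ht, hdegP⟩
  let t : (P1 K).residueField (q ζ) := ((P1 K).residueFieldCongr hη.symm).hom (tRat K)
  obtain ⟨ht0, hdegt⟩ := aux (q ζ) hη
  let f : W.residueField ζ := (q.residueFieldMap ζ).hom t
  have hf : f ≠ 0 := (map_ne_zero _).2 ht0
  have hg0 : g ≠ 0 := fun h => hf (by show (q.residueFieldMap ζ).hom t = 0; rw [← hg, h, map_zero])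
  refine ⟨hg0, ?_⟩
  have hnormp : Cyc.normGen π ζ f = g := by
    rw [show f = (π.residueFieldMap ζ).hom g from hg.symm]
    letI := (π.residueFieldMap ζ).hom.toAlgebra
    show Algebra.norm (X.residueField (π ζ)) (algebraMap (X.residueField (π ζ)) (W.residueField ζ) g) = g
    rw [Algebra.norm_algebraMap, show Module.finrank (X.residueField (π ζ)) (W.residueField ζ) = 1 from hdeg1, pow_one]
  have hnormq : Cyc.normGen q ζ f = t ^ q.residueDegree ζ := by
    letI := (q.residueFieldMap ζ).hom.toAlgebra
    exact Algebra.norm_algebraMap t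
  have hW := isDimFun_dl cW
  have hfin := finite_support_divFun hW ζ hf
  have ha0 : ∀ x, Cyc.divFun (dl W) ζ f x ≠ 0 → dl W x = 0 := fun x hx => by
    have := (divFun_delta hx).2
    omega
  have hpos : ∀ {Z : Scheme.{u}} (z : Z), 0 ≤ dl Z z := fun z => Int.natCast_nonneg _
  have h1 := deg_push π cW c rfl hδp hpos _ ha0 hfin
  have h2 := deg_push q cW (str K) hq hδq hpos _ ha0 hfin
  simp only [CycPush.pushFun_divFun π hW (isDimFun_dl c) hδp ζ hζ f hf, hnormp] at h1
  simp only [CycPush.pushFun_divFun q hW (isDimFun_dl (str K)) hδq ζ hξq f hf, hnormq] at h2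
  rw [h1, ← h2]
  rw [finsum_congr fun x => show Cyc.divFun (dl (P1 K)) (q ζ) (t ^ q.residueDegree ζ) x * ((str K).residueDegree x : ℤ) =
    (q.residueDegree ζ : ℤ) * (Cyc.divFun (dl (P1 K)) (q ζ) t x * ((str K).residueDegree x : ℤ)) by
      rw [CycPull.divFun_pow (q ζ) (g := t) ht0, mul_assoc]]
  have hsupp : Function.HasFiniteSupport fun x =>
      Cyc.divFun (dl (P1 K)) (q ζ) t x * ((str K).residueDegree x : ℤ) :=
    (finite_support_divFun (isDimFun_dl (str K)) (q ζ) (f := t) ht0).subset fun x hx h0 =>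
      hx (show Cyc.divFun (dl (P1 K)) (q ζ) t x * ((str K).residueDegree x : ℤ) = 0 by rw [h0, zero_mul])
  rw [← mul_finsum' _ _ hsupp]
  show (q.residueDegree ζ : ℤ) * _ = 0
  rw [hdegt, mul_zero]

/-- Degree zero for functions with transcendental value. -/
theorem degree_transcendental (ξ : X) (hξ : WeilCoh.pdim X ξ = 1) (g : X.residueField ξ)
    (hg : ∀ p : Polynomial K, p.eval₂ (WeilLib.kStr c ξ) g = 0 → p = 0) :
    g ≠ 0 ∧ ∑ᶠ x, Cyc.divFun (dl X) ξ g x * (c.residueDegree x : ℤ) = 0 := by
  haveI := isProper_str K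
  obtain ⟨e, he, hX⟩ := exists_chart_coord K 0
  let φ : Γ(P1 K, chartU K 0) →+* X.residueField ξ := (Polynomial.eval₂RingHom (WeilLib.kStr c ξ) g).comp e.toRingHom
  have hφ : Function.Injective φ := by
    show Function.Injective (⇑(Polynomial.eval₂RingHom (WeilLib.kStr c ξ) g) ∘ ⇑e)
    refine Function.Injective.comp ?_ e.injective
    rw [injective_iff_map_eq_zero]
    exact fun p hp => hg p hp
  haveI : Nonempty (chartU K 0) := ⟨⟨_, genericPoint_mem K 0⟩⟩
  haveI := functionField_isFractionRing_of_isAffineOpen (P1 K) _ (isAffineOpen_chartU K 0)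
  let ρ := RingEquiv.ofBijective (rdu (genericPoint (P1 K))) ⟨(rdu (genericPoint (P1 K))).injective,
    Ideal.Quotient.mk_surjective⟩
  let α : (P1 K).residueField (genericPoint (P1 K)) →+* X.residueField ξ :=
    (IsFractionRing.lift (A := Γ(P1 K, chartU K 0)) (K := (P1 K).functionField) hφ).comp ρ.symm.toRingHom
  have hα : ∀ a, α (((P1 K).evaluation (chartU K 0) _ (genericPoint_mem K 0)).hom a) = φ a := by
    intro a
    show (IsFractionRing.lift hφ) (ρ.symm (ρ (algebraMap Γ(P1 K, chartU K 0) (P1 K).functionField a))) = φ a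
    rw [ρ.symm_apply_apply, IsFractionRing.lift_algebraMap]
  let m : Spec (X.residueField ξ) ⟶ P1 K :=
    Spec.map (CommRingCat.ofHom α) ≫ (P1 K).fromSpecResidueField _
  have hw : X.fromSpecResidueField ξ ≫ c = m ≫ str K := by
    rw [fromSpecResidueField_comp, Category.assoc, fromSpecResidueField_comp, ← Spec.map_comp]
    congr 1
    refine CommRingCat.hom_ext (RingHom.ext fun a => ?_)
    show WeilLib.kStr c ξ a = α (WeilLib.kStr (str K) _ a)
    rw [← evaluation_toGlobal (str K) (genericPoint_mem K 0), hα]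
    show _ = Polynomial.eval₂ _ g (e _)
    rw [he, Polynomial.eval₂_C]
  let l : Spec (CommRingCat.of ↥(X.residueField ξ)) ⟶ pullback c (str K) := pullback.lift (X.fromSpecResidueField ξ) m hw
  let pt : ↥(Spec (CommRingCat.of ↥(X.residueField ξ))) := IsLocalRing.closedPoint (X.residueField ξ)
  let w : (pullback c (str K)).residueField (l pt) ⟶ CommRingCat.of ↥(X.residueField ξ) :=
    Scheme.descResidueField (K := ↥(X.residueField ξ)) (Scheme.stalkClosedPointTo l)
  have hlw : Spec.map w ≫ (pullback c (str K)).fromSpecResidueField (l pt) = l :=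
    Scheme.descResidueField_stalkClosedPointTo_fromSpecResidueField _ _ l
  have key : ∀ {Z : Scheme.{u}} (r : pullback c (str K) ⟶ Z) (z : Z)
      (β : Z.residueField z ⟶ X.residueField ξ), l ≫ r = Spec.map β ≫ Z.fromSpecResidueField z →
      ∃ hz : r (l pt) = z, r.residueFieldMap (l pt) ≫ w = (Z.residueFieldCongr hz).hom ≫ β := by
    intro Z r z β h
    have hz : r (l pt) = z := by
      rw [← Scheme.Hom.comp_apply, h, Scheme.Hom.comp_apply, Scheme.fromSpecResidueField_apply]
    refine ⟨hz, Spec.map_injective ?_⟩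
    rw [← cancel_mono (Z.fromSpecResidueField (r (l pt))), Spec.map_comp, Category.assoc,
      Scheme.Hom.SpecMap_residueFieldMap_fromSpecResidueField, ← Category.assoc, hlw, h, Spec.map_comp,
      Category.assoc, Scheme.residueFieldCongr_fromSpecResidueField]
  obtain ⟨hz1, h1⟩ := key (pullback.fst c (str K)) ξ (𝟙 _) (by rw [Spec.map_id, Category.id_comp, pullback.lift_fst])
  obtain ⟨hz2, h2⟩ := key (pullback.snd c (str K)) (genericPoint (P1 K)) (CommRingCat.ofHom α) (pullback.lift_snd _ _ _)
  rw [Category.comp_id] at h1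
  have hwinj : Function.Injective w.hom := w.hom.injective
  have hbij : Function.Bijective (X.residueFieldCongr hz1).hom.hom :=
    (X.residueFieldCongr hz1).commRingCatIsoToRingEquiv.bijective
  have hs : Function.Surjective ((pullback.fst c (str K)).residueFieldMap (l pt)).hom := fun a => by
    obtain ⟨b, hb⟩ := hbij.2 (w.hom a)
    exact ⟨b, hwinj ((DFunLike.congr_fun (CommRingCat.hom_ext_iff.mp h1) b).trans hb)⟩
  have aux : ∀ (z : X) (hz : pullback.fst c (str K) (l pt) = z) (v : X.residueField z),
      ((pullback.fst c (str K)).residueFieldMap (l pt)).hom ((X.residueFieldCongr hz.symm).hom v) =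
        ((pullback.snd c (str K)).residueFieldMap (l pt)).hom (((P1 K).residueFieldCongr hz2.symm).hom (tRat K)) →
      WeilCoh.pdim X z = 1 →
      v ≠ 0 ∧ ∑ᶠ x, Cyc.divFun (dl X) z v x * (c.residueDegree x : ℤ) = 0 := by
    rintro z rfl v hv hd
    rw [Scheme.residueFieldCongr_refl] at hv
    exact degree_aux c (l pt) hd hs hz2 v hv
  refine aux ξ hz1 g (hwinj ?_) hξ
  refine (DFunLike.congr_fun (CommRingCat.hom_ext_iff.mp h1) _).trans
    (Eq.trans ?_ (DFunLike.congr_fun (CommRingCat.hom_ext_iff.mp h2) _).symm)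
  show (X.residueFieldCongr hz1).hom ((X.residueFieldCongr hz1.symm).hom g) =
    α (((P1 K).residueFieldCongr hz2).hom (((P1 K).residueFieldCongr hz2.symm).hom (tRat K)))
  rw [← CommRingCat.comp_apply, ← CommRingCat.comp_apply, Scheme.residueFieldCongr_trans_hom,
    Scheme.residueFieldCongr_trans_hom, Scheme.residueFieldCongr_refl, Scheme.residueFieldCongr_refl]
  show g = α (tRat K)
  rw [tRat, hα]
  show g = Polynomial.eval₂ _ g (e _)
  rw [hX, Polynomial.eval₂_X]

/-- Principal divisors on a curve in a scheme proper over a field have degree zero. -/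
theorem degree_zero (ξ : X) (hξ : WeilCoh.pdim X ξ = 1) (g : X.residueField ξ) (hg : g ≠ 0) :
    ∑ᶠ x, Cyc.divFun (dl X) ξ g x * (c.residueDegree x : ℤ) = 0 := by
  classical
  letI := (WeilLib.kStr c ξ).toAlgebra
  have htr : ∀ v : X.residueField ξ, Transcendental K v →
      ∀ p : Polynomial K, p.eval₂ (WeilLib.kStr c ξ) v = 0 → p = 0 := fun v hv p hp => by
    by_contra hne
    exact hv ⟨p, hne, by rw [Polynomial.aeval_def]; exact hp⟩
  by_cases h : Transcendental K g
  · exact (degree_transcendental c ξ hξ g (htr g h)).2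
  obtain ⟨t, ht⟩ : ∃ t : X.residueField ξ, Transcendental K t := by
    by_contra hne
    push Not at hne
    haveI : Algebra.IsAlgebraic K (X.residueField ξ) := ⟨fun x => not_not.1 (hne x)⟩
    have h1 := (WeilLib.exists_pdim_eq_trd c ξ).1
    rw [show WeilLib.trd c ξ = Algebra.trdeg K (X.residueField ξ) from rfl, trdeg_eq_zero, hξ] at h1
    exact absurd h1.symm (by simp)
  have hga : IsAlgebraic K g := not_not.1 h
  have ht' : Transcendental K (g * t) := fun hp => ht (by simpa [hg] using hga.inv.mul hp)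
  obtain ⟨h10, h1⟩ := degree_transcendental c ξ hξ t (htr t ht)
  obtain ⟨-, h2⟩ := degree_transcendental c ξ hξ (g * t) (htr _ ht')
  haveI : IsLocallyNoetherian X := LocallyOfFiniteType.isLocallyNoetherian c
  haveI : CompactSpace X := QuasiCompact.compactSpace_of_compactSpace c
  simp only [divFun_mul hg h10, add_mul] at h2
  rw [finsum_add_distrib ((finite_support_divFun (isDimFun_dl c) ξ hg).subset fun x hx h0 => hx (by simp [h0]))
    ((finite_support_divFun (isDimFun_dl c) ξ h10).subset fun x hx h0 => hx (by simp [h0])), h1, add_zero] at h2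
  exact h2

end Groth.Agent.CycDeg
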