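import Groth.Agent.CycDim.PullDiv
import Mathlib

/-!
Composition of flat pullbacks of cycles.
-/

set_option autoImplicit false

universe u

open CategoryTheory AlgebraicGeometry
open Groth.Agent.EquidimPt (IsFibMax)

noncomputable section

namespace Groth.Agent.CycPull

/-- Shifts on points maximal in their fibres add up under composition. -/
theorem shift_comp {X X' X'' : Scheme.{u}} (p : X' ⟶ X) (p' : X'' ⟶ X') [Flat p'] {δ : X → ℤ} {δ' : X' → ℤ}
    {δ'' : X'' → ℤ} {c c' : ℤ} (hc : ∀ x, IsFibMax p x → δ' x = δ (p x) + c)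
    (hc' : ∀ x, IsFibMax p' x → δ'' x = δ' (p' x) + c') (x : X'') (h : IsFibMax (p' ≫ p) x) :
    δ'' x = δ ((p' ≫ p) x) + (c + c') := by
  have h1 := hc' x fun y hy hyx => h y (congrArg p hy) hyx
  have h2 := hc (p' x) fun y hy hyx => by
    obtain ⟨w, hw, rfl⟩ := Flat.generalizingMap p' hyx
    rw [h w hy hw]
  show δ'' x = δ (p (p' x)) + (c + c')
  omega

/-- Flat pullbacks compose. -/
theorem pullFun_comp {X X' X'' : Scheme.{u}} (p : X' ⟶ X) (p' : X'' ⟶ X') [Flat p] [Flat p'] {δ : X → ℤ} {δ' : X' → ℤ}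
    {δ'' : X'' → ℤ} (h'' : Cyc.IsDimFun X'' δ'') {c c' : ℤ}
    (hc : ∀ x, IsFibMax p x → δ' x = δ (p x) + c) (hc' : ∀ x, IsFibMax p' x → δ'' x = δ' (p' x) + c') (α : X → ℤ) :
    Cyc.pullFun (p' ≫ p) δ'' δ (c + c') α = Cyc.pullFun p' δ'' δ' c' (Cyc.pullFun p δ' δ c α) := by
  funext x
  unfold Cyc.pullFun
  by_cases h : δ'' x = δ ((p' ≫ p) x) + (c + c')
  · have hmax := (delta_le_shift (p' ≫ p) h'' (shift_comp p p' hc hc') x).2 h
    have h1 := hc' x fun y hy hyx => hmax y (congrArg p hy) hyx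
    have h2 := hc (p' x) fun y hy hyx => by
      obtain ⟨w, hw, rfl⟩ := Flat.generalizingMap p' hyx
      rw [hmax w hy hw]
    rw [if_pos h, if_pos h1, if_pos h2]
    show α (p (p' x)) * _ = α (p (p' x)) * _ * _
    rw [mul_assoc, ← Nat.cast_mul, ← ENat.toNat_mul, CycDim.length_quot_map, Scheme.Hom.stalkMap_comp, Ideal.map_map]
    rfl
  · rw [if_neg h]
    by_cases h1 : δ'' x = δ' (p' x) + c'
    · rw [if_pos h1, if_neg (fun h2 => h (show δ'' x = δ (p (p' x)) + (c + c') by omega)), zero_mul]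
    · rw [if_neg h1]

end Groth.Agent.CycPull
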