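import Groth.Agent.CycDim.PullRat
import Groth.Agent.CycDim.PullComp
import Groth.Agent.ConsEngine.LimSec
import Groth.Agent.ConsEngine.LimMaxPt
import Mathlib

/-!
Cycles on limits of schemes with flat affine transition morphisms.
-/

set_option autoImplicit false
set_option linter.style.haveILetI false
set_option linter.unusedSectionVars false

universe u

open CategoryTheory CategoryTheory.Limits AlgebraicGeometry TopologicalSpace
open Groth.Agent.EquidimPt (IsFibMax)
open Groth.Agent.CDivNormal (genPrime mem_genPrime exists_genPrime_eq)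

noncomputable section

namespace Groth.Agent.CycLim

open CycPull

section General

variable {X Y : Scheme.{u}}

/-- A cycle from a function with finite support on every affine open. -/
def mkCycle (F : X → ℤ) (hF : ∀ {U : X.Opens}, IsAffineOpen U → {x : X | x ∈ U ∧ F x ≠ 0}.Finite) :
    AlgebraicCycle X ℤ where
  toFun := F
  supportWithinDomain' := Set.subset_univ _
  supportLocallyFiniteWithinDomain' := fun x _ => by
    obtain ⟨U, hU, hxU, -⟩ := exists_isAffineOpen_mem_and_subset (x := x) (U := (⊤ : X.Opens)) trivial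
    exact ⟨U, U.2.mem_nhds hxU, (hF hU).subset fun y hy => ⟨hy.1, hy.2⟩⟩

theorem isFibMax_of_pullFun_ne_zero (f : X ⟶ Y) {δX : X → ℤ} {δY : Y → ℤ} (hX : Cyc.IsDimFun X δX) {c : ℤ}
    (hc : ∀ x : X, IsFibMax f x → δX x = δY (f x) + c) {α : Y → ℤ} {x : X}
    (hx : Cyc.pullFun f δX δY c α x ≠ 0) : α (f x) ≠ 0 ∧ IsFibMax f x := by
  unfold Cyc.pullFun at hx
  split at hx
  · next h => exact ⟨fun h0 => hx (by rw [h0, zero_mul]), (delta_le_shift f hX hc x).2 h⟩
  · exact absurd rfl hx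

/-- Flat pullbacks of cycles with finite support are locally finite. -/
theorem finite_pullFun [IsLocallyNoetherian X] (f : X ⟶ Y) {δX : X → ℤ} {δY : Y → ℤ} (hX : Cyc.IsDimFun X δX) {c : ℤ}
    (hc : ∀ x : X, IsFibMax f x → δX x = δY (f x) + c) {α : Y → ℤ} (hα : (Function.support α).Finite)
    {U : X.Opens} (hU : IsAffineOpen U) : {x : X | x ∈ U ∧ Cyc.pullFun f δX δY c α x ≠ 0}.Finite := by
  refine (hα.biUnion fun y _ => (finite_over f y hU).image Subtype.val).subset ?_
  rintro x ⟨hxU, hx⟩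
  obtain ⟨h1, h2⟩ := isFibMax_of_pullFun_ne_zero f hX hc hx
  exact Set.mem_biUnion h1 ⟨⟨x, rfl, h2⟩, hxU, rfl⟩

/-- The fibre multiplicity of a point maximal in its fibre is positive and finite. -/
theorem length_fib_pos [IsLocallyNoetherian X] (f : X ⟶ Y) {x : X} (hx : IsFibMax f x) :
    0 < (Module.length (X.presheaf.stalk x) (X.presheaf.stalk x ⧸ Ideal.map (f.stalkMap x).hom
      (IsLocalRing.maximalIdeal (Y.presheaf.stalk (f x))))).toNat := by
  let I := Ideal.map (f.stalkMap x).hom (IsLocalRing.maximalIdeal (Y.presheaf.stalk (f x)))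
  have hfin : Module.length (X.presheaf.stalk x) (X.presheaf.stalk x ⧸ I) < ⊤ := by
    refine length_quot_lt_top I fun q hq hle => ?_
    obtain ⟨z, hz, hzq⟩ := exists_genPrime_eq x q
    have hfz : f z = f x := by
      by_contra hne
      have hsp : f z ⤳ f x := hz.map f.continuous
      have hle' : ¬ IsLocalRing.maximalIdeal (Y.presheaf.stalk (f x)) ≤ genPrime hsp := fun h =>
        hne (hsp.antisymm (CDivNormal.specializes_of_le (specializes_refl (f x)) hsp
          (by rw [CycDim.genPrime_rfl]; exact h))).eq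
      obtain ⟨a, ha, hag⟩ := SetLike.not_le_iff_exists.1 hle'
      rw [mem_genPrime, not_not] at hag
      have h1 : (f.stalkMap x).hom a ∈ genPrime hz := hzq.symm ▸ hle (Ideal.mem_map_of_mem _ ha)
      rw [mem_genPrime, ← Scheme.Hom.stalkSpecializes_stalkMap_apply f z x hz a] at h1
      exact h1 (hag.map (f.stalkMap z).hom)
    obtain rfl := hx z hfz hz
    rw [← hzq, CycDim.genPrime_rfl]
    exact IsLocalRing.maximalIdeal.isMaximal _
  have hne : Nontrivial (X.presheaf.stalk x ⧸ I) := Ideal.Quotient.nontrivial_iff.2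
    (IsLocalRing.map_maximalIdeal_lt_top (f.stalkMap x).hom).ne
  have hpos := Module.length_pos (R := X.presheaf.stalk x) (M := X.presheaf.stalk x ⧸ I)
  exact Nat.pos_of_ne_zero fun h => (ENat.toNat_eq_zero.1 h).elim hpos.ne' hfin.ne

/-- A cycle on a quasi-compact scheme has finite support. -/
theorem finite_support [CompactSpace X] (α : AlgebraicCycle X ℤ) : (Function.support (⇑α : X → ℤ)).Finite := by
  choose t ht hfin using fun x : X => α.supportLocallyFiniteWithinDomain' x trivial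
  obtain ⟨s, -, hs⟩ := isCompact_univ.elim_nhds_subcover t fun x _ => ht x
  refine (s.finite_toSet.biUnion fun x _ => hfin x).subset fun y hy => ?_
  obtain ⟨x, hx, hyx⟩ := Set.mem_iUnion₂.1 (hs (Set.mem_univ y))
  exact Set.mem_biUnion hx ⟨hyx, hy⟩

end General

variable {I : Type u} [SmallCategory I] [IsCofiltered I] {D : I ⥤ Scheme.{u}}
  [∀ {i j} (f : i ⟶ j), IsAffineHom (D.map f)] {c : Cone D}

/-- The projection from the limit to a stage. -/
abbrev prj (c : Cone D) (j : I) : c.pt ⟶ D.obj j := c.π.app j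

theorem prj_w {j k : I} (φ : k ⟶ j) : prj c k ≫ D.map φ = prj c j := c.w φ

/-- The elements of a local ring of the limit coming from a stage. -/
def img (c : Cone D) (j : I) (x : c.pt) : Subring (c.pt.presheaf.stalk x) := ((prj c j).stalkMap x).hom.range

theorem img_mono {j k : I} (φ : k ⟶ j) (x : c.pt) : img c j x ≤ img c k x := by
  rintro _ ⟨a, rfl⟩
  rw [Scheme.Hom.stalkMap_congr_hom _ _ ((prj_w (c := c) φ)).symm, Scheme.Hom.stalkMap_comp]
  exact ⟨_, rfl⟩

variable (hc : IsLimit c)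

include hc in
/-- An element of a local ring of the limit comes from a stage. -/
theorem exists_mem_img (x : c.pt) (a : c.pt.presheaf.stalk x) (i : I) : ∃ j, ∃ _ : j ⟶ i, a ∈ img c j x := by
  obtain ⟨V, hV, hxV, -⟩ := exists_isAffineOpen_mem_and_subset (x := prj c i x) (U := (⊤ : (D.obj i).Opens)) trivial
  haveI := isAffineHom_π_app D c hc i
  have hU : IsAffineOpen (prj c i ⁻¹ᵁ V) := hV.preimage (prj c i)
  letI := (c.pt.presheaf.germ (prj c i ⁻¹ᵁ V) x hxV).hom.toAlgebra
  haveI := hU.isLocalization_stalk ⟨x, hxV⟩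
  obtain ⟨⟨b, s⟩, hbs⟩ := IsLocalization.surj (hU.primeIdealOf ⟨x, hxV⟩).asIdeal.primeCompl a
  obtain ⟨jb, φb, b', hb⟩ := ConsEngine.exists_app_π_eq D c hc hV b
  obtain ⟨js, φs, s', hs⟩ := ConsEngine.exists_app_π_eq D c hc hV (s : Γ(c.pt, prj c i ⁻¹ᵁ V))
  obtain ⟨k, ψb, ψs, -⟩ := IsCofilteredOrEmpty.cone_objs jb js
  refine ⟨k, ψb ≫ φb, ?_⟩
  have key : ∀ (l : I) (φ : l ⟶ i) (t : Γ(D.obj l, D.map φ ⁻¹ᵁ V)) (h : prj c l x ∈ D.map φ ⁻¹ᵁ V),
      (c.pt.presheaf.germ (prj c i ⁻¹ᵁ V) x hxV).hom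
        ((prj c l).appLE _ _ (ConsEngine.preimage_π_le D c φ V) t) =
      ((prj c l).stalkMap x).hom (((D.obj l).presheaf.germ (D.map φ ⁻¹ᵁ V) (prj c l x) h).hom t) := by
    intro l φ t h
    rw [Scheme.Hom.germ_stalkMap_apply, Scheme.Hom.appLE]
    exact c.pt.presheaf.germ_res_apply _ x hxV _
  have h2 : ∀ (l : I) (φ : l ⟶ i), prj c l x ∈ D.map φ ⁻¹ᵁ V := fun l φ => by
    show D.map φ (prj c l x) ∈ V
    rw [← Scheme.Hom.comp_apply, (prj_w (c := c) φ)]
    exact hxV
  have hbm : algebraMap _ (c.pt.presheaf.stalk x) b ∈ img c k x :=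
    img_mono ψb x ⟨_, ((congrArg (c.pt.presheaf.germ (prj c i ⁻¹ᵁ V) x hxV).hom hb).symm.trans
      (key jb φb b' (h2 jb φb))).symm⟩
  have hsm : algebraMap Γ(c.pt, prj c i ⁻¹ᵁ V) (c.pt.presheaf.stalk x) s ∈ img c js x :=
    ⟨_, ((congrArg (c.pt.presheaf.germ (prj c i ⁻¹ᵁ V) x hxV).hom hs).symm.trans
      (key js φs s' (h2 js φs))).symm⟩
  obtain ⟨u, hu⟩ := img_mono ψs x hsm
  have hus : IsUnit (algebraMap _ (c.pt.presheaf.stalk x) (s : Γ(c.pt, prj c i ⁻¹ᵁ V))) :=
    IsLocalization.map_units _ s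
  rw [← hu] at hus
  haveI : IsLocalHom ((prj c k).stalkMap x).hom := inferInstance
  obtain ⟨v, hv⟩ := (isUnit_map_iff ((prj c k).stalkMap x).hom u).1 hus
  have : a = algebraMap _ (c.pt.presheaf.stalk x) b * ((prj c k).stalkMap x).hom (↑v⁻¹ : _) := by
    rw [← hbs, mul_assoc]
    refine (mul_one a).symm.trans (congrArg (a * ·) ?_)
    show (1 : _) = algebraMap _ _ (s : Γ(c.pt, prj c i ⁻¹ᵁ V)) * _
    rw [← hu, ← map_mul, ← hv, Units.mul_inv, map_one]
  rw [this]
  exact mul_mem hbm ⟨_, rfl⟩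

include hc in
/-- Finitely many elements come from a common stage. -/
theorem exists_subset_img (x : c.pt) (s : Finset (c.pt.presheaf.stalk x)) (i : I) :
    ∃ j, ∃ _ : j ⟶ i, ↑s ⊆ (img c j x : Set (c.pt.presheaf.stalk x)) := by
  classical
  induction s using Finset.induction_on with
  | empty => exact ⟨i, 𝟙 i, by simp⟩
  | insert a s _ ih =>
    obtain ⟨j, φ, hj⟩ := ih
    obtain ⟨k, ψ, hk⟩ := exists_mem_img hc x a j
    refine ⟨k, ψ ≫ φ, ?_⟩
    rw [Finset.coe_insert]
    exact Set.insert_subset hk fun b hb => img_mono ψ x (hj hb)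

/-- The stage `j` sees the point `x` of the limit: `x` is cut out by its image there. -/
def Good (c : Cone D) (j : I) (x : c.pt) : Prop :=
  ((IsLocalRing.maximalIdeal (c.pt.presheaf.stalk x) : Set (c.pt.presheaf.stalk x)) ⊆
    Ideal.map ((prj c j).stalkMap x).hom (IsLocalRing.maximalIdeal ((D.obj j).presheaf.stalk (prj c j x)))) ∧
  ∀ z : c.pt, prj c j z = prj c j x → x ⤳ z

theorem map_maximal_mono {j k : I} (φ : k ⟶ j) (x : c.pt) :
    Ideal.map ((prj c j).stalkMap x).hom (IsLocalRing.maximalIdeal ((D.obj j).presheaf.stalk (prj c j x))) ≤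
      Ideal.map ((prj c k).stalkMap x).hom (IsLocalRing.maximalIdeal ((D.obj k).presheaf.stalk (prj c k x))) := by
  rw [Ideal.map_le_iff_le_comap]
  intro a ha
  rw [Ideal.mem_comap]
  obtain ⟨b, hb⟩ := img_mono φ x ⟨a, rfl⟩
  rw [← hb]
  refine Ideal.mem_map_of_mem _ ?_
  rw [IsLocalRing.mem_maximalIdeal, mem_nonunits_iff] at ha ⊢
  intro hu
  exact ha ((isUnit_map_iff ((prj c j).stalkMap x).hom a).1 (hb ▸ hu.map ((prj c k).stalkMap x).hom))

theorem Good.mono {j k : I} (φ : k ⟶ j) {x : c.pt} (h : Good c j x) : Good c k x :=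
  ⟨h.1.trans (map_maximal_mono φ x), fun z hz => h.2 z (by
    have := congrArg (D.map φ) hz
    rwa [← Scheme.Hom.comp_apply, ← Scheme.Hom.comp_apply, (prj_w (c := c) φ)] at this)⟩

theorem Good.map_eq {j : I} {x : c.pt} (h : Good c j x) :
    Ideal.map ((prj c j).stalkMap x).hom (IsLocalRing.maximalIdeal ((D.obj j).presheaf.stalk (prj c j x))) =
      IsLocalRing.maximalIdeal (c.pt.presheaf.stalk x) :=
  le_antisymm (IsLocalRing.le_maximalIdeal (IsLocalRing.map_maximalIdeal_lt_top _).ne) h.1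

theorem Good.fibMax {j : I} {x : c.pt} (h : Good c j x) : IsFibMax (prj c j) x :=
  fun w hw hwx => (hwx.antisymm (h.2 w hw)).eq

theorem Good.length_eq_one {j : I} {x : c.pt} (h : Good c j x) :
    Module.length (c.pt.presheaf.stalk x) (c.pt.presheaf.stalk x ⧸ Ideal.map ((prj c j).stalkMap x).hom
      (IsLocalRing.maximalIdeal ((D.obj j).presheaf.stalk (prj c j x)))) = 1 := by
  rw [h.map_eq, Module.length_eq_one_iff, isSimpleModule_iff_isCoatom]
  exact (IsLocalRing.maximalIdeal.isMaximal _).out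

theorem Good.eq_of_eq {j : I} {x y : c.pt} (hx : Good c j x) (hy : Good c j y)
    (h : prj c j x = prj c j y) : x = y :=
  ((hx.2 y h.symm).antisymm (hy.2 x h)).eq

include hc in
theorem exists_good [NoetherianSpace c.pt] [IsLocallyNoetherian c.pt] (x : c.pt) (i : I) :
    ∃ j, ∃ _ : j ⟶ i, Good c j x := by
  obtain ⟨s, hs⟩ := IsNoetherian.noetherian (IsLocalRing.maximalIdeal (c.pt.presheaf.stalk x))
  obtain ⟨j, φ, hj⟩ := exists_subset_img hc x s i
  let W : c.pt.Opens := ⟨(closure {x})ᶜ, isClosed_closure.isOpen_compl⟩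
  obtain ⟨l, V, -, hV⟩ := exists_preimage_eq D c hc W (NoetherianSpace.isCompact _)
  obtain ⟨k, ψ, ψ', -⟩ := IsCofilteredOrEmpty.cone_objs j l
  refine ⟨k, ψ ≫ φ, Set.Subset.trans ?_ (map_maximal_mono ψ x), fun z hz => ?_⟩
  · rw [SetLike.coe_subset_coe, ← hs, Submodule.span_le]
    intro a ha
    obtain ⟨b, hb⟩ := hj ha
    rw [← hb]
    refine Ideal.mem_map_of_mem _ ?_
    have ham : a ∈ IsLocalRing.maximalIdeal (c.pt.presheaf.stalk x) := hs ▸ Submodule.subset_span ha
    rw [IsLocalRing.mem_maximalIdeal, mem_nonunits_iff] at ham ⊢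
    exact fun hu => ham (hb ▸ hu.map ((prj c j).stalkMap x).hom)
  · have h1 : prj c l z = prj c l x := by
      have := congrArg (D.map ψ') hz
      rwa [← Scheme.Hom.comp_apply, ← Scheme.Hom.comp_apply, (prj_w (c := c) ψ')] at this
    by_contra hne
    have hzW : z ∈ prj c l ⁻¹ᵁ V := by
      rw [hV]
      exact fun h => hne (specializes_iff_mem_closure.2 h)
    have hxW : x ∈ prj c l ⁻¹ᵁ V := by
      show prj c l x ∈ V
      rw [← h1]
      exact hzW
    rw [hV] at hxW
    exact hxW (subset_closure rfl)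

include hc in
theorem exists_good_finset [NoetherianSpace c.pt] [IsLocallyNoetherian c.pt] (s : Finset c.pt) (i : I) :
    ∃ j, ∃ _ : j ⟶ i, ∀ x ∈ s, Good c j x := by
  classical
  induction s using Finset.induction_on with
  | empty => exact ⟨i, 𝟙 i, by simp⟩
  | insert a s _ ih =>
    obtain ⟨j, φ, hj⟩ := ih
    obtain ⟨k, ψ, hk⟩ := exists_good hc a j
    refine ⟨k, ψ ≫ φ, fun x hx => ?_⟩
    rcases Finset.mem_insert.1 hx with rfl | hx
    · exact hk
    · exact (hj x hx).mono ψ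

variable {δ : (i : I) → ↥(D.obj i) → ℤ} {δ' : c.pt → ℤ}
  (hset : ∀ i, Cyc.IsSetup (D.obj i) (δ i)) (hset' : Cyc.IsSetup c.pt δ')
  (hflat : ∀ (i j : I) (f : i ⟶ j), Flat (D.map f)) (hqc : ∀ i, CompactSpace ↥(D.obj i))
  (hflat' : ∀ i, Flat (prj c i))
  (hshift : ∀ (i j : I) (f : i ⟶ j) (x : ↥(D.obj i)), IsFibMax (D.map f) x → δ i x = δ j (D.map f x) + 0)
  (hshift' : ∀ (i : I) (x : c.pt), IsFibMax (prj c i) x → δ' x = δ i (prj c i x) + 0)

include hc hset' hqc in
theorem limit_spaces : IsLocallyNoetherian c.pt ∧ CompactSpace c.pt ∧ NoetherianSpace c.pt := by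
  haveI := hset'.1
  haveI := hqc
  haveI := Scheme.compactSpace_of_isLimit D c hc
  haveI : IsNoetherian c.pt := ⟨⟩
  exact ⟨inferInstance, inferInstance, inferInstance⟩

include hc hset' hqc hflat' hshift' in
/-- A cycle on the limit is the pullback of a cycle on some stage. -/
theorem exists_cycle {k : ℤ} (α' : AlgebraicCycle c.pt ℤ) (hα' : α' ∈ Cyc.Zk c.pt δ' k) :
    ∃ (i : I) (α : AlgebraicCycle (D.obj i) ℤ), α ∈ Cyc.Zk (D.obj i) (δ i) k ∧
      Cyc.pullFun (prj c i) δ' (δ i) 0 ⇑α = ⇑α' := by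
  classical
  obtain ⟨_, _, _⟩ := limit_spaces hc hset' hqc
  obtain ⟨i⟩ := IsCofiltered.nonempty (C := I)
  let s : Finset c.pt := (finite_support α').toFinset
  obtain ⟨j, -, hj⟩ := exists_good_finset hc s i
  let F : D.obj j → ℤ := fun y => ∑ x ∈ s, if prj c j x = y then α' x else 0
  have hF : ∀ y, F y ≠ 0 → ∃ x ∈ s, prj c j x = y := fun y hy => by
    obtain ⟨x, hx, h⟩ := Finset.exists_ne_zero_of_sum_ne_zero hy
    exact ⟨x, hx, by_contra fun hne => h (if_neg hne)⟩
  let α : AlgebraicCycle (D.obj j) ℤ := mkCycle F fun {U} _ =>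
    (s.finite_toSet.image (prj c j)).subset fun y hy => hF y hy.2
  have hδx : ∀ x ∈ s, δ j (prj c j x) = k ∧ δ' x = δ j (prj c j x) + 0 := fun x hx => by
    have h1 := hshift' j x (hj x hx).fibMax
    exact ⟨by
      by_contra hne
      exact (Set.Finite.mem_toFinset _).1 hx (hα' x (fun e => hne (by omega))), h1⟩
  refine ⟨j, α, fun y hy => by_contra fun hne => ?_, ?_⟩
  · obtain ⟨x, hx, rfl⟩ := hF y hne
    exact hy (hδx x hx).1
  funext z
  show (if δ' z = δ j (prj c j z) + 0 then F (prj c j z) * _ else 0) = α' z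
  by_cases hz : z ∈ s
  · have hFz : F (prj c j z) = α' z := by
      show ∑ x ∈ s, _ = _
      rw [Finset.sum_eq_single z (fun x hx hne => if_neg fun e => hne ((hj x hx).eq_of_eq (hj z hz) e))
        (fun h => absurd hz h), if_pos rfl]
    rw [if_pos (hδx z hz).2, hFz, (hj z hz).length_eq_one]
    simp
  · have h0 : α' z = 0 := not_not.1 fun h => hz ((Set.Finite.mem_toFinset _).2 h)
    rw [h0]
    split
    swap
    · rfl
    next h =>
    by_contra hne
    obtain ⟨x, hx, he⟩ := hF _ (left_ne_zero_of_mul hne)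
    have hxz := (hj x hx).2 z he.symm
    have := CycDim.eq_of_delta_le hset'.2.2 hxz (by rw [(hδx x hx).2, he]; omega)
    exact hz (this ▸ hx)

include hc hset hset' hqc hflat hflat' hshift hshift' in
/-- A cycle on a stage vanishing on the limit vanishes on a later stage. -/
theorem exists_pull_eq_zero (i : I) (F : ↥(D.obj i) → ℤ) (hfin : (Function.support F).Finite)
    (h0 : Cyc.pullFun (prj c i) δ' (δ i) 0 F = 0) :
    ∃ (j : I) (f : j ⟶ i), Cyc.pullFun (D.map f) (δ j) (δ i) 0 F = 0 := by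
  classical
  obtain ⟨_, _, _⟩ := limit_spaces hc hset' hqc
  suffices H : ∀ s : Finset ↥(D.obj i), (∀ y ∈ s, F y ≠ 0) → ∃ (j : I) (f : j ⟶ i), ∀ z, D.map f z ∉ s by
    obtain ⟨j, f, hj⟩ := H hfin.toFinset fun y hy => (Set.Finite.mem_toFinset _).1 hy
    refine ⟨j, f, funext fun z => ?_⟩
    have hz : F (D.map f z) = 0 := not_not.1 fun h => hj z ((Set.Finite.mem_toFinset _).2 h)
    unfold Cyc.pullFun
    rw [hz, zero_mul, ite_self]
    rfl
  have hempty : ∀ y, F y ≠ 0 → ∀ z : c.pt, prj c i z ≠ y := by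
    intro y hy z hz
    obtain ⟨m, hm, -, hmax⟩ := exists_fibMax (prj c i) z
    have := congrFun h0 m
    unfold Cyc.pullFun at this
    rw [if_pos (hshift' i m hmax)] at this
    rcases mul_eq_zero.1 this with h | h
    · exact hy (by rwa [hm, hz] at h)
    · have h1 := length_fib_pos (prj c i) hmax
      have h2 : (Module.length (c.pt.presheaf.stalk m) (c.pt.presheaf.stalk m ⧸ Ideal.map ((prj c i).stalkMap m).hom
          (IsLocalRing.maximalIdeal ((D.obj i).presheaf.stalk (prj c i m))))).toNat = 0 := by exact_mod_cast h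
      omega
  intro s hs
  induction s using Finset.induction_on with
  | empty => exact ⟨i, 𝟙 i, fun z => Finset.notMem_empty _⟩
  | insert y s _ ih =>
    obtain ⟨j, f, hj⟩ := ih fun z hz => hs z (Finset.mem_insert_of_mem hz)
    obtain ⟨O, hO, hyO, -⟩ := exists_isAffineOpen_mem_and_subset (x := y) (U := (⊤ : (D.obj i).Opens)) trivial
    haveI := fun j : I => (hset j).1
    by_cases hex : ∃ l, ∃ g : l ⟶ i, ∀ z, D.map g z ≠ y
    · obtain ⟨l, g, hl⟩ := hex
      obtain ⟨k, p, q, -⟩ := IsCofilteredOrEmpty.cone_objs j l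
      obtain ⟨m, r, hr⟩ : ∃ m, ∃ r : m ⟶ k, r ≫ p ≫ f = r ≫ q ≫ g :=
        ⟨_, IsCofiltered.eqHom _ _, IsCofiltered.eq_condition _ _⟩
      refine ⟨m, r ≫ p ≫ f, fun z hz => ?_⟩
      rcases Finset.mem_insert.1 hz with h | h
      · rw [hr, ← Category.assoc, Functor.map_comp, Scheme.Hom.comp_apply] at h
        exact hl _ h
      · rw [← Category.assoc, Functor.map_comp, Scheme.Hom.comp_apply] at h
        exact hj _ h
    · push Not at hex
      exfalso
      obtain ⟨z, hz⟩ := ConsEngine.exists_forall_π_mem D c hc O hO.isCompact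
        (fun l : Over i => {w | D.map l.hom w = y ∧ IsFibMax (D.map l.hom) w})
        (fun l => by
          obtain ⟨w, hw⟩ := hex l.left l.hom
          obtain ⟨w', hw', -, hmax⟩ := exists_fibMax (D.map l.hom) w
          exact ⟨w', hw'.trans hw, hmax⟩)
        (fun l => ((finite_over (D.map l.hom) y (hO.preimage (D.map l.hom))).image Subtype.val).subset
          fun w hw => ⟨⟨w, hw.1, hw.2⟩, show D.map l.hom w ∈ O from hw.1 ▸ hyO, rfl⟩)
        (fun l w hw => show D.map l.hom w ∈ O from hw.1 ▸ hyO)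
        (fun {l m} a w hw => by
          have he : ∀ v, D.map l.hom v = D.map m.hom (D.map a.left v) := fun v => by
            rw [← Scheme.Hom.comp_apply, ← Functor.map_comp, Over.w a]
          refine ⟨(he w).symm.trans hw.1, fun v hv hvw => ?_⟩
          haveI := hflat _ _ a.left
          obtain ⟨v', hv', rfl⟩ := Flat.generalizingMap (D.map a.left) hvw
          exact congrArg (D.map a.left) (hw.2 v' (by rw [he, he]; exact hv) hv'))
      refine hempty y (hs y (Finset.mem_insert_self _ _)) z ?_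
      have := (hz (Over.mk (𝟙 i))).1
      simpa using this

include hc hset hset' hqc hflat hflat' hshift hshift' in
/-- Rational equivalence to zero descends to a stage. -/
theorem exists_ratEquivZero {k : ℤ} (i : I) (α : AlgebraicCycle (D.obj i) ℤ)
    (α' : AlgebraicCycle c.pt ℤ) (hα' : ⇑α' = Cyc.pullFun (prj c i) δ' (δ i) 0 ⇑α)
    (h0 : Cyc.RatEquivZero δ' k α') :
    ∃ (j : I) (f : j ⟶ i) (αj : AlgebraicCycle (D.obj j) ℤ),
      ⇑αj = Cyc.pullFun (D.map f) (δ j) (δ i) 0 ⇑α ∧ Cyc.RatEquivZero (δ j) k αj := by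
  classical
  obtain ⟨_, _, _⟩ := limit_spaces hc hset' hqc
  haveI := fun j : I => (hset j).1
  haveI := hqc
  obtain ⟨ι, ξ, g, hξ, hg, hloc, hsum⟩ := h0
  haveI hι : Finite ι := by
    choose U hU hxU hfinU using hloc
    obtain ⟨s, hs⟩ := isCompact_univ.elim_finite_subcover U hU fun x _ => Set.mem_iUnion.2 ⟨x, hxU x⟩
    refine Set.finite_univ_iff.1 ((s.finite_toSet.biUnion fun x _ => hfinU x).subset fun l _ => ?_)
    obtain ⟨x, hx, hlx⟩ := Set.mem_iUnion₂.1 (hs (Set.mem_univ (ξ l)))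
    exact Set.mem_biUnion hx ⟨ξ l, subset_closure rfl, hlx⟩
  haveI : Fintype ι := Fintype.ofFinite ι
  obtain ⟨j₀, φ₀, hgood⟩ := exists_good_finset hc (Finset.univ.image ξ) i
  have hlift : ∀ s : Finset ι, ∃ j, ∃ _ : j ⟶ j₀, ∀ l ∈ s, ∃ a : (D.obj j).residueField (prj c j (ξ l)),
      (prj c j).residueFieldMap (ξ l) a = g l := by
    intro s
    induction s using Finset.induction_on with
    | empty => exact ⟨j₀, 𝟙 j₀, by simp⟩
    | insert l s _ ih =>
      obtain ⟨j, φ, hj⟩ := ih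
      obtain ⟨w, hw⟩ : ∃ w, C1Cap.rdu (ξ l) w = g l := Ideal.Quotient.mk_surjective _
      obtain ⟨k, ψ, hk⟩ := exists_mem_img hc (ξ l) w j
      refine ⟨k, ψ ≫ φ, fun l' hl' => ?_⟩
      rcases Finset.mem_insert.1 hl' with rfl | hl'
      · obtain ⟨v, rfl⟩ := hk
        exact ⟨C1Cap.rdu _ v,
          (DFunLike.congr_fun (CommRingCat.hom_ext_iff.mp (Scheme.residue_residueFieldMap (prj c k) (ξ l'))) v).trans hw⟩
      · obtain ⟨a, ha⟩ := hj l' hl'
        obtain ⟨a', rfl⟩ := Ideal.Quotient.mk_surjective a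
        obtain ⟨b, hb⟩ := img_mono ψ (ξ l') (⟨a', rfl⟩ : ((prj c j).stalkMap (ξ l')).hom a' ∈ img c j (ξ l'))
        refine ⟨C1Cap.rdu _ b, ?_⟩
        refine ((DFunLike.congr_fun (CommRingCat.hom_ext_iff.mp
          (Scheme.residue_residueFieldMap (prj c k) (ξ l'))) b).trans ?_).trans ha
        refine (congrArg (c.pt.residue (ξ l')).hom hb).trans ?_
        exact (DFunLike.congr_fun (CommRingCat.hom_ext_iff.mp
          (Scheme.residue_residueFieldMap (prj c j) (ξ l'))) a').symm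
  obtain ⟨j, φ₁, hj⟩ := hlift Finset.univ
  let φ := φ₁ ≫ φ₀
  choose a ha using fun l => hj l (Finset.mem_univ l)
  have hgj : ∀ l, Good c j (ξ l) := fun l => (hgood _ (Finset.mem_image_of_mem ξ (Finset.mem_univ l))).mono φ₁
  have ha0 : ∀ l, a l ≠ 0 := fun l h => hg l (by rw [← ha l, h, map_zero])
  let P : ↥(D.obj j) → ℤ := fun y => ∑ l, Cyc.divFun (δ j) (prj c j (ξ l)) (a l) y
  let γ : AlgebraicCycle (D.obj j) ℤ := mkCycle P fun {U} hU =>
    ((Finset.univ : Finset ι).finite_toSet.biUnion fun l _ => CycDiv.finite_divFun (hset j).2.2 _ (ha0 l) hU).subset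
      fun y hy => by
        obtain ⟨l, hl, h⟩ := Finset.exists_ne_zero_of_sum_ne_zero hy.2
        exact Set.mem_biUnion hl ⟨hy.1, h⟩
  have hγ : Cyc.RatEquivZero (δ j) k γ := by
    refine ⟨ι, fun l => prj c j (ξ l), a, fun l => ?_, ha0, fun y => ⟨Set.univ, isOpen_univ, trivial, Set.toFinite _⟩,
      fun y => (finsum_eq_sum_of_fintype _).symm⟩
    have := hshift' j (ξ l) (hgj l).fibMax
    have := hξ l
    dsimp only
    omega
  haveI := hflat' j
  haveI := hflat _ _ φ
  have hdiv : ∀ l x, Cyc.pullFun (prj c j) δ' (δ j) 0 (Cyc.divFun (δ j) (prj c j (ξ l)) (a l)) x =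
      Cyc.divFun δ' (ξ l) (g l) x := by
    intro l x
    rw [pullFun_divFun (prj c j) hset'.2.2 (hset j).2.2 (hshift' j) _ (ha0 l) x,
      finsum_eq_single _ (⟨ξ l, rfl, (hgj l).fibMax⟩ : {z : c.pt // prj c j z = prj c j (ξ l) ∧ IsFibMax (prj c j) z})
        fun z hz => absurd (Subtype.ext (z.2.2 (ξ l) z.2.1.symm ((hgj l).2 z.1 z.2.1)).symm) hz]
    rw [(hgj l).length_eq_one]
    simp [ha l]
  let G : ↥(D.obj j) → ℤ := Cyc.pullFun (D.map φ) (δ j) (δ i) 0 ⇑α - P
  have hfinα := finite_support α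
  let αc : AlgebraicCycle (D.obj j) ℤ :=
    mkCycle (Cyc.pullFun (D.map φ) (δ j) (δ i) 0 ⇑α) fun {U} hU =>
      finite_pullFun (D.map φ) (hset j).2.2 (hshift j i φ) hfinα hU
  have hG : Cyc.pullFun (prj c j) δ' (δ j) 0 G = 0 := by
    funext x
    rw [show G = Cyc.pullFun (D.map φ) (δ j) (δ i) 0 ⇑α - P from rfl, pullFun_sub,
      ← pullFun_comp (D.map φ) (prj c j) hset'.2.2 (hshift j i φ) (hshift' j), (prj_w (c := c) φ), add_zero, Pi.sub_apply,
      ← hα', Pi.zero_apply, sub_eq_zero, hsum x, finsum_eq_sum_of_fintype]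
    rw [Finset.sum_congr rfl fun l _ => (hdiv l x).symm]
    unfold Cyc.pullFun
    split
    · show _ = (∑ l, _) * _
      rw [Finset.sum_mul]
    · exact Finset.sum_const_zero
  obtain ⟨k', ψ, hψ⟩ := exists_pull_eq_zero hc hset hset' hflat hqc hflat' hshift hshift' j G
    (finite_support (αc - γ)) hG
  haveI := hflat _ _ ψ
  let αk : AlgebraicCycle (D.obj k') ℤ :=
    mkCycle (Cyc.pullFun (D.map (ψ ≫ φ)) (δ k') (δ i) 0 ⇑α) fun {U} hU =>
      finite_pullFun (D.map (ψ ≫ φ)) (hset k').2.2 (hshift k' i (ψ ≫ φ)) hfinα hU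
  refine ⟨k', ψ ≫ φ, αk, rfl, ?_⟩
  have := ratEquivZero_pull (D.map ψ) (hset k').2.2 (hset j).2.2 (hshift k' j ψ) hγ (α' := αk) ?_
  · rwa [add_zero] at this
  show Cyc.pullFun (D.map (ψ ≫ φ)) (δ k') (δ i) 0 ⇑α = Cyc.pullFun (D.map ψ) (δ k') (δ j) 0 P
  rw [Functor.map_comp]
  conv_lhs => rw [← zero_add (0 : ℤ)]
  rw [pullFun_comp (D.map φ) (D.map ψ) (hset k').2.2 (hshift j i φ) (hshift k' j ψ), ← sub_eq_zero, ← pullFun_sub]
  exact hψ

end Groth.Agent.CycLim
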