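import Groth.Agent.CycDim.DegZero
import Groth.Prelude.Def_Bivar
import Mathlib

/-!
Proper push forward kills principal divisors of relative dimension positive points; the general formula.
-/

set_option autoImplicit false
set_option linter.style.haveILetI false
set_option backward.isDefEq.respectTransparency false

universe u

open CategoryTheory CategoryTheory.Limits AlgebraicGeometry TopologicalSpace
open Groth.Agent.C1Cap (rdu)

noncomputable section

namespace Groth.Agent.CycPush

open CycDim (eq_of_delta_le)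
open CycDeg (dl)

variable {X Y Z : Scheme.{u}}

theorem residueFieldMap_surjective_pre (j : Z ⟶ X) [IsPreimmersion j] (z : Z) :
    Function.Surjective (j.residueFieldMap z).hom := fun a => by
  obtain ⟨a, rfl⟩ : ∃ b, rdu z b = a := Ideal.Quotient.mk_surjective a
  obtain ⟨b, rfl⟩ := j.stalkMap_surjective z a
  exact ⟨rdu (j z) b, DFunLike.congr_fun (CommRingCat.hom_ext_iff.mp (Scheme.residue_residueFieldMap j z)) b⟩

/-- Orders are unchanged by preimmersions. -/
theorem ordAt_preimmersion (j : Z ⟶ X) [IsPreimmersion j] {ξ x : Z} (h : ξ ⤳ x) (f : X.residueField (j ξ)) :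
    Cyc.ordAt x ξ h ((j.residueFieldMap ξ).hom f) = Cyc.ordAt (j x) (j ξ) (h.map j.continuous) f := by
  let s : X.presheaf.stalk (j x) →+* Z.presheaf.stalk x := (j.stalkMap x).hom
  have hs : Function.Surjective s := j.stalkMap_surjective x
  let σ : X.residueField (j ξ) ≃+* Z.residueField ξ := RingEquiv.ofBijective (j.residueFieldMap ξ).hom
    ⟨(j.residueFieldMap ξ).hom.injective, residueFieldMap_surjective_pre j ξ⟩
  have hcomp : ∀ a, σ (Cyc.specMap (j x) (j ξ) (h.map j.continuous) a) = Cyc.specMap x ξ h (s a) := fun a =>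
    (DFunLike.congr_fun (CommRingCat.hom_ext_iff.mp (Scheme.residue_residueFieldMap j ξ))
      ((X.presheaf.stalkSpecializes (h.map j.continuous)).hom a)).trans
      (congrArg (Z.residue ξ).hom (Scheme.Hom.stalkSpecializes_stalkMap_apply j ξ x h a))
  let e₀ : Cyc.LocQuot (j x) (j ξ) (h.map j.continuous) →+* Cyc.LocQuot x ξ h :=
    Ideal.quotientMap _ s fun a ha => by
      rw [Ideal.mem_comap, RingHom.mem_ker, ← hcomp, RingHom.mem_ker.1 ha, map_zero]
  have he₀ : Function.Bijective e₀ := by
    refine ⟨Ideal.quotientMap_injective' fun a ha => ?_, Ideal.quotientMap_surjective hs⟩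
    rw [Ideal.mem_comap, RingHom.mem_ker, ← hcomp] at ha
    exact RingHom.mem_ker.2 (σ.injective (ha.trans (map_zero σ).symm))
  exact CycDiv.ordFrac_congr (RingEquiv.ofBijective e₀ he₀) σ (fun q => by
    obtain ⟨a, rfl⟩ := Ideal.Quotient.mk_surjective q
    exact hcomp a) f

/-- The induced function is unique. -/
theorem deltaCompat_unique (f : X ⟶ Y) {δ δ' : X → ℤ} {δY : Y → ℤ} (h : Cyc.DeltaCompat f δ δY)
    (h' : Cyc.DeltaCompat f δ' δY) (x : X) : δ x = δ' x := by
  obtain ⟨n, hn, hx⟩ := h x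
  obtain ⟨m, hm, hx'⟩ := h' x
  have : (n : Cardinal.{u}) = (m : Cardinal.{u}) := hn.symm.trans hm
  have : n = m := Nat.cast_injective this
  omega

theorem deltaCompat_preimmersion (j : Z ⟶ X) [IsPreimmersion j] (δ : X → ℤ) :
    Cyc.DeltaCompat j (fun z => δ (j z)) δ := by
  intro z
  refine ⟨0, ?_, by simp⟩
  letI := (j.residueFieldMap z).hom.toAlgebra
  haveI : Module.Finite (X.residueField (j z)) (Z.residueField z) :=
    Module.Finite.of_surjective (Algebra.linearMap (X.residueField (j z)) (Z.residueField z))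
      (residueFieldMap_surjective_pre j z)
  rw [Nat.cast_zero]
  exact trdeg_eq_zero_iff.2 inferInstance

/-- Push forward of a principal divisor of a point of relative dimension at least one. -/
theorem pushFun_divFun_vanish [IsLocallyNoetherian X] [IsLocallyNoetherian Y] (p : X ⟶ Y) [IsProper p]
    {δX : X → ℤ} {δY : Y → ℤ} (hX : Cyc.IsDimFun X δX) (hY : Cyc.IsDimFun Y δY) (hδ : Cyc.DeltaCompat p δX δY)
    (ξ : X) (hξ : δX ξ ≠ δY (p ξ)) (f : X.residueField ξ) (hf : f ≠ 0) (y : Y) :
    ∑ᶠ x ∈ (p ⁻¹' {y} : Set X), Cyc.divFun δX ξ f x * (AlgebraicCycle.mapCoeff p δX δY x : ℤ) = 0 := by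
  classical
  obtain ⟨n, -, hn⟩ := hδ ξ
  by_cases hy : δX ξ = δY (p ξ) + 1 ∧ y = p ξ
  swap
  · refine finsum_eq_zero_of_forall_eq_zero fun x => ?_
    rw [finsum_eq_if]
    split
    swap
    · rfl
    next hx =>
    by_contra hne
    obtain ⟨hd, hc⟩ := mul_ne_zero_iff.1 hne
    obtain ⟨hsx, hdx⟩ := CycDeg.divFun_delta hd
    have hw : δX x = δY (p x) := by
      by_contra h
      exact hc (by simp [AlgebraicCycle.mapCoeff, h])
    have hxy : p x = y := hx
    have hs : p ξ ⤳ p x := hsx.map p.continuous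
    have hle : δY (p x) ≤ δY (p ξ) := by
      by_cases he : p ξ = p x
      · rw [he]
      · exact (hY _ _ hs he).1.le
    refine hy ⟨by omega, ?_⟩
    rw [← hxy]
    by_contra hne'
    have := (hY _ _ hs fun e => hne' e.symm).1
    omega
  obtain ⟨h1, rfl⟩ := hy
  let F : Scheme.{u} := p.fiber (p ξ)
  let ι : F ⟶ X := p.fiberι (p ξ)
  let c : F ⟶ Spec (CommRingCat.of (Y.residueField (p ξ))) := p.fiberToSpecResidueField (p ξ)
  haveI : IsProper c :=
    inferInstanceAs (IsProper (pullback.snd p (Y.fromSpecResidueField (p ξ))))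
  haveI : IsPreimmersion ι := inferInstanceAs (IsPreimmersion (p.fiberι (p ξ)))
  haveI : IsPreimmersion (Y.fromSpecResidueField (p ξ)) := inferInstance
  haveI : IsLocallyNoetherian F := LocallyOfFiniteType.isLocallyNoetherian c
  have hcomm : ι ≫ p = c ≫ Y.fromSpecResidueField (p ξ) := pullback.condition
  have hdl : ∀ z : F, δX (ι z) = dl F z + δY (p ξ) := by
    intro z
    have hA := Bivar.deltaCompat_comp ι p _ δX δY (deltaCompat_preimmersion ι δX) hδ
    rw [hcomm] at hA
    have hB0 : Cyc.DeltaCompat c (fun z => dl F z + δY (p ξ)) (fun _ => δY (p ξ)) := fun w => by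
      obtain ⟨m, hm, hw⟩ := CycDeg.deltaCompat_zero c w
      exact ⟨m, hm, by show dl F w + δY (p ξ) = δY (p ξ) + (m : ℤ); simp only [zero_add] at hw; omega⟩
    have hC : Cyc.DeltaCompat (Y.fromSpecResidueField (p ξ)) (fun _ => δY (p ξ)) δY := by
      have h := deltaCompat_preimmersion (Y.fromSpecResidueField (p ξ)) δY
      simp only [Scheme.fromSpecResidueField_apply] at h
      exact h
    exact deltaCompat_unique _ hA (Bivar.deltaCompat_comp c _ _ _ δY hB0 hC) z
  let w : F := p.asFiber ξ
  have hw : ι w = ξ := p.fiberι_asFiber ξ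
  have hw1 : WeilCoh.pdim F w = 1 := by
    have := hdl w
    rw [hw] at this
    simp only [dl] at this
    omega
  have hdeg : ∀ z : F, c.residueDegree z = p.residueDegree (ι z) := by
    intro z
    have e1 : (ι ≫ p).residueDegree z = (c ≫ Y.fromSpecResidueField (p ξ)).residueDegree z :=
      congrArg (fun m : F ⟶ Y => m.residueDegree z) hcomm
    rw [CycDeg.residueDegree_comp, CycDeg.residueDegree_comp,
      CycDeg.residueDegree_eq_one ι (residueFieldMap_surjective_pre ι z),
      CycDeg.residueDegree_eq_one (Y.fromSpecResidueField (p ξ)) (residueFieldMap_surjective_pre _ (c z)),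
      mul_one, one_mul] at e1
    exact e1.symm
  have main : ∀ (ξ' : X) (hw' : ι w = ξ') (g : X.residueField ξ'), g ≠ 0 →
      ∑ᶠ x ∈ (p ⁻¹' {p ξ} : Set X), Cyc.divFun δX ξ' g x * (AlgebraicCycle.mapCoeff p δX δY x : ℤ) = 0 := by
    rintro ξ' rfl g hg
    rw [← p.range_fiberι (p ξ), finsum_mem_range ι.isEmbedding.injective,
      ← CycDeg.degree_zero c w hw1 ((ι.residueFieldMap w).hom g) ((map_ne_zero _).2 hg)]
    refine finsum_congr fun z => ?_
    have hzy : δY (p (ι z)) = δY (p ξ) := congrArg δY (show ι z ∈ p ⁻¹' {p ξ} from p.range_fiberι (p ξ) ▸ ⟨z, rfl⟩)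
    have e1 := hdl z
    have e2 := hdl w
    have e3 : dl F w = 1 := by simp only [dl, hw1]; rfl
    have hiff : (ι w ⤳ ι z ∧ δX (ι z) + 1 = δX (ι w)) ↔ (w ⤳ z ∧ dl F z + 1 = dl F w) := by
      rw [ι.isEmbedding.isInducing.specializes_iff]
      constructor <;> rintro ⟨a, b⟩ <;> exact ⟨a, by omega⟩
    unfold Cyc.divFun
    by_cases h : w ⤳ z ∧ dl F z + 1 = dl F w
    · rw [dif_pos (hiff.2 h), dif_pos h, ordAt_preimmersion ι h.1 g, AlgebraicCycle.mapCoeff,
        if_pos (show δX (ι z) = δY (p.base (ι z)) from (by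
          have := h.2
          show δX (ι z) = δY (p (ι z))
          omega)), hdeg]
    · rw [dif_neg fun h' => h (hiff.1 h'), dif_neg h, zero_mul, zero_mul]
  exact main ξ hw f hf

end Groth.Agent.CycPush
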