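import Groth.Agent.C1Cap.Basic
import Groth.Agent.TMul.Frame
import Groth.Agent.RefStalk.RankOne
import Groth.Agent.CycDim.PullRat
import Groth.Agent.CycDim.PushVanish
import Groth.Agent.CycDim.Lim
import Mathlib

/-!
Pull backs of rational sections of invertible modules, and their divisors under proper push forward and flat pull back.
-/

set_option autoImplicit false
set_option linter.style.haveILetI false
set_option backward.isDefEq.respectTransparency false

universe u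

open CategoryTheory AlgebraicGeometry TopologicalSpace Opposite
open Groth.Agent.C1Cap (rdu exists_coeff rdu_ne_zero secOrdAt_eq)
open Groth.Agent.RefDiv (bijective_germ_of_isGen)
open Groth.Agent.WeakAssLib (mgerm)
open Groth.Agent.KFlat (kap kap_germ kap_smul)
open Groth.Agent.EquidimPt (IsFibMax)
open TMul (IsGen IsFrame)

noncomputable section

namespace Groth.Agent.CycSec

variable {X Y : Scheme.{u}} (f : X ⟶ Y) {L : Y.Modules}

/-- The inverse image of a generator. -/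
def pe {A : Y.Opens} (e : Γ(L, A)) : Γ((Scheme.Modules.pullback f).obj L, f ⁻¹ᵁ A) :=
  ((Scheme.Modules.pullbackPushforwardAdjunction f).unit.app L).app A e

theorem isGen_pe {A : Y.Opens} {e : Γ(L, A)} (he : IsGen e) : IsGen (pe f e) := by
  have hfr : IsFrame (n := 1) (fun _ => e) := fun y hy => by
    have hb := bijective_germ_of_isGen he hy
    refine ⟨fun c c' h => funext fun i => ?_, fun t => ?_⟩
    · simp only [Fin.sum_univ_one] at h
      rw [Subsingleton.elim i 0]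
      exact hb.1 h
    · obtain ⟨a, ha⟩ := hb.2 t
      exact ⟨fun _ => a, by simpa using ha⟩
  have hp := IsFrame.pullback f hfr
  refine RefStalk.isGen_of_stalk fun x hx => ⟨fun a b h => ?_, fun t => ?_⟩
  · have := (hp x hx).1 (a₁ := fun _ => a) (a₂ := fun _ => b)
      (by simp only [Fin.sum_univ_one]; exact h)
    exact congrFun this 0
  · obtain ⟨c, hc⟩ := (hp x hx).2 t
    refine ⟨c 0, ?_⟩
    simp only [Fin.sum_univ_one] at hc
    exact hc

/-- The inverse image of a rational section. -/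
def secPull (ξ : X) (s : Cyc.secFibre L (f ξ)) : Cyc.secFibre ((Scheme.Modules.pullback f).obj L) ξ :=
  Submodule.Quotient.mk (kap f ξ L (Quotient.out s))

theorem kap_mem (ξ : X) {m : L.presheaf.stalk (f ξ)}
    (hm : m ∈ IsLocalRing.maximalIdeal (Y.presheaf.stalk (f ξ)) •
      (⊤ : Submodule (Y.presheaf.stalk (f ξ)) (L.presheaf.stalk (f ξ)))) :
    kap f ξ L m ∈ IsLocalRing.maximalIdeal (X.presheaf.stalk ξ) •
      (⊤ : Submodule (X.presheaf.stalk ξ) (((Scheme.Modules.pullback f).obj L).presheaf.stalk ξ)) := by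
  refine Submodule.smul_induction_on hm (fun a ha v _ => ?_) fun v w hv hw => ?_
  · rw [show kap f ξ L (a • v) = (f.stalkMap ξ).hom a • kap f ξ L v from kap_smul f ξ L a v]
    exact Submodule.smul_mem_smul (IsLocalRing.map_maximalIdeal_le (f.stalkMap ξ).hom
      (Ideal.mem_map_of_mem _ ha)) Submodule.mem_top
  · rw [show kap f ξ L (v + w) = kap f ξ L v + kap f ξ L w from map_add _ v w]
    exact Submodule.add_mem _ hv hw

theorem secPull_eq {A : Y.Opens} (e : Γ(L, A)) (ξ : X) (hξ : f ξ ∈ A) {s : Cyc.secFibre L (f ξ)}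
    {φ : Y.presheaf.stalk (f ξ)}
    (hs : s = φ • (Submodule.Quotient.mk (mgerm L hξ e) : Cyc.secFibre L (f ξ))) :
    secPull f ξ s = (f.stalkMap ξ).hom φ •
      (Submodule.Quotient.mk (mgerm ((Scheme.Modules.pullback f).obj L) (show ξ ∈ f ⁻¹ᵁ A from hξ) (pe f e)) :
        Cyc.secFibre ((Scheme.Modules.pullback f).obj L) ξ) := by
  have h1 : (Submodule.Quotient.mk (Quotient.out s) : Cyc.secFibre L (f ξ)) =
      Submodule.Quotient.mk (φ • mgerm L hξ e) := by
    rw [Submodule.Quotient.mk_smul, ← hs]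
    exact Quotient.out_eq s
  have h2 := kap_mem f ξ ((Submodule.Quotient.eq _).1 h1)
  rw [map_sub, show kap f ξ L (φ • mgerm L hξ e) = (f.stalkMap ξ).hom φ • kap f ξ L (mgerm L hξ e) from
    kap_smul f ξ L φ _] at h2
  rw [secPull, ← Submodule.Quotient.mk_smul, (Submodule.Quotient.eq _).2 h2]
  exact congrArg (fun z => (Submodule.Quotient.mk ((f.stalkMap ξ).hom φ • z) :
    Cyc.secFibre ((Scheme.Modules.pullback f).obj L) ξ)) (kap_germ f ξ L A hξ e)

theorem rdu_stalkMap (ξ : X) (φ : Y.presheaf.stalk (f ξ)) :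
    rdu ξ ((f.stalkMap ξ).hom φ) = (f.residueFieldMap ξ).hom (rdu (f ξ) φ) :=
  (DFunLike.congr_fun (CommRingCat.hom_ext_iff.mp (Scheme.residue_residueFieldMap f ξ)) φ).symm

theorem secPull_ne_zero (hL : PicF.IsInvertible L) (ξ : X) {s : Cyc.secFibre L (f ξ)} (hs : s ≠ 0) :
    secPull f ξ s ≠ 0 := by
  obtain ⟨A, e, hA, he⟩ := TMul.exists_isGen hL (f ξ)
  obtain ⟨φ, hφ⟩ := exists_coeff he hA s
  intro h0
  have h1 := secPull_eq f e ξ hA hφ
  rw [h0] at h1
  have h2 := C1Cap.rdu_unique (isGen_pe f he) (show ξ ∈ f ⁻¹ᵁ A from hA)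
    (φ := (f.stalkMap ξ).hom φ) (ψ := 0) (by rw [zero_smul]; exact h1.symm)
  rw [map_zero, rdu_stalkMap] at h2
  exact rdu_ne_zero he hA hs hφ ((map_eq_zero _).1 h2)

theorem secDivFun_eq {L : X.Modules} {A : X.Opens} {e : Γ(L, A)} (he : IsGen e) {δ : X → ℤ} {ξ x : X} (hx : x ∈ A)
    {s : Cyc.secFibre L ξ} {g : X.residueField ξ}
    (H : ∀ hξ : ξ ∈ A, ∃ φ : X.presheaf.stalk ξ,
      s = φ • (Submodule.Quotient.mk (mgerm L hξ e) : Cyc.secFibre L ξ) ∧ rdu ξ φ = g) :
    Cyc.secDivFun δ L ξ s x = Cyc.divFun δ ξ g x := by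
  unfold Cyc.secDivFun Cyc.divFun
  split
  · next h =>
    obtain ⟨φ, hφ, hg⟩ := H (h.1.mem_open A.2 hx)
    rw [← hg]
    exact secOrdAt_eq he h.1 hx hφ
  · rfl

theorem secDivFun_support {L : X.Modules} {δ : X → ℤ} {ξ x : X} {s : Cyc.secFibre L ξ}
    (h : Cyc.secDivFun δ L ξ s x ≠ 0) : ξ ⤳ x ∧ δ x + 1 = δ ξ := by
  by_contra hne
  exact h (dif_neg hne)

/-- Finiteness of the divisor of a rational section on affine opens. -/
theorem finite_secDivFun [IsLocallyNoetherian X] {δ : X → ℤ} (hδ : Cyc.IsDimFun X δ) {L : X.Modules}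
    (hL : PicF.IsInvertible L) (ξ : X) {s : Cyc.secFibre L ξ} (hs : s ≠ 0) {U : X.Opens} (hU : IsAffineOpen U) :
    {x : X | x ∈ U ∧ Cyc.secDivFun δ L ξ s x ≠ 0}.Finite := by
  choose A e hxA he using fun x : X => TMul.exists_isGen hL x
  choose V hV hxV hVA using fun x : X => exists_isAffineOpen_mem_and_subset (hxA x)
  obtain ⟨t, ht⟩ := hU.isCompact.elim_finite_subcover (fun x => (V x : Set X)) (fun x => (V x).2)
    fun x _ => Set.mem_iUnion.2 ⟨x, hxV x⟩
  have key : ∀ v : X, {x : X | x ∈ V v ∧ Cyc.secDivFun δ L ξ s x ≠ 0}.Finite := by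
    intro v
    by_cases hξ : ξ ∈ A v
    · obtain ⟨φ, hφ⟩ := exists_coeff (he v) hξ s
      refine (CycDiv.finite_divFun hδ ξ (rdu_ne_zero (he v) hξ hs hφ) (hV v)).subset fun x hx => ⟨hx.1, ?_⟩
      rw [← secDivFun_eq (he v) (hVA v hx.1) fun _ => ⟨φ, hφ, rfl⟩]
      exact hx.2
    · exact Set.finite_empty.subset fun x hx =>
        hξ ((secDivFun_support hx.2).1.mem_open (A v).2 (hVA v hx.1))
  refine (t.finite_toSet.biUnion fun v _ => key v).subset fun x hx => ?_
  obtain ⟨v, hv, hxv⟩ := Set.mem_iUnion₂.1 (ht hx.1)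
  exact Set.mem_biUnion hv ⟨hxv, hx.2⟩

/-- The push forward of the divisor of a pulled back section. -/
theorem push_secPull [IsLocallyNoetherian X] [IsLocallyNoetherian Y] [IsProper f] {δX : X → ℤ} {δY : Y → ℤ}
    (hX : Cyc.IsDimFun X δX) (hY : Cyc.IsDimFun Y δY) (hδ : Cyc.DeltaCompat f δX δY) (hL : PicF.IsInvertible L)
    (ξ : X) {s : Cyc.secFibre L (f ξ)} (hs : s ≠ 0) (y : Y) :
    ∑ᶠ x ∈ (f ⁻¹' {y} : Set X), Cyc.secDivFun δX ((Scheme.Modules.pullback f).obj L) ξ (secPull f ξ s) x *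
        (AlgebraicCycle.mapCoeff f δX δY x : ℤ) =
      (AlgebraicCycle.mapCoeff f δX δY ξ : ℤ) * Cyc.secDivFun δY L (f ξ) s y := by
  classical
  by_cases hsy : f ξ ⤳ y
  swap
  · rw [finsum_mem_of_eqOn_zero fun x hx => by
      by_contra h
      exact hsy ((show f x = y from hx) ▸ (secDivFun_support (left_ne_zero_of_mul h)).1.map f.continuous)]
    unfold Cyc.secDivFun
    rw [dif_neg fun h => hsy h.1, mul_zero]
  obtain ⟨A, e, hyA, he⟩ := TMul.exists_isGen hL y
  have hξA : f ξ ∈ A := hsy.mem_open A.2 hyA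
  obtain ⟨φ, hφ⟩ := exists_coeff he hξA s
  let g := rdu (f ξ) φ
  have hg : g ≠ 0 := rdu_ne_zero he hξA hs hφ
  rw [secDivFun_eq he hyA fun _ => ⟨φ, hφ, rfl⟩,
    finsum_mem_congr rfl fun x hx => show _ * _ =
      Cyc.divFun δX ξ ((f.residueFieldMap ξ).hom g) x * (AlgebraicCycle.mapCoeff f δX δY x : ℤ) by
        rw [secDivFun_eq (isGen_pe f he) (show x ∈ f ⁻¹ᵁ A by
          show f x ∈ A
          rw [show f x = y from hx]; exact hyA)
          fun _ => ⟨(f.stalkMap ξ).hom φ, secPull_eq f e ξ hξA hφ, rdu_stalkMap f ξ φ⟩]]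
  by_cases hξ : δX ξ = δY (f ξ)
  · rw [CycPush.pushFun_divFun f hX hY hδ ξ hξ _ ((map_ne_zero _).2 hg) y]
    have hn : Cyc.normGen f ξ ((f.residueFieldMap ξ).hom g) = g ^ f.residueDegree ξ := by
      letI := (f.residueFieldMap ξ).hom.toAlgebra
      exact Algebra.norm_algebraMap g
    rw [hn, CycPull.divFun_pow _ hg]
    unfold AlgebraicCycle.mapCoeff
    rw [if_pos (show δX ξ = δY (f.base ξ) from hξ)]
  · rw [CycPush.pushFun_divFun_vanish f hX hY hδ ξ hξ _ ((map_ne_zero _).2 hg) y]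
    unfold AlgebraicCycle.mapCoeff
    rw [if_neg (show ¬ δX ξ = δY (f.base ξ) from hξ), Nat.cast_zero, zero_mul]

/-- The flat pull back of the divisor of a section. -/
theorem pull_secPull [IsLocallyNoetherian X] [IsLocallyNoetherian Y] [Flat f] {δX : X → ℤ} {δY : Y → ℤ}
    (hX : Cyc.IsDimFun X δX) (hY : Cyc.IsDimFun Y δY) {c : ℤ} (hc : ∀ x : X, IsFibMax f x → δX x = δY (f x) + c)
    (hL : PicF.IsInvertible L) (v : (η : Y) → Cyc.secFibre L η) (hv : ∀ η, v η ≠ 0) (η : Y) (x : X) :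
    Cyc.pullFun f δX δY c (Cyc.secDivFun δY L η (v η)) x =
      ∑ᶠ ξ : {ξ : X // f ξ = η ∧ IsFibMax f ξ}, ((Module.length (X.presheaf.stalk ξ.1) (X.presheaf.stalk ξ.1 ⧸
          Ideal.map (f.stalkMap ξ.1).hom (IsLocalRing.maximalIdeal (Y.presheaf.stalk (f ξ.1))))).toNat : ℤ) *
        Cyc.secDivFun δX ((Scheme.Modules.pullback f).obj L) ξ.1 (secPull f ξ.1 (v (f ξ.1))) x := by
  classical
  by_cases hsy : η ⤳ f x
  swap
  · rw [finsum_eq_zero_of_forall_eq_zero fun ξ => by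
      by_contra h
      exact hsy (ξ.2.1 ▸ (secDivFun_support (right_ne_zero_of_mul h)).1.map f.continuous)]
    unfold Cyc.pullFun Cyc.secDivFun
    rw [dif_neg fun h => hsy h.1]
    simp
  obtain ⟨A, e, hxA, he⟩ := TMul.exists_isGen hL (f x)
  have hη : η ∈ A := hsy.mem_open A.2 hxA
  choose Φ hΦ using fun (z : Y) (hz : z ∈ A) => exists_coeff he hz (v z)
  let g := rdu η (Φ η hη)
  have hg : g ≠ 0 := rdu_ne_zero he hη (hv η) (hΦ η hη)
  have hL' : Cyc.pullFun f δX δY c (Cyc.secDivFun δY L η (v η)) x =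
      Cyc.pullFun f δX δY c (Cyc.divFun δY η g) x := by
    unfold Cyc.pullFun
    rw [secDivFun_eq he hxA fun _ => ⟨Φ η hη, hΦ η hη, rfl⟩]
  rw [hL', CycPull.pullFun_divFun f hX hY hc η hg x]
  refine finsum_congr fun ξ => congrArg _ ?_
  obtain ⟨hξη, -⟩ := ξ.2
  have hξA : f ξ.1 ∈ A := by rw [hξη]; exact hη
  refine (secDivFun_eq (isGen_pe f he) (show x ∈ f ⁻¹ᵁ A from hxA)
    fun _ => ⟨(f.stalkMap ξ.1).hom (Φ (f ξ.1) hξA), secPull_eq f e ξ.1 hξA (hΦ _ hξA), ?_⟩).symm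
  rw [rdu_stalkMap]
  refine congrArg (f.residueFieldMap ξ.1).hom ?_
  have aux : ∀ (z : Y) (hz : z ∈ A) (hzη : z = η), rdu z (Φ z hz) = (Y.residueFieldCongr hzη.symm).hom g := by
    rintro z hz rfl
    rw [Scheme.residueFieldCongr_refl]
    rfl
  exact aux _ hξA hξη

end Groth.Agent.CycSec
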