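import Groth.Agent.CycDim.Fund
import Groth.Agent.RefDiv.Order
import Groth.Agent.C1Cap.Basic
import Mathlib

/-!
Principal divisors on closures of points are locally finite, and are compatible with open immersions.
-/

set_option autoImplicit false
set_option linter.style.haveILetI false
set_option backward.isDefEq.respectTransparency false

universe u

open CategoryTheory AlgebraicGeometry TopologicalSpace Opposite
open Groth.Agent.C1Cap (rdu)

noncomputable section

namespace Groth.Agent.CycDiv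

variable {X : Scheme.{u}}

/-- A closed subset has finitely many maximal points in an affine open. -/
theorem finite_maximal [IsLocallyNoetherian X] {Z : Set X} (hZ : IsClosed Z) {U : X.Opens} (hU : IsAffineOpen U) :
    {x : X | x ∈ U ∧ x ∈ Z ∧ ∀ y ∈ Z, y ⤳ x → y = x}.Finite := by
  have hfin := (CycDim.locallyFinite_components Z hZ).finite_nonempty_inter_compact hU.isCompact
  have hC : ∀ x : {x : X | x ∈ U ∧ x ∈ Z ∧ ∀ y ∈ Z, y ⤳ x → y = x},
      ∃ C : irreducibleComponents Z, (((↑) '' (C : Set Z) : Set X) ∩ U).Nonempty ∧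
        ((↑) '' (C : Set Z) : Set X) = closure {x.1} := by
    rintro ⟨x, hxU, hxZ, hmax⟩
    refine ⟨⟨irreducibleComponent (⟨x, hxZ⟩ : Z), irreducibleComponent_mem_irreducibleComponents _⟩,
      ⟨x, ⟨_, mem_irreducibleComponent, rfl⟩, hxU⟩, ?_⟩
    have hI : IsIrreducible ((↑) '' irreducibleComponent (⟨x, hxZ⟩ : Z) : Set X) :=
      isIrreducible_irreducibleComponent.image _ continuous_subtype_val.continuousOn
    have hc : IsClosed ((↑) '' irreducibleComponent (⟨x, hxZ⟩ : Z) : Set X) :=
      hZ.isClosedEmbedding_subtypeVal.isClosedMap _ isClosed_irreducibleComponent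
    have hg := hI.isGenericPoint_genericPoint_closure
    rw [hc.closure_eq] at hg
    obtain ⟨z, -, hz⟩ : hI.genericPoint ∈ ((↑) '' irreducibleComponent (⟨x, hxZ⟩ : Z) : Set X) := hg.mem
    have he := hmax hI.genericPoint (hz ▸ z.2) (hg.specializes ⟨_, mem_irreducibleComponent, rfl⟩)
    rw [← hg.def, he]
  choose g hgU hg using hC
  haveI : Finite {C : irreducibleComponents Z | (((↑) '' (C : Set Z) : Set X) ∩ U).Nonempty} := hfin.to_subtype
  exact Set.finite_coe_iff.1 (Finite.of_injective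
    (fun x => (⟨g x, hgU x⟩ : {C : irreducibleComponents Z | (((↑) '' (C : Set Z) : Set X) ∩ U).Nonempty}))
    fun x y hxy => Subtype.ext (by
      have h' : g x = g y := congrArg Subtype.val hxy
      have h : closure ({x.1} : Set X) = closure {y.1} := by rw [← hg x, ← hg y, h']
      exact ((specializes_iff_mem_closure.2 (h ▸ subset_closure rfl)).antisymm
        (specializes_iff_mem_closure.2 (h.symm ▸ subset_closure rfl))).eq))

/-- A principal divisor meets an affine open in finitely many points. -/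
theorem finite_divFun [IsLocallyNoetherian X] {δ : X → ℤ} (hδ : Cyc.IsDimFun X δ) (ξ : X) {f : X.residueField ξ}
    (hf : f ≠ 0) {U : X.Opens} (hU : IsAffineOpen U) :
    {x : X | x ∈ U ∧ Cyc.divFun δ ξ f x ≠ 0}.Finite := by
  classical
  by_cases hξU : ξ ∈ U
  swap
  · refine Set.Finite.subset Set.finite_empty fun x hx => hx.2 ?_
    rw [Cyc.divFun, dif_neg fun h => hξU (h.1.mem_open U.2 hx.1)]
  obtain ⟨w, rfl⟩ : ∃ w, rdu ξ w = f := Ideal.Quotient.mk_surjective f
  letI := (X.presheaf.germ U ξ hξU).hom.toAlgebra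
  haveI := hU.isLocalization_stalk ⟨ξ, hξU⟩
  obtain ⟨⟨a, s⟩, has⟩ := IsLocalization.surj (hU.primeIdealOf ⟨ξ, hξU⟩).asIdeal.primeCompl w
  have hs : IsUnit ((X.presheaf.germ U ξ hξU).hom s) := IsLocalization.map_units (X.presheaf.stalk ξ) s
  have hsξ : ξ ∈ X.basicOpen (s : Γ(X, U)) := (X.mem_basicOpen _ ξ hξU).2 hs
  have haξ : ξ ∈ X.basicOpen a := by
    refine (X.mem_basicOpen _ ξ hξU).2 ?_
    have hw : IsUnit w := by
      by_contra hw
      exact hf (Ideal.Quotient.eq_zero_iff_mem.2 hw)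
    exact has ▸ hw.mul hs
  let Z : Set X := closure {ξ} \ ((X.basicOpen a : Set X) ∩ X.basicOpen (s : Γ(X, U)))
  have hZ : IsClosed Z := isClosed_closure.sdiff ((X.basicOpen a).2.inter (X.basicOpen (s : Γ(X, U))).2)
  refine (finite_maximal hZ hU).subset ?_
  rintro x ⟨hxU, hx⟩
  unfold Cyc.divFun at hx
  split at hx
  swap
  · exact absurd rfl hx
  next h =>
  have hxZ : x ∈ Z := by
    refine ⟨specializes_iff_mem_closure.1 h.1, fun ⟨hxa, hxs⟩ => hx ?_⟩
    have hua := (X.mem_basicOpen _ x hxU).1 hxa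
    have hus := (X.mem_basicOpen _ x hxU).1 hxs
    have h1 : rdu ξ w * rdu ξ ((X.presheaf.stalkSpecializes h.1).hom ((X.presheaf.germ U x hxU).hom s)) =
        rdu ξ ((X.presheaf.stalkSpecializes h.1).hom ((X.presheaf.germ U x hxU).hom a)) := by
      erw [X.presheaf.germ_stalkSpecializes_apply hxU h.1, X.presheaf.germ_stalkSpecializes_apply hxU h.1]
      rw [← map_mul]
      exact congrArg (rdu ξ) has
    rw [← C1Cap.ordAt_mul_unit h.1 _ hus, h1]
    exact C1Cap.ordAt_unit h.1 hua
  refine ⟨hxU, hxZ, fun y hy hyx => ?_⟩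
  by_contra hne
  have hyξ : ξ ≠ y := fun e => hy.2 (e ▸ ⟨haξ, hsξ⟩)
  have h2 := CycDim.delta_lt hδ (CycDim.lt_of_spec (specializes_iff_mem_closure.2 hy.1) hyξ)
  have h3 := CycDim.delta_lt hδ (CycDim.lt_of_spec hyx hne)
  omega

theorem ordFrac_congr {R R' : Type u} [CommRing R] [CommRing R'] {K K' : Type u} [Field K] [Field K'] [Algebra R K]
    [Algebra R' K'] (e : R ≃+* R') (σ : K ≃+* K') (hc : ∀ a, σ (algebraMap R K a) = algebraMap R' K' (e a)) (f : K) :
    CycAlg.ordFrac R' K' (σ f) = CycAlg.ordFrac R K f := by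
  classical
  have key : ∀ {R R' : Type u} [CommRing R] [CommRing R'] {K K' : Type u} [Field K] [Field K'] [Algebra R K]
      [Algebra R' K'] (e : R ≃+* R') (σ : K ≃+* K'), (∀ a, σ (algebraMap R K a) = algebraMap R' K' (e a)) →
      (IsNoetherianRing R ∧ Ring.KrullDimLE 1 R ∧ Nontrivial R ∧ IsFractionRing R K) →
      (IsNoetherianRing R' ∧ Ring.KrullDimLE 1 R' ∧ Nontrivial R' ∧ IsFractionRing R' K') := by
    intro R R' _ _ K K' _ _ _ _ e σ hc ⟨h1, h2, h3, h4⟩
    haveI := h4
    haveI : FaithfulSMul R' K' := (faithfulSMul_iff_algebraMap_injective _ _).2 fun a b hab => by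
      obtain ⟨a, rfl⟩ := e.surjective a
      obtain ⟨b, rfl⟩ := e.surjective b
      rw [← hc, ← hc] at hab
      rw [IsFractionRing.injective R K (σ.injective hab)]
    refine ⟨isNoetherianRing_of_ringEquiv R e, Ring.krullDimLE_iff.2
      ((ringKrullDim_eq_of_ringEquiv e).symm.le.trans (Ring.krullDimLE_iff.1 h2)), e.toEquiv.symm.nontrivial,
      IsFractionRing.of_field _ _ fun z => ?_⟩
    obtain ⟨a, b, -, hab⟩ := IsFractionRing.div_surjective R (σ.symm z)
    exact ⟨e a, e b, by rw [← hc, ← hc, ← map_div₀, hab, σ.apply_symm_apply]⟩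
  by_cases h : IsNoetherianRing R ∧ Ring.KrullDimLE 1 R ∧ Nontrivial R ∧ IsFractionRing R K
  · have h' := key e σ hc h
    rw [CycAlg.ordFrac, CycAlg.ordFrac, dif_pos h, dif_pos h']
    haveI := h.1; haveI := h.2.1; haveI := h.2.2.1; haveI := h.2.2.2
    haveI := h'.1; haveI := h'.2.1; haveI := h'.2.2.1; haveI := h'.2.2.2
    haveI : IsDomain R := (IsFractionRing.injective R K).isDomain
    haveI : IsDomain R' := (IsFractionRing.injective R' K').isDomain
    have key2 : ∀ a : R, a ≠ 0 → Ring.ordFrac R' (σ (algebraMap R K a)) = Ring.ordFrac R (algebraMap R K a) := by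
      intro a ha
      have hea : e a ≠ 0 := fun h0 => ha (e.injective (h0.trans (map_zero e).symm))
      rw [hc, Ring.ordFrac_eq_ord R' hea, Ring.ordFrac_eq_ord R ha,
        Ring.ordMonoidWithZeroHom_eq_ord (mem_nonZeroDivisors_of_ne_zero hea),
        Ring.ordMonoidWithZeroHom_eq_ord (mem_nonZeroDivisors_of_ne_zero ha), RefDiv.ord_ringEquiv]
    have : Ring.ordFrac R' (σ f) = Ring.ordFrac R f := by
      obtain ⟨a, b, hb, rfl⟩ := IsFractionRing.div_surjective R f
      rcases eq_or_ne a 0 with rfl | ha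
      · simp
      · rw [map_div₀, map_div₀, map_div₀, key2 a ha, key2 b (nonZeroDivisors.ne_zero hb)]
    rw [this]
  · have h' : ¬ (IsNoetherianRing R' ∧ Ring.KrullDimLE 1 R' ∧ Nontrivial R' ∧ IsFractionRing R' K') := fun h' =>
      h (key e.symm σ.symm (fun a => σ.injective (by rw [σ.apply_symm_apply, hc, e.apply_symm_apply])) h')
    rw [CycAlg.ordFrac, CycAlg.ordFrac, dif_neg h, dif_neg h']

/-- Orders are unchanged by open immersions. -/
theorem ordAt_openImmersion {U : Scheme.{u}} (j : U ⟶ X) [IsOpenImmersion j] {ξ x : U} (h : ξ ⤳ x)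
    (f : X.residueField (j ξ)) :
    Cyc.ordAt x ξ h ((j.residueFieldMap ξ).hom f) = Cyc.ordAt (j x) (j ξ) (h.map j.continuous) f := by
  let s : X.presheaf.stalk (j x) ≃+* U.presheaf.stalk x := (asIso (j.stalkMap x)).commRingCatIsoToRingEquiv
  let σ : X.residueField (j ξ) ≃+* U.residueField ξ := (asIso (j.residueFieldMap ξ)).commRingCatIsoToRingEquiv
  have hcomp : ∀ a, σ (Cyc.specMap (j x) (j ξ) (h.map j.continuous) a) = Cyc.specMap x ξ h (s a) := fun a =>
    (DFunLike.congr_fun (CommRingCat.hom_ext_iff.mp (Scheme.residue_residueFieldMap j ξ))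
      ((X.presheaf.stalkSpecializes (h.map j.continuous)).hom a)).trans
      (congrArg (U.residue ξ).hom (Scheme.Hom.stalkSpecializes_stalkMap_apply j ξ x h a))
  have hker : RingHom.ker (Cyc.specMap x ξ h) =
      (RingHom.ker (Cyc.specMap (j x) (j ξ) (h.map j.continuous))).map s.toRingHom := by
    ext b
    rw [Ideal.mem_map_iff_of_surjective s.toRingHom s.surjective, RingHom.mem_ker]
    constructor
    · intro hb
      refine ⟨s.symm b, ?_, s.apply_symm_apply b⟩
      rw [RingHom.mem_ker]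
      apply σ.injective
      rw [hcomp, s.apply_symm_apply, hb, map_zero]
    · rintro ⟨a, ha, rfl⟩
      show Cyc.specMap x ξ h (s a) = 0
      rw [← hcomp, RingHom.mem_ker.1 ha, map_zero]
  exact ordFrac_congr (Ideal.quotientEquiv _ _ s hker) σ (fun q => by
    obtain ⟨a, rfl⟩ := Ideal.Quotient.mk_surjective q
    exact hcomp a) f

end Groth.Agent.CycDiv
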