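import Groth.Agent.CycDim.FlatLen
import Groth.Agent.CycDim.Div
import Mathlib

/-!
Flat pullback of principal divisors.
-/

set_option autoImplicit false
set_option linter.style.haveILetI false
set_option backward.isDefEq.respectTransparency false

universe u

open CategoryTheory AlgebraicGeometry TopologicalSpace Opposite
open Groth.Agent.CDivNormal (genPrime mem_genPrime specializes_of_le exists_genPrime_eq genPrime_mono)
open Groth.Agent.C1Cap (rdu)
open Groth.Agent.EquidimPt (IsFibMax)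
open scoped Pointwise

noncomputable section

namespace Groth.Agent.CycPull

open CycDim

variable {X Y : Scheme.{u}}

/-- Every point has a generisation in its fibre that is maximal there. -/
theorem exists_fibMax (q : X ⟶ Y) (x : X) : ∃ m, q m = q x ∧ m ⤳ x ∧ IsFibMax q m := by
  obtain ⟨w, hw⟩ := QuasiSober.sober (isIrreducible_irreducibleComponent (x := q.asFiber x))
    isClosed_irreducibleComponent
  refine ⟨q.fiberι (q x) w, ?_, ?_, (mem_components_iff q w).1
    (hw.def.symm ▸ irreducibleComponent_mem_irreducibleComponents _)⟩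
  · have : q.fiberι (q x) w ∈ Set.range (q.fiberι (q x)) := ⟨w, rfl⟩
    rw [Scheme.Hom.range_fiberι] at this
    exact this
  · have h1 : w ⤳ q.asFiber x := hw.specializes mem_irreducibleComponent
    have h2 := h1.map (q.fiberι (q x)).continuous
    rwa [q.fiberι_asFiber x] at h2

/-- With a shift on points maximal in their fibres, dimensions go up by at most the shift. -/
theorem delta_le_shift (f : X ⟶ Y) {δX : X → ℤ} {δY : Y → ℤ} (hX : Cyc.IsDimFun X δX) {c : ℤ}
    (hc : ∀ x : X, IsFibMax f x → δX x = δY (f x) + c) (x : X) :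
    δX x ≤ δY (f x) + c ∧ (δX x = δY (f x) + c → IsFibMax f x) := by
  obtain ⟨m, hm, hmx, hmax⟩ := exists_fibMax f x
  have h1 := hc m hmax
  rw [hm] at h1
  by_cases he : m = x
  · subst he
    exact ⟨h1.le, fun _ => hmax⟩
  · have h2 := delta_lt hX (lt_of_spec hmx he)
    exact ⟨by omega, fun h => by omega⟩

/-- The local ring of the closure of `ξ` at an immediate specialisation has dimension at most one. -/
theorem krullDimLE_locQuot {δ : X → ℤ} (hδ : Cyc.IsDimFun X δ) {ξ x : X} (h : ξ ⤳ x) (hd : δ ξ ≤ δ x + 1) :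
    Ring.KrullDimLE 1 (Cyc.LocQuot x ξ h) := by
  obtain ⟨h1, h2⟩ := krullDim_eq hδ (fun z => ξ ⤳ z ∧ z ⤳ x) ξ x ⟨specializes_rfl, h⟩ ⟨h, specializes_rfl⟩
    (Scheme.le_iff_specializes.2 h)
    (fun z hz => ⟨Scheme.le_iff_specializes.2 hz.1, by
      by_cases hzx : z = x
      · rw [hzx]
      · exact (hδ z x hz.2 hzx).1.le⟩)
    (fun z hz1 hz2 => ⟨Scheme.le_iff_specializes.1 hz2, Scheme.le_iff_specializes.1 hz1⟩)
  refine Ring.krullDimLE_iff.2 ((ringKrullDim_locQuot h).le.trans (h1.le.trans ?_))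
  exact_mod_cast (show (δ ξ - δ x).toNat ≤ 1 by omega)

/-- A quotient by an ideal only contained in maximal primes has finite length. -/
theorem length_quot_lt_top {A : Type u} [CommRing A] [IsNoetherianRing A] (I : Ideal A)
    (h : ∀ q : Ideal A, q.IsPrime → I ≤ q → q.IsMaximal) : Module.length A (A ⧸ I) < ⊤ := by
  haveI : Ring.KrullDimLE 0 (A ⧸ I) := by
    refine Ring.KrullDimLE.mk₀ fun q hq => ?_
    haveI := hq
    haveI := h (q.comap (Ideal.Quotient.mk I)) inferInstance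
      fun a ha => by rw [Ideal.mem_comap, Ideal.Quotient.eq_zero_iff_mem.2 ha]; exact zero_mem _
    have := Ideal.map_eq_top_or_isMaximal_of_surjective (Ideal.Quotient.mk I) Ideal.Quotient.mk_surjective this
    rw [Ideal.map_comap_of_surjective _ Ideal.Quotient.mk_surjective] at this
    exact this.resolve_left hq.ne_top
  haveI : IsArtinianRing (A ⧸ I) := IsNoetherianRing.isArtinianRing_of_krullDimLE_zero
  rw [Module.length_eq_of_surjective (R := A ⧸ I) (M := A ⧸ I) (S := A) Ideal.Quotient.mk_surjective]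
  exact lt_top_iff_ne_top.2 (Module.length_ne_top_iff.2
    (isFiniteLength_iff_isNoetherian_isArtinian.2 ⟨inferInstance, inferInstance⟩))

/-- The quotient of the local ring of an immediate specialisation by a nonzero element has finite length. -/
theorem length_sup_lt_top [IsLocallyNoetherian X] {δ : X → ℤ} (hδ : Cyc.IsDimFun X δ) {ξ x : X} (h : ξ ⤳ x)
    (hd : δ ξ ≤ δ x + 1) {a : X.presheaf.stalk x} (ha : a ∉ genPrime h) :
    Module.length (X.presheaf.stalk x) (X.presheaf.stalk x ⧸ (genPrime h ⊔ Ideal.span {a})) < ⊤ := by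
  refine length_quot_lt_top _ fun q hq hle => ?_
  haveI := hq
  obtain ⟨z, hz, hzq⟩ := exists_genPrime_eq x q
  have hle1 : genPrime h ≤ q := le_sup_left.trans hle
  have hne : z ≠ ξ := by
    rintro rfl
    exact ha (hzq ▸ hle (Ideal.mem_sup_right (Ideal.mem_span_singleton_self a)))
  have h1 := delta_lt hδ (lt_of_spec (specializes_of_le h hz (by rw [hzq]; exact hle1)) hne.symm)
  have hzx : z = x := eq_of_delta_le hδ hz (by omega)
  subst hzx
  rw [← hzq, genPrime_rfl]
  exact IsLocalRing.maximalIdeal.isMaximal _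

/-- The order along an immediate specialisation of an element of the local ring at the special point. -/
theorem ordAt_eq_length [IsLocallyNoetherian X] {δ : X → ℤ} (hδ : Cyc.IsDimFun X δ) {ξ x : X} (h : ξ ⤳ x)
    (hd : δ ξ ≤ δ x + 1) {a : X.presheaf.stalk x} (ha : a ∉ genPrime h) :
    Cyc.ordAt x ξ h (rdu ξ (spz h a)) =
      ((Module.length (X.presheaf.stalk x) (X.presheaf.stalk x ⧸ (genPrime h ⊔ Ideal.span {a}))).toNat : ℤ) := by
  have hfin := length_sup_lt_top hδ h hd ha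
  have hker : RingHom.ker (Cyc.specMap x ξ h) = genPrime h := Ideal.ext fun b => (mem_genPrime_iff h b).symm
  let Q := Cyc.LocQuot x ξ h
  let q : (X.presheaf.stalk x) →+* Q := Ideal.Quotient.mk _
  have halg : ∀ b : (X.presheaf.stalk x), algebraMap Q (X.residueField ξ) (q b) = rdu ξ (spz h b) := fun _ => rfl
  have hinj : Function.Injective (algebraMap Q (X.residueField ξ)) := by
    rw [injective_iff_map_eq_zero]
    intro b hb
    obtain ⟨b, rfl⟩ := Ideal.Quotient.mk_surjective b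
    exact Ideal.Quotient.eq_zero_iff_mem.2 (RingHom.mem_ker.2 hb)
  haveI : IsDomain Q := hinj.isDomain
  haveI : FaithfulSMul Q (X.residueField ξ) := (faithfulSMul_iff_algebraMap_injective _ _).2 hinj
  haveI hK1 : IsFractionRing Q (X.residueField ξ) := IsFractionRing.of_field _ _ fun z => by
    obtain ⟨w, rfl⟩ : ∃ w, rdu ξ w = z := Ideal.Quotient.mk_surjective z
    letI := (spz h).toAlgebra
    haveI := isLocalization_genPrime h
    obtain ⟨⟨b, s⟩, hbs⟩ := IsLocalization.surj (genPrime h).primeCompl w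
    refine ⟨q b, q s, ?_⟩
    have hs : rdu ξ (spz h s) ≠ 0 := fun h0 => s.2 ((mem_genPrime_iff h s.1).2 (RingHom.mem_ker.2 h0))
    rw [halg, halg, eq_div_iff hs, ← map_mul]
    exact congrArg (rdu ξ) hbs
  haveI hK2 : Ring.KrullDimLE 1 Q := krullDimLE_locQuot hδ h hd
  have hqa : q a ≠ 0 := fun h0 => ha (by rw [← hker]; exact Ideal.Quotient.eq_zero_iff_mem.1 h0)
  have hlen : Module.length Q (Q ⧸ Ideal.span {q a}) =
      Module.length (X.presheaf.stalk x) ((X.presheaf.stalk x) ⧸ (genPrime h ⊔ Ideal.span {a})) := by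
    rw [← Module.length_eq_of_surjective (R := Q) (M := Q ⧸ Ideal.span {q a}) (S := X.presheaf.stalk x)
      Ideal.Quotient.mk_surjective]
    have hmap : Ideal.span {q a} = (Ideal.span {a}).map q := by rw [Ideal.map_span, Set.image_singleton]
    rw [hmap]
    exact ((DoubleQuot.quotQuotEquivQuotSupₐ (X.presheaf.stalk x) (RingHom.ker (Cyc.specMap x ξ h))
      (Ideal.span {a})).toLinearEquiv.trans (Submodule.quotEquivOfEq _ _ (by rw [hker]))).length_eq
  rw [← halg, Cyc.ordAt, CycAlg.ordFrac, dif_pos ⟨inferInstance, hK2, inferInstance, hK1⟩]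
  change WithZero.recZeroCoe (motive := fun _ => ℤ) 0 _ (Ring.ordFrac Q (algebraMap Q (X.residueField ξ) (q a))) = _
  rw [Ring.ordFrac_eq_ord Q hqa, Ring.ordMonoidWithZeroHom_eq_ord (mem_nonZeroDivisors_of_ne_zero hqa), Ring.ord,
    hlen]
  obtain ⟨m, hm⟩ := WithTop.ne_top_iff_exists.1 hfin.ne
  rw [← hm]
  rfl

/-- The multiplicity at `ξ` of the closed subscheme cut out near `x` by an ideal of the local ring at `x`. -/
theorem lenAt_quot [IsLocallyNoetherian X] {ξ x : X} (h : ξ ⤳ x) (J : Ideal (X.presheaf.stalk x))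
    (p : Ideal (X.presheaf.stalk x ⧸ J)) [p.IsPrime] (hp : p.comap (Ideal.Quotient.mk J) = genPrime h) :
    lenAt ⟨p, inferInstance⟩ (X.presheaf.stalk x ⧸ J) =
      Module.length (X.presheaf.stalk ξ) (X.presheaf.stalk ξ ⧸ J.map (spz h)) := by
  let Rp := Localization.AtPrime p
  have h1 : lenAt ⟨p, inferInstance⟩ (X.presheaf.stalk x ⧸ J) = Module.length Rp Rp :=
    LinearEquiv.length_eq ((IsLocalizedModule.iso p.primeCompl (Algebra.linearMap (X.presheaf.stalk x ⧸ J)
      Rp)).extendScalarsOfIsLocalization p.primeCompl Rp)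
  rw [h1]
  letI := (spz h).toAlgebra
  haveI := isLocalization_genPrime h
  have hM : Algebra.algebraMapSubmonoid (X.presheaf.stalk x ⧸ J) (genPrime h).primeCompl = p.primeCompl := by
    ext b
    constructor
    · rintro ⟨c, hc, rfl⟩ hb
      exact hc (hp ▸ hb)
    · intro hb
      obtain ⟨c, rfl⟩ := Ideal.Quotient.mk_surjective b
      exact ⟨c, fun hc => hb (hp.ge hc), rfl⟩
  haveI : IsLocalization p.primeCompl
      (X.presheaf.stalk ξ ⧸ J.map (algebraMap (X.presheaf.stalk x) (X.presheaf.stalk ξ))) := by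
    rw [← hM]
    infer_instance
  rw [length_congr (IsLocalization.algEquiv p.primeCompl Rp
    (X.presheaf.stalk ξ ⧸ J.map (algebraMap (X.presheaf.stalk x) (X.presheaf.stalk ξ)))).toRingEquiv]
  exact (Module.length_eq_of_surjective (R := X.presheaf.stalk ξ ⧸ J.map (spz h)) (M := X.presheaf.stalk ξ ⧸ J.map (spz h))
    (S := X.presheaf.stalk ξ) Ideal.Quotient.mk_surjective).symm

/-- The length of the quotient of a one dimensional subscheme through `x` by a regular element, as a sum over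
its components through `x`. -/
theorem length_quot_components [IsLocallyNoetherian X] {δ : X → ℤ} (hδ : Cyc.IsDimFun X δ) {x : X}
    (J : Ideal (X.presheaf.stalk x)) (hJ : ∀ (z : X) (hz : z ⤳ x), J ≤ genPrime hz → δ z ≤ δ x + 1)
    (hex : ∃ (z : X) (hz : z ⤳ x), J ≤ genPrime hz ∧ z ≠ x) {a : X.presheaf.stalk x}
    (ha : ∀ (z : X) (hz : z ⤳ x), J ≤ genPrime hz → δ z = δ x + 1 → a ∉ genPrime hz)
    (hreg : ∀ b, a * b ∈ J → b ∈ J) :
    ((Module.length (X.presheaf.stalk x) (X.presheaf.stalk x ⧸ (J ⊔ Ideal.span {a}))).toNat : ℤ) =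
      ∑ᶠ ξ : {ξ : X // ∃ h : ξ ⤳ x, J ≤ genPrime h ∧ δ ξ = δ x + 1},
        ((Module.length (X.presheaf.stalk ξ.1) (X.presheaf.stalk ξ.1 ⧸ J.map (spz ξ.2.1))).toNat : ℤ) *
          Cyc.ordAt x ξ.1 ξ.2.1 (rdu ξ.1 (spz ξ.2.1 a)) := by
  classical
  let Q := X.presheaf.stalk x ⧸ J
  let q : X.presheaf.stalk x →+* Q := Ideal.Quotient.mk J
  have hqJ : ∀ (p : Ideal Q), J ≤ p.comap q := fun p a ha => by
    rw [Ideal.mem_comap, Ideal.Quotient.eq_zero_iff_mem.2 ha]; exact zero_mem _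
  haveI : Nontrivial Q := by
    obtain ⟨z, hz, hzJ, -⟩ := hex
    exact Ideal.Quotient.nontrivial_iff.2 fun h => (inferInstance : (genPrime hz).IsPrime).ne_top (top_le_iff.1 (h ▸ hzJ))
  haveI : IsLocalRing Q := IsLocalRing.of_surjective' q Ideal.Quotient.mk_surjective
  -- primes of the quotient
  have hprime : ∀ (p : Ideal Q) [p.IsPrime], ∃ (z : X) (hz : z ⤳ x), J ≤ genPrime hz ∧ p.comap q = genPrime hz := by
    intro p _
    obtain ⟨z, hz, hzp⟩ := exists_genPrime_eq x (p.comap q)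
    exact ⟨z, hz, by rw [hzp]; exact hqJ p, hzp.symm⟩
  have hminz : ∀ (p : Ideal Q) [p.IsPrime] (z : X) (hz : z ⤳ x), J ≤ genPrime hz → p.comap q = genPrime hz →
      δ z = δ x + 1 → p ∈ minimalPrimes Q := by
    intro p _ z hz _ hpz hδz
    refine ⟨⟨inferInstance, bot_le⟩, fun p' hp' hle => ?_⟩
    haveI := hp'.1
    obtain ⟨z', hz', hJ', hp'z⟩ := hprime p'
    have hsp : z' ⤳ z := specializes_of_le hz' hz (by rw [← hp'z, ← hpz]; exact Ideal.comap_mono hle)
    have := eq_of_delta_le hδ hsp (by have := hJ z' hz' hJ'; omega)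
    subst this
    refine le_of_eq ?_
    rw [← Ideal.map_comap_of_surjective q Ideal.Quotient.mk_surjective p, hpz, ← hp'z,
      Ideal.map_comap_of_surjective q Ideal.Quotient.mk_surjective]
  have hxmax : ∀ (p : Ideal Q) [p.IsPrime], p ∈ minimalPrimes Q → p.comap q ≠ genPrime (specializes_refl x) := by
    intro p _ hp he
    obtain ⟨z, hz, hzJ, hzx⟩ := hex
    have hk : RingHom.ker q ≤ genPrime hz := by rw [Ideal.mk_ker]; exact hzJ
    haveI := Ideal.map_isPrime_of_surjective (f := q) Ideal.Quotient.mk_surjective hk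
    have hle : (genPrime hz).map q ≤ p := by
      rw [← Ideal.map_comap_of_surjective q Ideal.Quotient.mk_surjective p, he]
      refine Ideal.map_mono ?_
      rw [genPrime_rfl]
      exact IsLocalRing.le_maximalIdeal (inferInstance : (genPrime hz).IsPrime).ne_top
    have h2 := Ideal.comap_mono (f := q) (hp.2 ⟨inferInstance, bot_le⟩ hle)
    rw [Ideal.comap_map_of_surjective _ Ideal.Quotient.mk_surjective, he] at h2
    have h3 : genPrime (specializes_refl x) ≤ genPrime hz := h2.trans (sup_le le_rfl hk)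
    exact hzx (hz.antisymm (specializes_of_le (specializes_refl x) hz h3)).eq
  have hminδ : ∀ (p : Ideal Q) [p.IsPrime] (z : X) (hz : z ⤳ x), J ≤ genPrime hz → p.comap q = genPrime hz →
      p ∈ minimalPrimes Q → δ z = δ x + 1 := by
    intro p _ z hz hzJ hpz hp
    have hne : z ≠ x := by
      rintro rfl
      exact hxmax p hp hpz
    have := delta_lt hδ (lt_of_spec hz hne)
    have := hJ z hz hzJ
    omega
  have hR : Ring.KrullDimLE 1 Q := by
    refine Ring.krullDimLE_one_iff.2 fun p hp => ?_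
    haveI := hp
    obtain ⟨z, hz, hzJ, hpz⟩ := hprime p
    by_cases hzx : z = x
    · subst hzx
      right
      haveI : (p.comap q).IsMaximal := by
        rw [hpz, genPrime_rfl]; exact IsLocalRing.maximalIdeal.isMaximal _
      have := Ideal.map_eq_top_or_isMaximal_of_surjective q Ideal.Quotient.mk_surjective this
      rw [Ideal.map_comap_of_surjective _ Ideal.Quotient.mk_surjective] at this
      exact this.resolve_left hp.ne_top
    · left
      have := delta_lt hδ (lt_of_spec hz hzx)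
      exact hminz p z hz hzJ hpz (by have := hJ z hz hzJ; omega)
  have hmin : ∀ p ∈ minimalPrimes Q, q a ∉ p := by
    intro p hp hqa
    haveI := hp.1.1
    obtain ⟨z, hz, hzJ, hpz⟩ := hprime p
    exact ha z hz hzJ (hminδ p z hz hzJ hpz hp) (hpz ▸ hqa)
  have hker : Subsingleton (LinearMap.ker (LinearMap.lsmul Q Q (q a))) := by
    refine subsingleton_of_forall_eq 0 fun m => Subtype.ext ?_
    obtain ⟨b, hb⟩ := Ideal.Quotient.mk_surjective (m : Q)
    have h0 : q a * (m : Q) = 0 := m.2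
    rw [← hb, ← map_mul] at h0
    rw [← hb]
    exact Ideal.Quotient.eq_zero_iff_mem.2 (hreg b (Ideal.Quotient.eq_zero_iff_mem.1 h0))
  have hquot : Module.length (X.presheaf.stalk x) (X.presheaf.stalk x ⧸ (J ⊔ Ideal.span {a})) =
      Module.length Q (Coker (q a) Q) := by
    rw [← Module.length_eq_of_surjective (R := Q) (M := Coker (q a) Q) (S := X.presheaf.stalk x)
      Ideal.Quotient.mk_surjective]
    refine LinearEquiv.length_eq ?_
    refine ((DoubleQuot.quotQuotEquivQuotSupₐ (X.presheaf.stalk x) J (Ideal.span {a})).toLinearEquiv.symm.trans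
      ((Submodule.quotEquivOfEq ((Ideal.span {a}).map q) (q a • (⊤ : Submodule Q Q)) ?_).restrictScalars
        (X.presheaf.stalk x)))
    rw [Ideal.map_span, Set.image_singleton]
    ext z
    rw [Ideal.mem_span_singleton']
    constructor
    · rintro ⟨c, rfl⟩; exact ⟨c, trivial, mul_comm (q a) c⟩
    · rintro ⟨c, -, rfl⟩; exact ⟨c, mul_comm c (q a)⟩
  rw [hquot, length_quot_eq hR hmin Q, Module.length_eq_zero (M := LinearMap.ker (LinearMap.lsmul Q Q (q a))),
    zero_add]
  let P := {ξ : X // ∃ h : ξ ⤳ x, J ≤ genPrime h ∧ δ ξ = δ x + 1}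
  have hk : ∀ ξ : P, RingHom.ker q ≤ genPrime ξ.2.1 := fun ξ => by
    rw [Ideal.mk_ker]; exact ξ.2.2.1
  let e : P → PrimeSpectrum Q := fun ξ =>
    ⟨(genPrime ξ.2.1).map q, Ideal.map_isPrime_of_surjective Ideal.Quotient.mk_surjective (hk ξ)⟩
  have hcomap : ∀ ξ : P, (e ξ).asIdeal.comap q = genPrime ξ.2.1 := fun ξ => by
    show ((genPrime ξ.2.1).map q).comap q = _
    rw [Ideal.comap_map_of_surjective _ Ideal.Quotient.mk_surjective]
    exact sup_eq_left.2 (hk ξ)
  have he : Function.Injective e := by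
    intro ξ η hξη
    have h1 : genPrime ξ.2.1 = genPrime η.2.1 := by rw [← hcomap ξ, ← hcomap η, hξη]
    exact Subtype.ext ((specializes_of_le ξ.2.1 η.2.1 h1.le).antisymm (specializes_of_le η.2.1 ξ.2.1 h1.ge)).eq
  have hmem : ∀ ξ : P, (e ξ).asIdeal ∈ minimalPrimes Q := fun ξ =>
    haveI := (e ξ).2
    hminz _ ξ.1 ξ.2.1 ξ.2.2.1 (hcomap ξ) ξ.2.2.2
  have hfin : {p : PrimeSpectrum Q | p.asIdeal ∈ minimalPrimes Q}.Finite :=
    (minimalPrimes.finite_of_isNoetherianRing Q).preimage (fun p _ q _ he => PrimeSpectrum.ext he)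
  haveI : Finite P :=
    Finite.of_injective (fun ξ => (⟨e ξ, hfin.mem_toFinset.2 (hmem ξ)⟩ : hfin.toFinset))
      fun ξ η h => he (congrArg Subtype.val h)
  haveI : Fintype P := Fintype.ofFinite P
  have hlen : ∀ ξ : P, lenAt (e ξ) Q =
      Module.length (X.presheaf.stalk ξ.1) (X.presheaf.stalk ξ.1 ⧸ J.map (spz ξ.2.1)) := fun ξ =>
    haveI := (e ξ).2
    lenAt_quot ξ.2.1 J (e ξ).asIdeal (hcomap ξ)
  have hlenfin : ∀ ξ : P,
      Module.length (X.presheaf.stalk ξ.1) (X.presheaf.stalk ξ.1 ⧸ J.map (spz ξ.2.1)) < ⊤ := by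
    intro ξ
    refine length_quot_lt_top _ fun p hp hle => ?_
    haveI := hp
    obtain ⟨w, hw, hwp⟩ := exists_genPrime_eq ξ.1 p
    have hwJ : J ≤ genPrime (hw.trans ξ.2.1) := by
      intro b hb
      have h1 : spz ξ.2.1 b ∈ genPrime hw := hwp ▸ hle (Ideal.mem_map_of_mem _ hb)
      rw [mem_genPrime] at h1 ⊢
      rwa [show (X.presheaf.stalkSpecializes (hw.trans ξ.2.1)).hom b =
        (X.presheaf.stalkSpecializes hw).hom (spz ξ.2.1 b) from
          (DFunLike.congr_fun (CommRingCat.hom_ext_iff.mp (TopCat.Presheaf.stalkSpecializes_comp X.presheaf hw ξ.2.1)) b).symm]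
    have hwξ : w = ξ.1 := eq_of_delta_le hδ hw (by have := hJ w _ hwJ; have := ξ.2.2.2; omega)
    subst hwξ
    rw [← hwp, genPrime_rfl]
    exact IsLocalRing.maximalIdeal.isMaximal _
  have hcoefA : ∀ ξ : P, coef (q a) (e ξ) =
      Module.length (X.presheaf.stalk x) (X.presheaf.stalk x ⧸ (genPrime ξ.2.1 ⊔ Ideal.span {a})) := by
    intro ξ
    rw [coef, ← Module.length_eq_of_surjective (R := Q) (M := Q ⧸ ((e ξ).asIdeal ⊔ Ideal.span {q a}))
      (S := X.presheaf.stalk x) Ideal.Quotient.mk_surjective]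
    refine LinearEquiv.length_eq ?_
    have hmap : (genPrime ξ.2.1 ⊔ Ideal.span {a}).map q = (e ξ).asIdeal ⊔ Ideal.span {q a} := by
      rw [Ideal.map_sup, Ideal.map_span, Set.image_singleton]
    refine ((Submodule.quotEquivOfEq _ _ hmap.symm).restrictScalars (X.presheaf.stalk x)).trans
      ((DoubleQuot.quotQuotEquivQuotSupₐ (X.presheaf.stalk x) J (genPrime ξ.2.1 ⊔ Ideal.span {a})).toLinearEquiv.trans
        (Submodule.quotEquivOfEq _ _ (sup_eq_right.2 (le_sup_of_le_left ξ.2.2.1))))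
  have hcoef : ∀ ξ : P, coef (q a) (e ξ) < ⊤ := fun ξ => by
    rw [hcoefA ξ]
    exact length_sup_lt_top hδ ξ.2.1 ξ.2.2.2.le (ha ξ.1 ξ.2.1 ξ.2.2.1 ξ.2.2.2)
  have hsum : (∑ᶠ (p : PrimeSpectrum Q) (_ : p.asIdeal ∈ minimalPrimes Q), lenAt p Q * coef (q a) p) =
      ∑ ξ : P, lenAt (e ξ) Q * coef (q a) (e ξ) := by
    refine (finsum_mem_eq_finite_toFinset_sum _ hfin).trans ?_
    refine (Finset.sum_of_injOn (s := (Finset.univ : Finset P))
      (f := fun ξ => lenAt (e ξ) Q * coef (q a) (e ξ))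
      (g := fun p => lenAt p Q * coef (q a) p)
      e he.injOn (fun ξ _ => hfin.mem_toFinset.2 (hmem ξ)) (fun p hp hne => ?_) (fun ξ _ => rfl)).symm
    obtain ⟨z, hz, hzJ, hpz⟩ := hprime p.asIdeal
    have hd := hminδ p.asIdeal z hz hzJ hpz (hfin.mem_toFinset.1 hp)
    refine absurd ⟨⟨z, hz, hzJ, hd⟩, Finset.mem_univ _, PrimeSpectrum.ext ?_⟩ hne
    show (genPrime hz).map q = p.asIdeal
    rw [← hpz, Ideal.map_comap_of_surjective _ Ideal.Quotient.mk_surjective]
  rw [hsum, finsum_eq_sum_of_fintype]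
  have hterm : ∀ ξ : P, lenAt (e ξ) Q * coef (q a) (e ξ) ≠ ⊤ := fun ξ =>
    WithTop.mul_ne_top (by rw [hlen ξ]; exact (hlenfin ξ).ne) (hcoef ξ).ne
  rw [ENat.toNat_sum fun ξ _ => hterm ξ, Nat.cast_sum]
  refine Finset.sum_congr rfl fun ξ _ => ?_
  rw [ENat.toNat_mul, Nat.cast_mul, hlen ξ, hcoefA ξ,
    ordAt_eq_length hδ ξ.2.1 ξ.2.2.2.le (ha ξ.1 ξ.2.1 ξ.2.2.1 ξ.2.2.2)]

/-- A flat pullback of a principal divisor is the sum of the divisors of the pulled back function on the
components of the preimage. -/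
theorem pull_key [IsLocallyNoetherian X] [IsLocallyNoetherian Y] (f : X ⟶ Y) [Flat f] {δX : X → ℤ} {δY : Y → ℤ}
    (hX : Cyc.IsDimFun X δX) (hY : Cyc.IsDimFun Y δY) {c : ℤ} (hc : ∀ x : X, IsFibMax f x → δX x = δY (f x) + c)
    {η : Y} {x : X} (hs : η ⤳ f x) (hy : δY (f x) + 1 = δY η) (hx : δX x = δY (f x) + c)
    {a : Y.presheaf.stalk (f x)} (ha : a ∉ genPrime hs) :
    ((Module.length (X.presheaf.stalk x)
        (X.presheaf.stalk x ⧸ (genPrime hs ⊔ Ideal.span {a}).map (f.stalkMap x).hom)).toNat : ℤ) =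
      ∑ᶠ ξ : {ξ : X // ξ ⤳ x ∧ f ξ = η}, ((Module.length (X.presheaf.stalk ξ.1) (X.presheaf.stalk ξ.1 ⧸
          Ideal.map (f.stalkMap ξ.1).hom (IsLocalRing.maximalIdeal (Y.presheaf.stalk (f ξ.1))))).toNat : ℤ) *
        Cyc.ordAt x ξ.1 ξ.2.1 (rdu ξ.1 (spz ξ.2.1 ((f.stalkMap x).hom a))) := by
  classical
  letI := (f.stalkMap x).hom.toAlgebra
  haveI : Module.Flat (Y.presheaf.stalk (f x)) (X.presheaf.stalk x) := Flat.stalkMap f x
  have hφ : (f.stalkMap x).hom = algebraMap (Y.presheaf.stalk (f x)) (X.presheaf.stalk x) := rfl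
  let J : Ideal (X.presheaf.stalk x) := (genPrime hs).map (f.stalkMap x).hom
  have hJiff : ∀ (z : X) (hz : z ⤳ x), J ≤ genPrime hz ↔ η ⤳ f z := by
    intro z hz
    rw [Ideal.map_le_iff_le_comap]
    have hcomap : (genPrime hz).comap (f.stalkMap x).hom = genPrime (hz.map f.continuous) := by
      ext b
      rw [Ideal.mem_comap, mem_genPrime, mem_genPrime, ← Scheme.Hom.stalkSpecializes_stalkMap_apply f z x hz b]
      exact not_congr (isUnit_map_iff (f.stalkMap z).hom _)
    rw [hcomap]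
    exact ⟨fun h => specializes_of_le hs (hz.map f.continuous) h, fun h => genPrime_mono h (hz.map f.continuous)⟩
  have hηle : ∀ {y : Y}, η ⤳ y → δY y ≤ δY η ∧ (δY y = δY η → y = η) := fun {y} h => by
    by_cases he : η = y
    · subst he; exact ⟨le_rfl, fun _ => rfl⟩
    · have := delta_lt hY (lt_of_spec h he)
      exact ⟨this.le, fun h' => by omega⟩
  have hJ : ∀ (z : X) (hz : z ⤳ x), J ≤ genPrime hz → δX z ≤ δX x + 1 := fun z hz h => by
    have h1 := (delta_le_shift f hX hc z).1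
    have h2 := (hηle ((hJiff z hz).1 h)).1
    omega
  have hfxη : f x ≠ η := fun e => by rw [e] at hy; omega
  have hcomp : ∀ (ξ : X) (h : ξ ⤳ x), (f ξ = η ↔ J ≤ genPrime h ∧ δX ξ = δX x + 1) := by
    intro ξ h
    constructor
    · intro he
      have hJξ : J ≤ genPrime h := (hJiff ξ h).2 (by rw [he])
      have := hJ ξ h hJξ
      have := delta_lt hX (lt_of_spec h (fun e => hfxη (by rw [← e, he])))
      exact ⟨hJξ, by omega⟩
    · rintro ⟨hJξ, hd⟩
      have h1 := (delta_le_shift f hX hc ξ).1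
      obtain ⟨h2, h3⟩ := hηle ((hJiff ξ h).1 hJξ)
      exact h3 (by omega)
  have hex : ∃ (z : X) (hz : z ⤳ x), J ≤ genPrime hz ∧ z ≠ x := by
    obtain ⟨z, hz, hfz⟩ := Flat.generalizingMap f hs
    exact ⟨z, hz, (hJiff z hz).2 (by rw [hfz]), fun e => hfxη (by rw [← e, hfz])⟩
  have haX : ∀ (z : X) (hz : z ⤳ x), J ≤ genPrime hz → δX z = δX x + 1 → (f.stalkMap x).hom a ∉ genPrime hz := by
    intro z hz hzJ hd hmem
    obtain rfl : f z = η := (hcomp z hz).2 ⟨hzJ, hd⟩
    rw [mem_genPrime, ← Scheme.Hom.stalkSpecializes_stalkMap_apply f z x hz a] at hmem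
    rw [mem_genPrime, not_not] at ha
    exact hmem (ha.map (f.stalkMap z).hom)
  have hreg : ∀ b, (f.stalkMap x).hom a * b ∈ J → b ∈ J := by
    intro b hb
    let P := genPrime hs
    let L : (Y.presheaf.stalk (f x) ⧸ P) →ₗ[Y.presheaf.stalk (f x)] (Y.presheaf.stalk (f x) ⧸ P) :=
      LinearMap.lsmul _ _ a
    have hL : Function.Injective L := by
      rw [injective_iff_map_eq_zero]
      intro m hm
      obtain ⟨m, rfl⟩ := Ideal.Quotient.mk_surjective m
      exact Ideal.Quotient.eq_zero_iff_mem.2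
        (((inferInstance : P.IsPrime).mem_or_mem (Ideal.Quotient.eq_zero_iff_mem.1 hm)).resolve_left ha)
    have hLT := Module.Flat.lTensor_preserves_injective_linearMap (M := X.presheaf.stalk x) L hL
    let E := (Algebra.TensorProduct.quotIdealMapEquivTensorQuot (X.presheaf.stalk x) P).toLinearEquiv
    have hlin : ∀ m, L.lTensor (X.presheaf.stalk x) m = a • m := fun m => by
      induction m using TensorProduct.induction_on with
      | zero => simp
      | tmul u v => simp [L, TensorProduct.smul_tmul', TensorProduct.tmul_smul]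
      | add u v hu hv => rw [map_add, hu, hv, smul_add]
    have h0 : a • E (Ideal.Quotient.mk _ b) = 0 := by
      rw [algebra_compatible_smul (X.presheaf.stalk x) a, ← map_smul]
      have : (algebraMap (Y.presheaf.stalk (f x)) (X.presheaf.stalk x) a) •
          (Ideal.Quotient.mk (P.map (algebraMap (Y.presheaf.stalk (f x)) (X.presheaf.stalk x))) b) = 0 :=
        Ideal.Quotient.eq_zero_iff_mem.2 hb
      rw [this, map_zero]
    rw [← hlin, ← map_zero (L.lTensor (X.presheaf.stalk x))] at h0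
    exact Ideal.Quotient.eq_zero_iff_mem.1 (E.map_eq_zero_iff.1 (hLT h0))
  rw [Ideal.map_sup, Ideal.map_span, Set.image_singleton,
    length_quot_components hX J hJ hex haX hreg]
  refine finsum_eq_of_bijective
    (fun ξ => ⟨ξ.1, ξ.2.1, (hcomp ξ.1 ξ.2.1).2 ⟨ξ.2.2.1, ξ.2.2.2⟩⟩)
    ⟨fun p q h => Subtype.ext (congrArg (fun w : {ξ : X // ξ ⤳ x ∧ f ξ = η} => w.1) h),
      fun ξ => ⟨⟨ξ.1, ξ.2.1, (hcomp ξ.1 ξ.2.1).1 ξ.2.2⟩, rfl⟩⟩ fun ξ => ?_
  dsimp only
  have hfξ : f ξ.1 = η := (hcomp ξ.1 ξ.2.1).2 ⟨ξ.2.2.1, ξ.2.2.2⟩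
  have hs' : f ξ.1 ⤳ f x := ξ.2.1.map f.continuous
  have hgen : genPrime hs = genPrime hs' :=
    le_antisymm (genPrime_mono (specializes_of_eq hfξ.symm) hs') (genPrime_mono (specializes_of_eq hfξ) hs)
  have hI : J.map (spz ξ.2.1) =
      Ideal.map (f.stalkMap ξ.1).hom (IsLocalRing.maximalIdeal (Y.presheaf.stalk (f ξ.1))) := by
    show ((genPrime hs).map (f.stalkMap x).hom).map (spz ξ.2.1) = _
    rw [hgen, Ideal.map_map, show (spz ξ.2.1).comp (f.stalkMap x).hom = (f.stalkMap ξ.1).hom.comp (spz hs') from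
      RingHom.ext fun b => (Scheme.Hom.stalkSpecializes_stalkMap_apply f ξ.1 x ξ.2.1 b).symm, ← Ideal.map_map]
    congr 1
    letI := (spz hs').toAlgebra
    haveI := isLocalization_genPrime hs'
    exact IsLocalization.AtPrime.map_eq_maximalIdeal (genPrime hs') (Y.presheaf.stalk (f ξ.1))
  rw [hI]

/-- The flat pullback of a principal divisor. -/
theorem pullFun_divFun [IsLocallyNoetherian X] [IsLocallyNoetherian Y] (f : X ⟶ Y) [Flat f] {δX : X → ℤ} {δY : Y → ℤ}
    (hX : Cyc.IsDimFun X δX) (hY : Cyc.IsDimFun Y δY) {c : ℤ} (hc : ∀ x : X, IsFibMax f x → δX x = δY (f x) + c)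
    (η : Y) {g : Y.residueField η} (hg : g ≠ 0) (x : X) :
    Cyc.pullFun f δX δY c (Cyc.divFun δY η g) x =
      ∑ᶠ ξ : {ξ : X // f ξ = η ∧ IsFibMax f ξ}, ((Module.length (X.presheaf.stalk ξ.1) (X.presheaf.stalk ξ.1 ⧸
          Ideal.map (f.stalkMap ξ.1).hom (IsLocalRing.maximalIdeal (Y.presheaf.stalk (f ξ.1))))).toNat : ℤ) *
        Cyc.divFun δX ξ.1 (f.residueFieldMap ξ.1 ((Y.residueFieldCongr ξ.2.1.symm).hom g)) x := by
  classical
  unfold Cyc.pullFun Cyc.divFun
  have hδξ : ∀ ξ : {ξ : X // f ξ = η ∧ IsFibMax f ξ}, δX ξ.1 = δY η + c := fun ξ => by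
    rw [hc ξ.1 ξ.2.2, ξ.2.1]
  by_cases hs : η ⤳ f x
  swap
  · rw [finsum_eq_zero_of_forall_eq_zero fun ξ => by
      rw [dif_neg fun h => hs (ξ.2.1 ▸ h.1.map f.continuous), mul_zero]]
    split
    · rw [dif_neg fun h => hs h.1, zero_mul]
    · rfl
  obtain ⟨hle, -⟩ := delta_le_shift f hX hc x
  by_cases hd : δX x + 1 = δY η + c
  swap
  · rw [finsum_eq_zero_of_forall_eq_zero fun ξ => by
      rw [dif_neg fun h => hd (by rw [h.2, hδξ ξ]), mul_zero]]
    split
    · next h1 => rw [dif_neg fun h => hd (by omega), zero_mul]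
    · rfl
  by_cases he : η = f x
  · subst he
    rw [if_neg (by omega)]
    refine (finsum_eq_zero_of_forall_eq_zero fun ξ => ?_).symm
    split
    swap
    · rw [mul_zero]
    next h =>
    obtain ⟨⟨ξ, hfξ, hm⟩, rfl⟩ : ∃ ζ : {ξ : X // f ξ = f x ∧ IsFibMax f ξ}, ζ = ξ := ⟨ξ, rfl⟩
    obtain ⟨w, hw⟩ : ∃ w, rdu (f ξ) w = (Y.residueFieldCongr hfξ.symm).hom g := Ideal.Quotient.mk_surjective _
    have hwu : IsUnit w := by
      by_contra hn
      have h0 : (Y.residueFieldCongr hfξ.symm).hom g = 0 := hw ▸ Ideal.Quotient.eq_zero_iff_mem.2 hn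
      exact hg ((map_eq_zero _).1 h0)
    let w' := (Y.presheaf.stalkSpecializes (specializes_of_eq hfξ.symm : f x ⤳ f ξ)).hom w
    have hw' : spz (h.1.map f.continuous) w' = w := by
      show (Y.presheaf.stalkSpecializes _ ≫ Y.presheaf.stalkSpecializes _).hom w = w
      rw [TopCat.Presheaf.stalkSpecializes_comp, TopCat.Presheaf.stalkSpecializes_refl]
      rfl
    rw [show Cyc.ordAt x ξ h.1 (f.residueFieldMap ξ ((Y.residueFieldCongr hfξ.symm).hom g)) = 0 from ?_, mul_zero]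
    rw [← hw, ← hw']
    exact (congrArg (Cyc.ordAt x ξ h.1) (residueFieldMap_rdu_spz f h.1 w')).trans
      (C1Cap.ordAt_unit h.1 ((hwu.map _ : IsUnit w').map (f.stalkMap x).hom))
  · have hlt := delta_lt hY (lt_of_spec hs he)
    have hy : δY (f x) + 1 = δY η := by omega
    have hx : δX x = δY (f x) + c := by omega
    rw [if_pos hx, dif_pos ⟨hs, hy⟩]
    let L : ℕ∞ := Module.length (X.presheaf.stalk x) (X.presheaf.stalk x ⧸
      Ideal.map (f.stalkMap x).hom (IsLocalRing.maximalIdeal (Y.presheaf.stalk (f x))))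
    let m : X → ℤ := fun ξ => ((Module.length (X.presheaf.stalk ξ) (X.presheaf.stalk ξ ⧸
          Ideal.map (f.stalkMap ξ).hom (IsLocalRing.maximalIdeal (Y.presheaf.stalk (f ξ))))).toNat : ℤ)
    have hfm : ∀ ξ : X, ξ ⤳ x → f ξ = η → IsFibMax f ξ := fun ξ h hξ =>
      (delta_le_shift f hX hc ξ).2 (by
        have := (delta_le_shift f hX hc ξ).1
        have := delta_lt hX (lt_of_spec h fun e => he (by rw [← hξ, e]))
        rw [hξ] at *
        omega)
    let P := {ξ : X // ξ ⤳ x ∧ f ξ = η}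
    let T : Y.residueField η → P → ℤ := fun u ξ =>
      m ξ.1 * Cyc.ordAt x ξ.1 ξ.2.1 (f.residueFieldMap ξ.1 ((Y.residueFieldCongr ξ.2.2.symm).hom u))
    have hre : (∑ᶠ ξ : {ξ : X // f ξ = η ∧ IsFibMax f ξ}, m ξ.1 *
        (if h : ξ.1 ⤳ x ∧ δX x + 1 = δX ξ.1 then
          Cyc.ordAt x ξ.1 h.1 (f.residueFieldMap ξ.1 ((Y.residueFieldCongr ξ.2.1.symm).hom g)) else 0)) =
        ∑ᶠ ξ : P, T g ξ := by
      let i : P → {ξ : X // f ξ = η ∧ IsFibMax f ξ} := fun ξ => ⟨ξ.1, ξ.2.2, hfm ξ.1 ξ.2.1 ξ.2.2⟩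
      have hi : Function.Injective i := fun p q h =>
        Subtype.ext (congrArg (fun w : {ξ : X // f ξ = η ∧ IsFibMax f ξ} => w.1) h)
      have hG : ∀ ξ : P, T g ξ = m (i ξ).1 * (if h : (i ξ).1 ⤳ x ∧ δX x + 1 = δX (i ξ).1 then
          Cyc.ordAt x (i ξ).1 h.1 (f.residueFieldMap (i ξ).1 ((Y.residueFieldCongr (i ξ).2.1.symm).hom g)) else 0) :=
        fun ξ => by rw [dif_pos (show (i ξ).1 ⤳ x ∧ δX x + 1 = δX (i ξ).1 from ⟨ξ.2.1, by rw [hδξ]; omega⟩)]
      refine Eq.trans ?_ ((finsum_mem_range (g := i) (f := fun ζ : {ξ : X // f ξ = η ∧ IsFibMax f ξ} =>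
        m ζ.1 * (if h : ζ.1 ⤳ x ∧ δX x + 1 = δX ζ.1 then
          Cyc.ordAt x ζ.1 h.1 (f.residueFieldMap ζ.1 ((Y.residueFieldCongr ζ.2.1.symm).hom g)) else 0)) hi).trans
        (finsum_congr hG).symm)
      refine finsum_congr fun ξ => ?_
      rw [finsum_eq_if]
      split
      · rw [if_pos]
        next h' => exact ⟨⟨ξ.1, h'.1, ξ.2.1⟩, rfl⟩
      · rw [mul_zero, ite_self]
    refine Eq.trans ?_ hre.symm
    have hP : Finite P := by
      obtain ⟨U, hU, hxU, -⟩ := exists_isAffineOpen_mem_and_subset (x := x) (U := (⊤ : X.Opens)) trivial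
      refine ((CycDiv.finite_maximal (isClosed_closure.preimage f.continuous (t := closure ({η} : Set Y))) hU).subset
        ?_).to_subtype (s := {ξ : X | ξ ⤳ x ∧ f ξ = η})
      rintro ξ ⟨hξx, hξη⟩
      refine ⟨hξx.mem_open U.2 hxU, show f ξ ∈ closure {η} from hξη ▸ subset_closure rfl, fun y hy hyξ => ?_⟩
      exact hfm ξ hξx hξη y ((hyξ.map f.continuous).antisymm (hξη.symm ▸ specializes_iff_mem_closure.2 hy)).eq hyξ
    have key : ∀ (a : Y.presheaf.stalk (f x)), a ∉ genPrime hs →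
        Cyc.ordAt (f x) η hs (rdu η (spz hs a)) * (L.toNat : ℤ) = ∑ᶠ ξ : P, T (rdu η (spz hs a)) ξ := by
      intro a ha
      rw [ordAt_eq_length hY hs (by omega) ha, ← Nat.cast_mul, ← ENat.toNat_mul, length_quot_map,
        pull_key f hX hY hc hs hy hx ha]
      refine finsum_congr fun ξ => ?_
      obtain ⟨⟨ξ, hξx, hξη⟩, rfl⟩ : ∃ ζ : P, ζ = ξ := ⟨ξ, rfl⟩
      subst hξη
      show _ = _ * _
      rw [Scheme.residueFieldCongr_refl]
      exact congrArg (m ξ * ·) (congrArg (Cyc.ordAt x ξ hξx) (residueFieldMap_rdu_spz f hξx a).symm)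
    obtain ⟨w, hw⟩ : ∃ w, rdu η w = g := Ideal.Quotient.mk_surjective g
    letI := (spz hs).toAlgebra
    haveI := isLocalization_genPrime hs
    obtain ⟨⟨a, b⟩, hab⟩ := IsLocalization.surj (genPrime hs).primeCompl w
    have hb0 : rdu η (spz hs b) ≠ 0 :=
      fun h0 => b.2 ((mem_genPrime_iff hs b.1).2 (RingHom.mem_ker.2 h0))
    have hab' : g * rdu η (spz hs b) = rdu η (spz hs a) := by
      rw [← hw, ← map_mul]
      exact congrArg (rdu η) hab
    have ha : a ∉ genPrime hs := fun h0 => by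
      have : rdu η (spz hs a) = 0 := RingHom.mem_ker.1 ((mem_genPrime_iff hs a).1 h0)
      rw [← hab'] at this
      exact mul_ne_zero hg hb0 this
    have h1 := C1Cap.ordAt_mul hs hg hb0
    have h2 : (∑ᶠ ξ : P, T (rdu η (spz hs a)) ξ) = (∑ᶠ ξ : P, T g ξ) + ∑ᶠ ξ : P, T (rdu η (spz hs b)) ξ := by
      rw [← finsum_add_distrib (Set.toFinite _) (Set.toFinite _)]
      refine finsum_congr fun ξ => ?_
      show _ * _ = _ * _ + _ * _
      rw [← hab', ← mul_add, map_mul, map_mul]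
      exact congrArg (m ξ.1 * ·) (C1Cap.ordAt_mul ξ.2.1
        ((map_ne_zero _).2 ((map_ne_zero _).2 hg)) ((map_ne_zero _).2 ((map_ne_zero _).2 hb0)))
    rw [hab'] at h1
    rw [← key a ha, ← key b b.2, h1, add_mul] at h2
    show Cyc.ordAt (f x) η hs g * (L.toNat : ℤ) = _
    omega

end Groth.Agent.CycPull
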