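import Groth.Agent.CycDim.PullRat
import Groth.Agent.CycDim.DegBase
import Groth.Agent.CycDim.Lim
import Mathlib

/-!
Cycles rationally equivalent to zero form a subgroup.
-/

set_option autoImplicit false
set_option linter.style.haveILetI false
set_option backward.isDefEq.respectTransparency false

universe u

open CategoryTheory AlgebraicGeometry TopologicalSpace

noncomputable section

namespace Groth.Agent.CycRat

variable {X : Scheme.{u}} {δ : X → ℤ} {k : ℤ}

/-- Only finitely many members of a locally finite family of divisors are nonzero at a point. -/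
theorem finite_at {ι : Type u} (ξ : ι → X) (f : (i : ι) → X.residueField (ξ i))
    (hloc : ∀ x : X, ∃ U : Set X, IsOpen U ∧ x ∈ U ∧ {i | (closure {ξ i} ∩ U).Nonempty}.Finite) (x : X) :
    (Function.support fun i => Cyc.divFun δ (ξ i) (f i) x).Finite := by
  obtain ⟨U, -, hxU, hfin⟩ := hloc x
  exact hfin.subset fun i hi => ⟨x, specializes_iff_mem_closure.1 (CycDeg.divFun_delta hi).1, hxU⟩

theorem ratEquivZero_of_eq {α β : AlgebraicCycle X ℤ} (h : Cyc.RatEquivZero δ k α) (e : ∀ x, β x = α x) :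
    Cyc.RatEquivZero δ k β := by
  obtain ⟨ι, ξ, f, h1, h2, h3, h4⟩ := h
  exact ⟨ι, ξ, f, h1, h2, h3, fun x => (e x).trans (h4 x)⟩

theorem ratEquivZero_zero {α : AlgebraicCycle X ℤ} (e : ∀ x, α x = 0) : Cyc.RatEquivZero δ k α :=
  ⟨PEmpty, fun i => i.elim, fun i => i.elim, fun i => i.elim, fun i => i.elim,
    fun _ => ⟨Set.univ, isOpen_univ, trivial, Set.toFinite _⟩, fun x => (e x).trans (finsum_of_isEmpty _).symm⟩

theorem ratEquivZero_neg {α β : AlgebraicCycle X ℤ} (h : Cyc.RatEquivZero δ k α) (e : ∀ x, β x = -α x) :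
    Cyc.RatEquivZero δ k β := by
  obtain ⟨ι, ξ, f, h1, h2, h3, h4⟩ := h
  refine ⟨ι, ξ, fun i => (f i)⁻¹, h1, fun i => inv_ne_zero (h2 i), h3, fun x => ?_⟩
  rw [e x, h4 x, ← finsum_neg_distrib]
  refine finsum_congr fun i => ?_
  unfold Cyc.divFun
  split
  · next h => rw [C1Cap.ordAt_inv _ (h2 i)]
  · rw [neg_zero]

theorem ratEquivZero_add {α β γ : AlgebraicCycle X ℤ} (hα : Cyc.RatEquivZero δ k α)
    (hβ : Cyc.RatEquivZero δ k β) (e : ∀ x, γ x = α x + β x) : Cyc.RatEquivZero δ k γ := by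
  obtain ⟨ι, ξ, f, h1, h2, h3, h4⟩ := hα
  obtain ⟨κ, ζ, g, g1, g2, g3, g4⟩ := hβ
  let F : (i : ι ⊕ κ) → X.residueField (Sum.elim ξ ζ i) := fun
    | .inl i => f i
    | .inr i => g i
  refine ⟨ι ⊕ κ, Sum.elim ξ ζ, F, fun i => by cases i <;> simp [h1, g1],
    fun i => by cases i <;> simp [F, h2, g2], fun x => ?_, fun x => ?_⟩
  · obtain ⟨U, hU, hxU, hUf⟩ := h3 x
    obtain ⟨V, hV, hxV, hVf⟩ := g3 x
    refine ⟨U ∩ V, hU.inter hV, ⟨hxU, hxV⟩, ((hUf.image Sum.inl).union (hVf.image Sum.inr)).subset ?_⟩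
    rintro (i | i) ⟨z, hz, hzU, hzV⟩
    · exact Or.inl ⟨i, ⟨z, hz, hzU⟩, rfl⟩
    · exact Or.inr ⟨i, ⟨z, hz, hzV⟩, rfl⟩
  · have hfα := finite_at (δ := δ) ξ f h3 x
    have hfβ := finite_at (δ := δ) ζ g g3 x
    classical
    rw [e x, h4 x, g4 x, finsum_eq_sum_of_support_subset _ (s := hfα.toFinset) (by simp),
      finsum_eq_sum_of_support_subset _ (s := hfβ.toFinset) (by simp),
      finsum_eq_sum_of_support_subset _ (s := hfα.toFinset.disjSum hfβ.toFinset) ?_, Finset.sum_disjSum]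
    · rfl
    · rintro (i | i) hi
      · exact Finset.mem_coe.2 (Finset.inl_mem_disjSum.2 (hfα.mem_toFinset.2 hi))
      · exact Finset.mem_coe.2 (Finset.inr_mem_disjSum.2 (hfβ.mem_toFinset.2 hi))

theorem ratEquivZero_sum {J : Type*} (s : Finset J) (c : J → AlgebraicCycle X ℤ)
    (h : ∀ j ∈ s, Cyc.RatEquivZero δ k (c j)) {γ : AlgebraicCycle X ℤ} (e : ∀ x, γ x = ∑ j ∈ s, c j x) :
    Cyc.RatEquivZero δ k γ := by
  classical
  induction s using Finset.induction_on generalizing γ with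
  | empty => exact ratEquivZero_zero fun x => by simpa using e x
  | insert a s ha ih =>
    refine ratEquivZero_add (h a (Finset.mem_insert_self a s))
      (ih (γ := γ - c a) (fun j hj => h j (Finset.mem_insert_of_mem hj)) fun x => ?_) fun x => ?_
    · show γ x - c a x = _
      rw [e x, Finset.sum_insert ha]; ring
    · show γ x = c a x + (γ x - c a x)
      ring

theorem ratEquivZero_smul {α β : AlgebraicCycle X ℤ} (hα : Cyc.RatEquivZero δ k α) (n : ℤ)
    (e : ∀ x, β x = n * α x) : Cyc.RatEquivZero δ k β := by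
  obtain ⟨ι, ξ, f, h1, h2, h3, h4⟩ := hα
  refine ⟨ι, ξ, fun i => f i ^ n, h1, fun i => zpow_ne_zero _ (h2 i), h3, fun x => ?_⟩
  rw [e x, h4 x, mul_finsum' _ _ (finite_at ξ f h3 x)]
  refine finsum_congr fun i => ?_
  unfold Cyc.divFun
  split
  · next h => rw [C1Cap.ordAt_zpow _ (h2 i)]
  · rw [mul_zero]

open Classical in
/-- The cycle of a point. -/
def pt (w : X) : AlgebraicCycle X ℤ :=
  CycLim.mkCycle (fun x => if x = w then 1 else 0) fun {U} _ =>
    (Set.finite_singleton w).subset fun x hx => by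
      by_contra h
      exact hx.2 (if_neg h)

theorem pt_apply (w x : X) [Decidable (x = w)] : pt w x = if x = w then 1 else 0 := by
  show (@ite ℤ (x = w) (Classical.propDecidable _) 1 0) = _
  congr 1

end Groth.Agent.CycRat
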