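import Groth.Agent.CycDim.RelDim
import Groth.Agent.CycDim.Chains
import Groth.Agent.S9684
import Mathlib

/-!
Dimensions along flat morphisms of irreducible schemes.
-/

set_option autoImplicit false
set_option linter.style.haveILetI false
set_option backward.isDefEq.respectTransparency false

universe u

open CategoryTheory AlgebraicGeometry TopologicalSpace
open Groth.Agent.CDivNormal (genPrime mem_genPrime specializes_of_le exists_genPrime_eq)
open Groth.Agent.EquidimPt (IsFibMax)

noncomputable section

namespace Groth.Agent.CycDim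

variable {X Y : Scheme.{u}}

theorem genPrime_rfl (x : X) : genPrime (specializes_refl x) = IsLocalRing.maximalIdeal (X.presheaf.stalk x) := by
  ext a
  rw [mem_genPrime, TopCat.Presheaf.stalkSpecializes_refl]
  rfl

/-- The local ring at a point maximal in its fibre has the dimension of the local ring downstairs. -/
theorem ringKrullDim_stalk_eq_of_flat (f : X ⟶ Y) [Flat f] [IsLocallyNoetherian X] [IsLocallyNoetherian Y] {x : X}
    (hx : IsFibMax f x) : ringKrullDim (X.presheaf.stalk x) = ringKrullDim (Y.presheaf.stalk (f x)) := by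
  letI := (f.stalkMap x).hom.toAlgebra
  haveI : Module.Flat (Y.presheaf.stalk (f x)) (X.presheaf.stalk x) := Flat.stalkMap f x
  haveI : IsLocalHom (algebraMap (Y.presheaf.stalk (f x)) (X.presheaf.stalk x)) :=
    inferInstanceAs (IsLocalHom (f.stalkMap x).hom)
  let p := IsLocalRing.maximalIdeal (Y.presheaf.stalk (f x))
  let P := IsLocalRing.maximalIdeal (X.presheaf.stalk x)
  haveI : P.LiesOver p := ⟨Ideal.ext fun a => by
    show a ∈ IsLocalRing.maximalIdeal _ ↔ algebraMap _ _ a ∈ IsLocalRing.maximalIdeal _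
    simp [p, P, IsLocalRing.mem_maximalIdeal, mem_nonunits_iff, isUnit_map_iff]⟩
  have hzero : (P.map (Ideal.Quotient.mk (p.map (algebraMap (Y.presheaf.stalk (f x)) (X.presheaf.stalk x))))).height = 0 := by
    have hker : RingHom.ker (Ideal.Quotient.mk (p.map (algebraMap (Y.presheaf.stalk (f x)) (X.presheaf.stalk x)))) ≤ P := by
      rw [Ideal.mk_ker]
      exact Ideal.map_le_iff_le_comap.2 (le_of_eq (Ideal.LiesOver.over (p := p) (P := P)))
    haveI := Ideal.map_isPrime_of_surjective
      (f := Ideal.Quotient.mk (p.map (algebraMap (Y.presheaf.stalk (f x)) (X.presheaf.stalk x))))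
      Ideal.Quotient.mk_surjective hker
    refine Ideal.height_eq_zero_iff.2 ⟨⟨inferInstance, bot_le⟩, fun q hq hle => ?_⟩
    haveI := hq.1
    obtain ⟨z, hz, hzq⟩ := exists_genPrime_eq x
      (q.comap (Ideal.Quotient.mk (p.map (algebraMap (Y.presheaf.stalk (f x)) (X.presheaf.stalk x)))))
    have hfz : f z = f x := by
      by_contra hne
      have hsp : f z ⤳ f x := hz.map f.continuous
      have hnot : genPrime hsp ≠ p := fun e =>
        hne (hsp.antisymm (specializes_of_le (specializes_refl (f x)) hsp (by rw [genPrime_rfl, e]))).eq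
      obtain ⟨a, ha, hag⟩ := SetLike.not_le_iff_exists.1
        (fun hle' => hnot (le_antisymm (IsLocalRing.le_maximalIdeal (inferInstance : (genPrime hsp).IsPrime).ne_top) hle'))
      rw [mem_genPrime, not_not] at hag
      have h1 : (f.stalkMap x).hom a ∈ genPrime hz := by
        rw [hzq, Ideal.mem_comap,
          show Ideal.Quotient.mk (p.map (algebraMap (Y.presheaf.stalk (f x)) (X.presheaf.stalk x))) ((f.stalkMap x).hom a) = 0 from
            Ideal.Quotient.eq_zero_iff_mem.2 (Ideal.mem_map_of_mem (algebraMap (Y.presheaf.stalk (f x)) (X.presheaf.stalk x)) ha)]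
        exact zero_mem _
      rw [mem_genPrime] at h1
      refine h1 ?_
      have h2 := hag.map (f.stalkMap z).hom
      rwa [show (f.stalkMap z).hom ((Y.presheaf.stalkSpecializes hsp).hom a) =
        (X.presheaf.stalkSpecializes hz).hom ((f.stalkMap x).hom a) from
          Scheme.Hom.stalkSpecializes_stalkMap_apply f z x hz a] at h2
    obtain rfl := hx z hfz hz
    rw [genPrime_rfl] at hzq
    intro c hc
    obtain ⟨c, rfl⟩ := Ideal.Quotient.mk_surjective c
    have hc' : c ∈ P := by
      have hPc : (P.map (Ideal.Quotient.mk _)).comap (Ideal.Quotient.mk _) = P :=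
        (Ideal.comap_map_of_surjective _ Ideal.Quotient.mk_surjective P).trans (sup_eq_left.2 hker)
      exact hPc.le hc
    exact hzq.le hc'
  have hh : P.height = p.height := by
    rw [Ideal.height_eq_height_add_of_liesOver_of_hasGoingDown p P, hzero, add_zero]
  rw [← IsLocalRing.maximalIdeal_height_eq_ringKrullDim, ← IsLocalRing.maximalIdeal_height_eq_ringKrullDim]
  exact congrArg _ hh

theorem ringKrullDim_stalk_eq_delta [IrreducibleSpace X] {δ : X → ℤ} (hδ : Cyc.IsDimFun X δ) (x : X) :
    ringKrullDim (X.presheaf.stalk x) = ((δ (genericPoint X) - δ x).toNat : WithBot ℕ∞) ∧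
      δ x ≤ δ (genericPoint X) := by
  have hgen : ∀ z : X, z ≤ genericPoint X := fun z => Scheme.le_iff_specializes.2 (genericPoint_specializes z)
  have hmono : ∀ z : X, x ≤ z → δ x ≤ δ z := fun z hz => by
    by_cases hzx : z = x
    · rw [hzx]
    · exact (delta_lt hδ (lt_of_spec (Scheme.le_iff_specializes.1 hz) hzx)).le
  obtain ⟨h1, h2⟩ := krullDim_eq hδ (fun z => x ≤ z) (genericPoint X) x (hgen x) le_rfl (hgen x)
    (fun z hz => ⟨hgen z, hmono z hz⟩) (fun z hz _ => hz)
  refine ⟨?_, h2⟩
  rw [ringKrullDim_stalk_eq_coheight, Order.coheight_eq_krullDim_Ici]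
  exact h1

/-- The dimension difference of a point maximal in its fibre. -/
theorem delta_sub_eq (f : X ⟶ Y) [Flat f] [LocallyOfFiniteType f] [IrreducibleSpace X] [IrreducibleSpace Y]
    {δX : X → ℤ} {δY : Y → ℤ} (hY : Cyc.IsSetup Y δY) (hδ : Cyc.DeltaCompat f δX δY) {x : X} (hx : IsFibMax f x)
    {d : ℕ} (hd : Dual3.resTrdeg f x = (d : Cardinal.{u})) :
    δX (genericPoint X) - δY (genericPoint Y) = d := by
  haveI := hY.1
  haveI : IsLocallyNoetherian X := LocallyOfFiniteType.isLocallyNoetherian f
  have hdim := S9684.result f δY hY δX hδ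
  obtain ⟨n, hn, hδx⟩ := hδ x
  have hnd : n = d := by
    have h : (n : Cardinal.{u}) = (d : Cardinal.{u}) := hn.symm.trans hd
    exact_mod_cast h
  obtain ⟨a1, a2⟩ := ringKrullDim_stalk_eq_delta hdim x
  obtain ⟨b1, b2⟩ := ringKrullDim_stalk_eq_delta hY.2.2 (f x)
  rw [ringKrullDim_stalk_eq_of_flat f hx, b1] at a1
  have : (δY (genericPoint Y) - δY (f x)).toNat = (δX (genericPoint X) - δX x).toNat := by exact_mod_cast a1
  omega

end Groth.Agent.CycDim
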