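import Groth.Agent.CycDim.PushVanish
import Groth.Agent.CycDim.Lim
import Mathlib

/-!
Proper push forward preserves rational equivalence.
-/

set_option autoImplicit false
set_option linter.style.haveILetI false
set_option backward.isDefEq.respectTransparency false

universe u

open CategoryTheory AlgebraicGeometry TopologicalSpace

noncomputable section

namespace Groth.Agent.CycPush

variable {X Y : Scheme.{u}}

theorem normGen_ne_zero (p : X ⟶ Y) (ξ : X) {f : X.residueField ξ} (hf : f ≠ 0) : Cyc.normGen p ξ f ≠ 0 := by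
  letI := (p.residueFieldMap ξ).hom.toAlgebra
  show Algebra.norm (Y.residueField (p ξ)) f ≠ 0
  by_cases h : Module.Finite (Y.residueField (p ξ)) (X.residueField ξ)
  · exact Algebra.norm_ne_zero_iff.2 hf
  · rw [Algebra.norm_eq_one_of_not_exists_basis _ fun ⟨s, ⟨b⟩⟩ => h (Module.Finite.of_basis b)]
    exact one_ne_zero

/-- Proper push forward preserves cycles rationally equivalent to zero. -/
theorem ratEquivZero_map [IsLocallyNoetherian X] [IsLocallyNoetherian Y] (p : X ⟶ Y) [IsProper p] {δX : X → ℤ}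
    {δY : Y → ℤ} (hX : Cyc.IsDimFun X δX) (hY : Cyc.IsDimFun Y δY) (hδ : Cyc.DeltaCompat p δX δY) (k : ℤ)
    (α : AlgebraicCycle X ℤ) (h : Cyc.RatEquivZero δX k α) (β : AlgebraicCycle Y ℤ)
    (hβ : ∀ y, β y = ∑ᶠ x ∈ (p ⁻¹' {y} : Set X), α x * (AlgebraicCycle.mapCoeff p δX δY x : ℤ)) :
    Cyc.RatEquivZero δY k β := by
  classical
  obtain ⟨ι, ξ, f, hξ, hf, hloc, hsum⟩ := h
  choose U hU hxU hfinU using hloc
  have hV : ∀ (V : Y.Opens), IsAffineOpen V → {i : ι | p (ξ i) ∈ V}.Finite := by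
    intro V hV
    obtain ⟨t, ht⟩ := (QuasiCompact.isCompact_preimage (f := p) _ V.2 hV.isCompact).elim_finite_subcover
      U hU fun x _ => Set.mem_iUnion.2 ⟨x, hxU x⟩
    refine (t.finite_toSet.biUnion fun x _ => hfinU x).subset fun i hi => ?_
    obtain ⟨x, hx, hix⟩ := Set.mem_iUnion₂.1 (ht (show ξ i ∈ p ⁻¹' (V : Set Y) from hi))
    exact Set.mem_biUnion hx ⟨ξ i, subset_closure rfl, hix⟩
  refine ⟨{i : ι // δX (ξ i) = δY (p (ξ i))}, fun i => p (ξ i.1), fun i => Cyc.normGen p (ξ i.1) (f i.1),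
    fun i => i.2.symm.trans (hξ i.1), fun i => normGen_ne_zero p _ (hf i.1), fun y => ?_, fun y => ?_⟩
  · obtain ⟨V, hVa, hyV, -⟩ := exists_isAffineOpen_mem_and_subset (x := y) (U := (⊤ : Y.Opens)) trivial
    refine ⟨V, V.2, hyV, ((hV V hVa).preimage Subtype.val_injective.injOn).subset ?_⟩
    rintro i ⟨z, hz, hzV⟩
    exact (specializes_iff_mem_closure.2 hz).mem_open V.2 hzV
  · obtain ⟨V, hVa, hyV, -⟩ := exists_isAffineOpen_mem_and_subset (x := y) (U := (⊤ : Y.Opens)) trivial
    let I := (hV V hVa).toFinset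
    let w : X → ℤ := fun x => (AlgebraicCycle.mapCoeff p δX δY x : ℤ)
    let d : ι → X → ℤ := fun i => Cyc.divFun δX (ξ i) (f i)
    let G : ι → ℤ := fun i => ∑ᶠ x ∈ (p ⁻¹' {y} : Set X), d i x * w x
    have hdI : ∀ i x, p x = y → d i x ≠ 0 → i ∈ I := fun i x hx hne => (hV V hVa).mem_toFinset.2
      (((CycDeg.divFun_delta hne).1.map p.continuous).mem_open V.2 (by rw [hx]; exact hyV))
    choose O hO hxO using fun x : X => exists_isAffineOpen_mem_and_subset (x := x) (U := (⊤ : X.Opens)) trivial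
    obtain ⟨t, ht⟩ := (QuasiCompact.isCompact_preimage (f := p) _ V.2 hVa.isCompact).elim_finite_subcover
      (fun x => (O x : Set X)) (fun x => (O x).2) fun x _ => Set.mem_iUnion.2 ⟨x, (hxO x).1⟩
    have hA := I.finite_toSet.biUnion fun i _ => t.finite_toSet.biUnion fun v _ =>
      CycDiv.finite_divFun hX (ξ i) (hf i) (hO v)
    let S := hA.toFinset.filter fun x => p x = y
    have hS : ∀ i x, p x = y → d i x ≠ 0 → x ∈ S := by
      intro i x hx hne
      obtain ⟨v, hv, hxv⟩ := Set.mem_iUnion₂.1 (ht (show p x ∈ V by rw [hx]; exact hyV))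
      exact Finset.mem_filter.2
        ⟨hA.mem_toFinset.2 (Set.mem_biUnion (hdI i x hx hne) (Set.mem_biUnion hv ⟨hxv, hne⟩)), hx⟩
    have hfib : ∀ (F : X → ℤ), (∀ x, p x = y → F x ≠ 0 → x ∈ S) →
        (∑ᶠ x ∈ (p ⁻¹' {y} : Set X), F x) = ∑ x ∈ S, F x := fun F hF =>
      finsum_mem_eq_sum_of_subset _ (fun x hx => hF x hx.1 hx.2) (fun x hx => (Finset.mem_filter.1 hx).2)
    have hα : ∀ x ∈ S, α x = ∑ i ∈ I, d i x := fun x hx => by
      rw [hsum x]
      exact finsum_eq_sum_of_support_subset _ fun i hi => hdI i x (Finset.mem_filter.1 hx).2 hi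
    have h1 : β y = ∑ i ∈ I, G i := by
      rw [hβ y, hfib _ fun x hx hne => by
          obtain ⟨i, hi⟩ : ∃ i, d i x ≠ 0 := by
            by_contra hn
            push Not at hn
            exact hne (by rw [hsum x, finsum_eq_zero_of_forall_eq_zero (f := fun i => d i x) hn, zero_mul])
          exact hS i x hx hi,
        Finset.sum_congr rfl fun x hx => by rw [hα x hx, Finset.sum_mul], Finset.sum_comm]
      refine Finset.sum_congr rfl fun i _ => ?_
      exact (hfib _ fun x hx hne => hS i x hx (left_ne_zero_of_mul hne)).symm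
    have hGI : ∀ i, G i ≠ 0 → i ∈ I := fun i hi => by
      obtain ⟨x, hx⟩ : ∃ x, p x = y ∧ d i x ≠ 0 := by
        by_contra hn
        push Not at hn
        exact hi (finsum_mem_of_eqOn_zero fun x hx => show d i x * w x = 0 by rw [hn x hx, zero_mul])
      exact hdI i x hx.1 hx.2
    have h2 : β y = ∑ᶠ i, G i := h1.trans (finsum_eq_sum_of_support_subset _ fun i hi => hGI i hi).symm
    have h3 : ∀ i, δX (ξ i) ≠ δY (p (ξ i)) → G i = 0 := fun i hi =>
      pushFun_divFun_vanish p hX hY hδ (ξ i) hi (f i) (hf i) y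
    have h4 : ∑ᶠ i, G i = ∑ᶠ i ∈ {i | δX (ξ i) = δY (p (ξ i))}, G i := finsum_congr fun i => by
      rw [finsum_eq_if]
      split
      · rfl
      · next h => exact h3 i h
    rw [h2, h4, ← finsum_set_coe_eq_finsum_mem]
    exact finsum_congr fun i => pushFun_divFun p hX hY hδ (ξ i.1) i.2 (f i.1) (hf i.1) y

end Groth.Agent.CycPush
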