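import Groth.Agent.CycDim.PullSec
import Groth.Agent.CycDim.PushRat
import Mathlib

/-!
The first Chern class cap commutes with flat pull back and with proper push forward, up to rational equivalence.
-/

set_option autoImplicit false
set_option linter.style.haveILetI false
set_option backward.isDefEq.respectTransparency false

universe u

open CategoryTheory AlgebraicGeometry TopologicalSpace
open Groth.Agent.EquidimPt (IsFibMax)

noncomputable section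

namespace Groth.Agent.CycSec

variable {X Y : Scheme.{u}}

/-- Flat pull backs of cycles are locally finite. -/
theorem finite_pullFun_cycle [IsLocallyNoetherian X] (f : X ⟶ Y) {δX : X → ℤ} {δY : Y → ℤ}
    (hX : Cyc.IsDimFun X δX) {c : ℤ} (hc : ∀ x : X, IsFibMax f x → δX x = δY (f x) + c)
    (α : AlgebraicCycle Y ℤ) {U : X.Opens} (hU : IsAffineOpen U) :
    {x : X | x ∈ U ∧ Cyc.pullFun f δX δY c ⇑α x ≠ 0}.Finite := by
  classical
  choose V hV hxV using fun x : X => exists_isAffineOpen_mem_and_subset (x := f x) (U := (⊤ : Y.Opens)) trivial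
  choose W hW hxW hWV using fun x : X =>
    exists_isAffineOpen_mem_and_subset (x := x) (U := f ⁻¹ᵁ V x) (hxV x).1
  obtain ⟨t, ht⟩ := hU.isCompact.elim_finite_subcover (fun x => (W x : Set X)) (fun x => (W x).2)
    fun x _ => Set.mem_iUnion.2 ⟨x, hxW x⟩
  have key : ∀ v : X, {x : X | x ∈ W v ∧ Cyc.pullFun f δX δY c ⇑α x ≠ 0}.Finite := by
    intro v
    let αV : Y → ℤ := fun y => if y ∈ V v then α y else 0
    have hfin : (Function.support αV).Finite :=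
      (α.locallyFiniteSupport.finite_inter_support_of_isCompact (hV v).isCompact).subset fun y hy => by
        by_cases h : y ∈ V v
        · exact ⟨h, fun h0 => hy (show αV y = 0 from (if_pos h).trans h0)⟩
        · exact absurd (if_neg h) hy
    refine (CycLim.finite_pullFun f hX hc hfin (hW v)).subset fun x hx => ⟨hx.1, fun h0 => hx.2 ?_⟩
    rw [← h0]
    unfold Cyc.pullFun
    rw [show αV (f x) = α (f x) from if_pos (hWV v hx.1)]
  refine (t.finite_toSet.biUnion fun v _ => key v).subset fun x hx => ?_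
  obtain ⟨v, hv, hxv⟩ := Set.mem_iUnion₂.1 (ht hx.1)
  exact Set.mem_biUnion hv ⟨hxv, hx.2⟩

/-- The cap with pulled back sections is the pull back of the cap. -/
theorem pullFun_c1CapFun [IsLocallyNoetherian X] [IsLocallyNoetherian Y] (f : X ⟶ Y) [Flat f] {δX : X → ℤ}
    {δY : Y → ℤ} (hX : Cyc.IsDimFun X δX) (hY : Cyc.IsDimFun Y δY) {c : ℤ}
    (hc : ∀ x : X, IsFibMax f x → δX x = δY (f x) + c) {L : Y.Modules} (hL : PicF.IsInvertible L)
    (α : AlgebraicCycle Y ℤ) (v : (η : Y) → Cyc.secFibre L η) (hv : ∀ η, v η ≠ 0) :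
    Cyc.pullFun f δX δY c (Cyc.c1CapFun δY L ⇑α v) =
      Cyc.c1CapFun δX ((Scheme.Modules.pullback f).obj L) (Cyc.pullFun f δX δY c ⇑α)
        (fun ξ => secPull f ξ (v (f ξ))) := by
  classical
  funext x
  let m : X → ℤ := fun ξ => ((Module.length (X.presheaf.stalk ξ) (X.presheaf.stalk ξ ⧸
    Ideal.map (f.stalkMap ξ).hom (IsLocalRing.maximalIdeal (Y.presheaf.stalk (f ξ))))).toNat : ℤ)
  let E : X → ℤ := fun ξ =>
    Cyc.secDivFun δX ((Scheme.Modules.pullback f).obj L) ξ (secPull f ξ (v (f ξ))) x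
  let P : Y → Type u := fun η => {ξ : X // f ξ = η ∧ IsFibMax f ξ}
  have h1 : Cyc.pullFun f δX δY c (Cyc.c1CapFun δY L ⇑α v) x =
      ∑ᶠ η, α η * Cyc.pullFun f δX δY c (Cyc.secDivFun δY L η (v η)) x := by
    unfold Cyc.pullFun Cyc.c1CapFun
    by_cases h : δX x = δY (f x) + c
    · simp only [if_pos h]
      rw [finsum_mul]
      exact finsum_congr fun η => mul_assoc _ _ _
    · simp only [if_neg h, mul_zero, finsum_zero]
  have h2 : Cyc.c1CapFun δX ((Scheme.Modules.pullback f).obj L) (Cyc.pullFun f δX δY c ⇑α)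
      (fun ξ => secPull f ξ (v (f ξ))) x = ∑ᶠ ξ, Cyc.pullFun f δX δY c ⇑α ξ * E ξ := rfl
  obtain ⟨U, hU, hxU, -⟩ := exists_isAffineOpen_mem_and_subset (x := x) (U := (⊤ : X.Opens)) trivial
  have hEx : ∀ ξ, E ξ ≠ 0 → ξ ∈ U := fun ξ h => (secDivFun_support h).1.mem_open U.2 hxU
  obtain ⟨V, hV, hxV, -⟩ := exists_isAffineOpen_mem_and_subset (x := f x) (U := (⊤ : Y.Opens)) trivial
  have hI := α.locallyFiniteSupport.finite_inter_support_of_isCompact hV.isCompact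
  have hterm : ∀ η (ξ : P η), α η * (m ξ.1 * E ξ.1) ≠ 0 →
      η ∈ hI.toFinset ∧ ξ ∈ (CycPull.finite_over f η hU).toFinset := by
    intro η ξ h
    obtain ⟨hα, h'⟩ := mul_ne_zero_iff.1 h
    have hE := (mul_ne_zero_iff.1 h').2
    refine ⟨hI.mem_toFinset.2 ⟨?_, hα⟩, (Set.Finite.mem_toFinset _).2 (hEx _ hE)⟩
    rw [← ξ.2.1]
    exact ((secDivFun_support hE).1.map f.continuous).mem_open V.2 hxV
  rw [h1, h2, finsum_congr fun η => show α η * Cyc.pullFun f δX δY c (Cyc.secDivFun δY L η (v η)) x =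
      ∑ᶠ ξ : P η, α η * (m ξ.1 * E ξ.1) by rw [pull_secPull f hX hY hc hL v hv η x, mul_finsum],
    ← CycPull.finsum_sigma_eq (fun p : Σ η, P η => α p.1 * (m p.2.1 * E p.2.1)) hI.toFinset
      (fun η => (CycPull.finite_over f η hU).toFinset) hterm]
  have h3 : (∑ᶠ ξ, Cyc.pullFun f δX δY c ⇑α ξ * E ξ) =
      ∑ᶠ ξ ∈ {ξ | IsFibMax f ξ}, Cyc.pullFun f δX δY c ⇑α ξ * E ξ := finsum_congr fun ξ => by
    rw [finsum_eq_if]
    split
    · rfl
    · next h =>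
      by_contra hne
      exact h (CycLim.isFibMax_of_pullFun_ne_zero f hX hc (left_ne_zero_of_mul hne)).2
  rw [h3, ← finsum_set_coe_eq_finsum_mem]
  refine finsum_eq_of_bijective (fun p : Σ η, P η => (⟨p.2.1, p.2.2.2⟩ : {ξ : X | IsFibMax f ξ}))
    ⟨?_, fun ξ => ⟨⟨f ξ.1, ξ.1, rfl, ξ.2⟩, rfl⟩⟩ fun p => ?_
  · rintro ⟨η, ξ, h, h'⟩ ⟨η', ξ', g, g'⟩ e
    obtain rfl : ξ = ξ' := congrArg Subtype.val e
    subst h g
    rfl
  · obtain ⟨η, ξ, h, h'⟩ := p
    show α η * (m ξ * E ξ) = Cyc.pullFun f δX δY c ⇑α ξ * E ξ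
    unfold Cyc.pullFun
    rw [if_pos (hc ξ h'), show α η = α (f ξ) from congrArg α h.symm, ← mul_assoc]

/-- The cap commutes with flat pull back up to rational equivalence. -/
theorem ratEquiv_pull_cap [IsLocallyNoetherian X] [IsLocallyNoetherian Y] (f : X ⟶ Y) [Flat f] {δX : X → ℤ}
    {δY : Y → ℤ} (hX : Cyc.IsDimFun X δX) (hY : Cyc.IsDimFun Y δY) {c : ℤ}
    (hc : ∀ x : X, IsFibMax f x → δX x = δY (f x) + c) {L : Y.Modules} (hL : PicF.IsInvertible L)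
    (hL' : PicF.IsInvertible ((Scheme.Modules.pullback f).obj L)) (k : ℤ)
    (α : AlgebraicCycle Y ℤ) (hα : α ∈ Cyc.Zk Y δY k) (v : (η : Y) → Cyc.secFibre L η) (hv : ∀ η, v η ≠ 0)
    (u : (ξ : X) → Cyc.secFibre ((Scheme.Modules.pullback f).obj L) ξ) (hu : ∀ ξ, u ξ ≠ 0)
    (γ₁ γ₂ : AlgebraicCycle X ℤ) (h₁ : ⇑γ₁ = Cyc.pullFun f δX δY c (Cyc.c1CapFun δY L ⇑α v))
    (h₂ : ⇑γ₂ = Cyc.c1CapFun δX ((Scheme.Modules.pullback f).obj L) (Cyc.pullFun f δX δY c ⇑α) u) :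
    Cyc.RatEquiv δX (k + c - 1) γ₁ γ₂ := by
  let α' : AlgebraicCycle X ℤ := CycLim.mkCycle (Cyc.pullFun f δX δY c ⇑α)
    fun {U} hU => finite_pullFun_cycle f hX hc α hU
  have hα' : α' ∈ Cyc.Zk X δX (k + c - 1 + 1) := fun x hx => by
    show Cyc.pullFun f δX δY c ⇑α x = 0
    unfold Cyc.pullFun
    split
    · next h => rw [hα (f x) (fun e => hx (by omega)), zero_mul]
    · rfl
  exact C1Cap.ratEquiv_cap δX hL' (k + c - 1) α' hα' (fun ξ => secPull f ξ (v (f ξ))) u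
    (fun ξ _ => secPull_ne_zero f hL ξ (hv _)) (fun ξ _ => hu ξ) γ₁ γ₂
    (h₁.trans (pullFun_c1CapFun f hX hY hc hL α v hv)) h₂

/-- The cap commutes with proper push forward up to rational equivalence. -/
theorem ratEquiv_push_cap [IsLocallyNoetherian X] [IsLocallyNoetherian Y] (p : X ⟶ Y) [IsProper p] {δX : X → ℤ}
    {δY : Y → ℤ} (hX : Cyc.IsDimFun X δX) (hY : Cyc.IsDimFun Y δY) (hδ : Cyc.DeltaCompat p δX δY) {L : Y.Modules}
    (hL : PicF.IsInvertible L) (hL' : PicF.IsInvertible ((Scheme.Modules.pullback p).obj L)) (k : ℤ)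
    (α : AlgebraicCycle X ℤ) (hα : α ∈ Cyc.Zk X δX (k + 1))
    (u : (ξ : X) → Cyc.secFibre ((Scheme.Modules.pullback p).obj L) ξ) (hu : ∀ ξ, u ξ ≠ 0)
    (v : (η : Y) → Cyc.secFibre L η) (hv : ∀ η, v η ≠ 0) (γ : AlgebraicCycle X ℤ)
    (hγ : ⇑γ = Cyc.c1CapFun δX ((Scheme.Modules.pullback p).obj L) ⇑α u) (β γ' : AlgebraicCycle Y ℤ)
    (hβ : ∀ y, β y = ∑ᶠ x ∈ (p ⁻¹' {y} : Set X), γ x * (AlgebraicCycle.mapCoeff p δX δY x : ℤ))
    (hγ' : ∀ y, γ' y = ∑ᶠ η, (∑ᶠ ξ ∈ (p ⁻¹' {η} : Set X), α ξ * (AlgebraicCycle.mapCoeff p δX δY ξ : ℤ)) *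
      Cyc.secDivFun δY L η (v η) y) :
    Cyc.RatEquiv δY k β γ' := by
  classical
  let M := (Scheme.Modules.pullback p).obj L
  let u₀ : (ξ : X) → Cyc.secFibre M ξ := fun ξ => secPull p ξ (v (p ξ))
  have hu₀ : ∀ ξ, u₀ ξ ≠ 0 := fun ξ => secPull_ne_zero p hL ξ (hv _)
  have hfin₀ : ∀ {U : X.Opens}, IsAffineOpen U → {x : X | x ∈ U ∧ Cyc.c1CapFun δX M ⇑α u₀ x ≠ 0}.Finite := by
    intro U hU
    refine ((α.locallyFiniteSupport.finite_inter_support_of_isCompact hU.isCompact).biUnion fun ξ _ =>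
      finite_secDivFun hX hL' ξ (hu₀ ξ) hU).subset fun x hx => ?_
    obtain ⟨ξ, hξ⟩ : ∃ ξ, α ξ * Cyc.secDivFun δX M ξ (u₀ ξ) x ≠ 0 := by
      by_contra h
      push Not at h
      exact hx.2 (finsum_eq_zero_of_forall_eq_zero h)
    obtain ⟨h1, h2⟩ := mul_ne_zero_iff.1 hξ
    exact Set.mem_biUnion ⟨(secDivFun_support h2).1.mem_open U.2 hx.1, h1⟩ ⟨hx.1, h2⟩
  let γ₀ : AlgebraicCycle X ℤ := CycLim.mkCycle _ fun {U} hU => hfin₀ hU
  have hγ₀ : Cyc.RatEquivZero δX k (γ - γ₀) :=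
    C1Cap.ratEquiv_cap δX hL' k α hα u u₀ (fun ξ _ => hu ξ) (fun ξ _ => hu₀ ξ) γ γ₀ hγ rfl
  refine CycPush.ratEquivZero_map p hX hY hδ k (γ - γ₀) hγ₀ (β - γ') fun y => ?_
  let w : X → ℤ := fun x => (AlgebraicCycle.mapCoeff p δX δY x : ℤ)
  obtain ⟨V, hV, hyV, -⟩ := exists_isAffineOpen_mem_and_subset (x := y) (U := (⊤ : Y.Opens)) trivial
  have hK : IsCompact (p ⁻¹' (V : Set Y)) := QuasiCompact.isCompact_preimage (f := p) V V.2 hV.isCompact
  have hfib : ∀ c : AlgebraicCycle X ℤ,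
      ((p ⁻¹' {y} : Set X) ∩ Function.support fun x => c x * w x).Finite := fun c =>
    (c.locallyFiniteSupport.finite_inter_support_of_isCompact hK).subset
      fun x hx => ⟨show p x ∈ (V : Set Y) by rw [show p x = y from hx.1]; exact hyV, left_ne_zero_of_mul hx.2⟩
  show β y - γ' y = ∑ᶠ x ∈ (p ⁻¹' {y} : Set X), (γ x - γ₀ x) * w x
  have hsub : (∑ᶠ x ∈ (p ⁻¹' {y} : Set X), γ x * w x) = (∑ᶠ x ∈ (p ⁻¹' {y} : Set X), (γ x - γ₀ x) * w x) +
      ∑ᶠ x ∈ (p ⁻¹' {y} : Set X), γ₀ x * w x := by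
    rw [← finsum_mem_add_distrib' (show ((p ⁻¹' {y} : Set X) ∩ Function.support fun x => (γ x - γ₀ x) * w x).Finite
      from hfib (γ - γ₀)) (hfib γ₀)]
    exact finsum_mem_congr rfl fun x _ => by ring
  rw [hβ y, hsub]
  suffices hmain : ∑ᶠ x ∈ (p ⁻¹' {y} : Set X), γ₀ x * w x = γ' y by rw [hmain]; ring
  -- the push forward of the cap with pulled back sections
  let D : X → X → ℤ := fun ξ x => Cyc.secDivFun δX M ξ (u₀ ξ) x
  let I := (α.locallyFiniteSupport.finite_inter_support_of_isCompact hK).toFinset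
  have hDI : ∀ ξ x, p x = y → α ξ * D ξ x ≠ 0 → ξ ∈ I := fun ξ x hx h => by
    obtain ⟨h1, h2⟩ := mul_ne_zero_iff.1 h
    exact (Set.Finite.mem_toFinset _).2
      ⟨((secDivFun_support h2).1.map p.continuous).mem_open V.2 (by rw [hx]; exact hyV), h1⟩
  choose O hO hxO using fun x : X => exists_isAffineOpen_mem_and_subset (x := x) (U := (⊤ : X.Opens)) trivial
  obtain ⟨t, ht⟩ := hK.elim_finite_subcover (fun x => (O x : Set X)) (fun x => (O x).2)
    fun x _ => Set.mem_iUnion.2 ⟨x, (hxO x).1⟩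
  have hA := I.finite_toSet.biUnion fun ξ _ => t.finite_toSet.biUnion fun a _ =>
    finite_secDivFun hX hL' ξ (hu₀ ξ) (hO a)
  let S := hA.toFinset.filter fun x => p x = y
  have hS : ∀ ξ x, p x = y → α ξ * D ξ x ≠ 0 → x ∈ S := by
    intro ξ x hx hne
    obtain ⟨a, ha, hxa⟩ := Set.mem_iUnion₂.1 (ht (show p x ∈ V by rw [hx]; exact hyV))
    exact Finset.mem_filter.2 ⟨hA.mem_toFinset.2 (Set.mem_biUnion (hDI ξ x hx hne)
      (Set.mem_biUnion ha ⟨hxa, right_ne_zero_of_mul hne⟩)), hx⟩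
  have hS' : ∀ x ∈ S, p x = y := fun x hx => (Finset.mem_filter.1 hx).2
  have hR : ∑ᶠ x ∈ (p ⁻¹' {y} : Set X), γ₀ x * w x =
      ∑ ξ ∈ I, α ξ * (w ξ * Cyc.secDivFun δY L (p ξ) (v (p ξ)) y) := by
    have hγ₀x : ∀ x ∈ S, γ₀ x = ∑ ξ ∈ I, α ξ * D ξ x := fun x hx =>
      finsum_eq_sum_of_support_subset (fun ξ => α ξ * D ξ x) fun ξ hξ => hDI ξ x (hS' x hx) hξ
    rw [finsum_mem_eq_sum_of_subset _ (s := (p ⁻¹' {y} : Set X)) (t := S) (fun x hx => by
        obtain ⟨ξ, hξ⟩ : ∃ ξ, α ξ * D ξ x ≠ 0 := by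
          by_contra h
          push Not at h
          exact hx.2 (show (∑ᶠ ξ, α ξ * D ξ x) * w x = 0 by
            rw [finsum_eq_zero_of_forall_eq_zero h, zero_mul])
        exact Finset.mem_coe.2 (hS ξ x hx.1 hξ))
      (fun x hx => hS' x (Finset.mem_coe.1 hx)),
      Finset.sum_congr rfl fun x hx => by rw [hγ₀x x hx, Finset.sum_mul], Finset.sum_comm]
    refine Finset.sum_congr rfl fun ξ _ => ?_
    by_cases hα0 : α ξ = 0
    · rw [hα0, zero_mul]
      exact Finset.sum_eq_zero fun x _ => by rw [zero_mul, zero_mul]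
    rw [← push_secPull p hX hY hδ hL ξ (hv (p ξ)) y,
      finsum_mem_eq_sum_of_subset (fun x => D ξ x * w x) (s := (p ⁻¹' {y} : Set X)) (t := S)
        (fun x hx => Finset.mem_coe.2 (hS ξ x hx.1 (mul_ne_zero hα0 (left_ne_zero_of_mul hx.2))))
        (fun x hx => hS' x (Finset.mem_coe.1 hx)), Finset.mul_sum]
    exact Finset.sum_congr rfl fun x _ => mul_assoc _ _ _
  rw [hR, hγ' y]
  symm
  let E : Y → ℤ := fun η => Cyc.secDivFun δY L η (v η) y
  have hin : ∀ η, (∑ᶠ ξ ∈ (p ⁻¹' {η} : Set X), α ξ * w ξ) * E η = ∑ ξ ∈ I with p ξ = η, α ξ * (w ξ * E η) := by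
    intro η
    by_cases hE : E η = 0
    · rw [hE, mul_zero, Finset.sum_eq_zero fun ξ _ => by rw [mul_zero, mul_zero]]
    rw [finsum_mem_eq_sum_of_subset _ (s := (p ⁻¹' {η} : Set X)) (t := I.filter fun ξ => p ξ = η)
      (fun ξ hξ => by
        refine Finset.mem_coe.2 (Finset.mem_filter.2 ⟨(Set.Finite.mem_toFinset _).2 ⟨?_, left_ne_zero_of_mul hξ.2⟩, hξ.1⟩)
        show p ξ ∈ (V : Set Y)
        rw [show p ξ = η from hξ.1]
        exact (secDivFun_support hE).1.mem_open V.2 hyV)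
      (fun ξ hξ => (Finset.mem_filter.1 (Finset.mem_coe.1 hξ)).2), Finset.sum_mul]
    exact Finset.sum_congr rfl fun ξ _ => mul_assoc _ _ _
  show (∑ᶠ η, (∑ᶠ ξ ∈ (p ⁻¹' {η} : Set X), α ξ * w ξ) * E η) = ∑ ξ ∈ I, α ξ * (w ξ * E (p ξ))
  rw [finsum_congr hin, finsum_eq_finsetSum_of_support_subset _ (s := I.image fun ξ => p ξ) (fun η hη => by
      rw [Finset.mem_coe, Finset.mem_image]
      by_contra hne
      push Not at hne
      refine hη ?_
      show (∑ ξ ∈ I with p ξ = η, α ξ * (w ξ * E η)) = 0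
      rw [Finset.filter_eq_empty_iff.2 fun ξ hξ => hne ξ hξ, Finset.sum_empty]),
    ← Finset.sum_fiberwise_of_maps_to (g := fun ξ => p ξ) (t := I.image fun ξ => p ξ)
      (fun ξ hξ => Finset.mem_image_of_mem _ hξ)]
  exact Finset.sum_congr rfl fun η _ => Finset.sum_congr rfl fun ξ hξ => by rw [(Finset.mem_filter.1 hξ).2]

end Groth.Agent.CycSec
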