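import Groth.Agent.CycDim.Basic
import Groth.Agent.DimFormula.Dims
import Groth.Agent.SpRelDim.Trdeg
import Groth.Agent.Unibranch.FibreChains
import Groth.Prelude.Def_Cyc
import Mathlib

/-!
Relative dimension of fibres in terms of transcendence degrees of residue fields.
-/

set_option autoImplicit false
set_option linter.style.haveILetI false
set_option backward.isDefEq.respectTransparency false

universe u

open CategoryTheory AlgebraicGeometry TopologicalSpace Topology
open Groth.Agent.Unibranch (ChainsLE HasChain IsChain')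
open Groth.Agent.EquidimPt (IsFibMax)

noncomputable section

namespace Groth.Agent.CycDim

variable {X Y : Scheme.{u}} (f : X ⟶ Y)

/-- The closure of a point of a fibre, seen in the total space. -/
theorem range_closure_fiber {y : Y} (w : f.fiber y) :
    Set.range (fun v : closure ({w} : Set (f.fiber y)) => f.fiberι y v.1) =
      closure {f.fiberι y w} ∩ f ⁻¹' {y} := by
  rw [Set.range_comp' (f.fiberι y) Subtype.val, Subtype.range_coe,
    (f.fiberι y).isEmbedding.isInducing.closure_eq_preimage_closure_image, Set.image_singleton,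
    Set.image_preimage_eq_inter_range, Scheme.Hom.range_fiberι]

/-- The transcendence degree is the dimension of the closure in the fibre. -/
theorem exists_trdeg [IsLocallyNoetherian Y] [LocallyOfFiniteType f] (x : X) :
    ∃ d : ℕ, Dual3.resTrdeg f x = (d : Cardinal.{u}) ∧ ChainsLE f (closure {x}) (f x) d ∧
      HasChain f (closure {x}) (f x) d := by
  obtain ⟨b, d, hb, hD, hle, hge, -⟩ := DimFormula.exists_fibre_dims f x
  obtain ⟨b', d', hb', hd', hD'⟩ := SpRelDim.fibreDimAt_eq_add_resTrdeg f x
  rw [hb] at hb'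
  rw [hD] at hD'
  have h1 : b = b' := by exact_mod_cast hb'
  have h2 : b + d = b' + d' := by exact_mod_cast hD'
  exact ⟨d, by rw [hd', show d' = d by omega], hle, hge⟩

theorem topologicalKrullDim_closure_fiber [IsLocallyNoetherian Y] [LocallyOfFiniteType f] {y : Y} (w : f.fiber y)
    {d : ℕ} (hle : ChainsLE f (closure {f.fiberι y w}) y d) (hge : HasChain f (closure {f.fiberι y w}) y d) :
    topologicalKrullDim ↥(closure ({w} : Set (f.fiber y))) = (d : WithBot ℕ∞) := by
  haveI : QuasiSober ↥(closure ({w} : Set (f.fiber y))) := isClosed_closure.isClosedEmbedding_subtypeVal.quasiSober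
  have hj : IsEmbedding (fun v : closure ({w} : Set (f.fiber y)) => f.fiberι y v.1) :=
    (f.fiberι y).isEmbedding.comp IsEmbedding.subtypeVal
  exact le_antisymm ((Unibranch.topologicalKrullDim_le_iff f hj (range_closure_fiber f w)).2 hle)
    ((Unibranch.natCast_le_topologicalKrullDim_iff f hj (range_closure_fiber f w)).2 hge)

theorem mem_components_iff {y : Y} (w : f.fiber y) :
    closure {w} ∈ irreducibleComponents (f.fiber y) ↔ IsFibMax f (f.fiberι y w) := by
  have hy : ∀ v : f.fiber y, f (f.fiberι y v) = y := fun v => by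
    have : f.fiberι y v ∈ Set.range (f.fiberι y) := ⟨v, rfl⟩
    rw [Scheme.Hom.range_fiberι] at this
    exact this
  constructor
  · intro h m hm hmw
    have : m ∈ Set.range (f.fiberι y) := by rw [Scheme.Hom.range_fiberι]; exact hm.trans (hy w)
    obtain ⟨v, rfl⟩ := this
    have hvw : v ⤳ w := (f.fiberι y).isEmbedding.isInducing.specializes_iff.1 hmw
    have hsub := h.2 isIrreducible_singleton.closure
      (closure_minimal (Set.singleton_subset_iff.2 (specializes_iff_mem_closure.1 hvw)) isClosed_closure :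
        closure {w} ⊆ closure {v})
    rw [(hvw.antisymm (specializes_iff_mem_closure.2 (hsub (subset_closure rfl)))).eq]
  · intro h
    refine ⟨isIrreducible_singleton.closure, fun s hs hle => ?_⟩
    obtain ⟨v, hv⟩ := QuasiSober.sober hs.closure isClosed_closure
    have hvw : v ⤳ w := hv.specializes (subset_closure (hle (subset_closure rfl)))
    have he : v = w :=
      (f.fiberι y).isEmbedding.injective (h _ ((hy v).trans (hy w).symm) (hvw.map (f.fiberι y).continuous))
    intro z hz
    rw [← specializes_iff_mem_closure, ← he]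
    exact hv.specializes (subset_closure hz)

/-- Each point of a fibre has a maximal generisation inside the fibre. -/
theorem exists_fibMax [IsLocallyNoetherian Y] [LocallyOfFiniteType f] (x : X) :
    ∃ m, f m = f x ∧ m ⤳ x ∧ IsFibMax f m := by
  obtain ⟨b, d, -, -, -, -, -, m, hfm, hmx, hm, -⟩ := DimFormula.exists_fibre_dims f x
  exact ⟨m, hfm, hmx, hm⟩

theorem trdeg_fibMax [IsLocallyNoetherian Y] [LocallyOfFiniteType f] {r : ℕ} (hr : Cyc.HasRelDim f r) {m : X}
    (hm : IsFibMax f m) :
    Dual3.resTrdeg f m = (r : Cardinal.{u}) ∧ ChainsLE f (closure {m}) (f m) r ∧ HasChain f (closure {m}) (f m) r := by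
  obtain ⟨d, hd, hle, hge⟩ := exists_trdeg f m
  have hw := f.fiberι_asFiber m
  have h1 := topologicalKrullDim_closure_fiber f (f.asFiber m) (d := d) (by rwa [hw]) (by rwa [hw])
  rw [hr (f m) _ ((mem_components_iff f _).2 (by rwa [hw]))] at h1
  have : r = d := by exact_mod_cast h1
  subst this
  exact ⟨hd, hle, hge⟩

/-- Transcendence degrees are at most the relative dimension, with equality only at maximal points of fibres. -/
theorem trdeg_le [IsLocallyNoetherian Y] [LocallyOfFiniteType f] {r : ℕ} (hr : Cyc.HasRelDim f r) (x : X) :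
    ∃ d : ℕ, Dual3.resTrdeg f x = (d : Cardinal.{u}) ∧ d ≤ r ∧ (d = r ↔ IsFibMax f x) := by
  obtain ⟨d, hd, hle, hge⟩ := exists_trdeg f x
  obtain ⟨m, hfm, hmx, hm⟩ := exists_fibMax f x
  obtain ⟨-, hmle, -⟩ := trdeg_fibMax f hr hm
  rw [hfm] at hmle
  have hsub : closure ({x} : Set X) ⊆ closure {m} :=
    closure_minimal (Set.singleton_subset_iff.2 (specializes_iff_mem_closure.1 hmx)) isClosed_closure
  have hdr : d ≤ r := (hge.mono hsub).le hmle
  refine ⟨d, hd, hdr, fun hdeq => ?_, fun hx => ?_⟩
  · intro w hw hwx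
    by_contra hne
    obtain ⟨m', hfm', hmw, hm'⟩ := exists_fibMax f w
    obtain ⟨-, hm'le, -⟩ := trdeg_fibMax f hr hm'
    rw [hfm', hw] at hm'le
    obtain ⟨c, hc, hc'⟩ := hge
    have h2 : HasChain f (closure {m'}) (f x) (d + 1) := by
      refine ⟨Fin.cons w c, fun i => ?_, fun i => ?_⟩
      · refine Fin.cases ?_ (fun j => ?_) i
        · exact ⟨specializes_iff_mem_closure.1 hmw, hw⟩
        · exact ⟨specializes_iff_mem_closure.1 ((hmw.trans hwx).trans (specializes_iff_mem_closure.2 (hc j).1)), (hc j).2⟩
      · refine Fin.cases ?_ (fun j => ?_) i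
        · refine ⟨hwx.trans (specializes_iff_mem_closure.2 (hc 0).1), fun e => hne ?_⟩
          have e' : w = c 0 := by simpa using e
          exact (hwx.antisymm (e' ▸ specializes_iff_mem_closure.2 (hc 0).1)).eq
        · simpa [← Fin.succ_castSucc] using hc' j
    have := h2.le hm'le
    omega
  · obtain ⟨h1, -⟩ := trdeg_fibMax f hr hx
    rw [h1] at hd
    exact_mod_cast hd.symm

theorem hasRelDim_of_trdeg [IsLocallyNoetherian Y] [LocallyOfFiniteType f] (r : ℕ)
    (h : ∀ x, IsFibMax f x → Dual3.resTrdeg f x = (r : Cardinal.{u})) : Cyc.HasRelDim f r := by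
  intro y T hT
  obtain ⟨w, hw⟩ := QuasiSober.sober hT.1 (isClosed_of_mem_irreducibleComponents T hT)
  rw [show T = closure {w} from hw.symm]
  have hmax := (mem_components_iff f w).1 (by rw [hw.def]; exact hT)
  obtain ⟨d, hd, hle, hge⟩ := exists_trdeg f (f.fiberι y w)
  have hy : f (f.fiberι y w) = y := by
    have : f.fiberι y w ∈ Set.range (f.fiberι y) := ⟨w, rfl⟩
    rw [Scheme.Hom.range_fiberι] at this
    exact this
  rw [h _ hmax] at hd
  have : r = d := by exact_mod_cast hd
  subst this
  rw [hy] at hle hge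
  exact topologicalKrullDim_closure_fiber f w hle hge

/-- The dimension function upstairs. -/
theorem delta_le [IsLocallyNoetherian Y] [LocallyOfFiniteType f] {δX : X → ℤ} {δY : Y → ℤ}
    (hδ : Cyc.DeltaCompat f δX δY) {r : ℕ} (hr : Cyc.HasRelDim f r) (x : X) :
    δX x ≤ δY (f x) + r ∧ (δX x = δY (f x) + r ↔ IsFibMax f x) := by
  obtain ⟨d, hd, hdr, hiff⟩ := trdeg_le f hr x
  obtain ⟨n, hn, hδx⟩ := hδ x
  have hnd : n = d := by
    have h1 : (n : Cardinal.{u}) = (d : Cardinal.{u}) := hn.symm.trans hd
    exact_mod_cast h1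
  subst hnd
  refine ⟨by omega, ?_⟩
  rw [← hiff]
  omega

theorem resTrdeg_comp {Z : Scheme.{u}} (g : Y ⟶ Z) (x : X) :
    Dual3.resTrdeg (f ≫ g) x = Dual3.resTrdeg g (f x) + Dual3.resTrdeg f x := by
  unfold Dual3.resTrdeg
  letI := (g.residueFieldMap (f x)).hom.toAlgebra
  letI := (f.residueFieldMap x).hom.toAlgebra
  letI : Algebra (Z.residueField (g (f x))) (X.residueField x) := ((f ≫ g).residueFieldMap x).hom.toAlgebra
  haveI : IsScalarTower (Z.residueField (g (f x))) (Y.residueField (f x)) (X.residueField x) :=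
    IsScalarTower.of_algebraMap_eq' (congrArg (fun g => g.hom) (Scheme.residueFieldMap_comp f g x))
  show Algebra.trdeg (Z.residueField (g (f x))) (X.residueField x) = _
  exact (trdeg_add_eq (R := Z.residueField (g (f x))) (S := Y.residueField (f x)) (A := X.residueField x)).symm

/-- Relative dimensions add up along flat morphisms. -/
theorem hasRelDim_comp {Z : Scheme.{u}} (g : Y ⟶ Z) [IsLocallyNoetherian Z] [Flat f] [LocallyOfFiniteType f]
    [LocallyOfFiniteType g] {r s : ℕ} (hr : Cyc.HasRelDim f r) (hs : Cyc.HasRelDim g s) :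
    Cyc.HasRelDim (f ≫ g) (r + s) := by
  haveI : IsLocallyNoetherian Y := LocallyOfFiniteType.isLocallyNoetherian g
  refine hasRelDim_of_trdeg (f ≫ g) _ fun x hx => ?_
  have hfx : IsFibMax f x := fun w hw hwx => hx w (congrArg g hw) hwx
  have hgx : IsFibMax g (f x) := fun y hy hyx => by
    obtain ⟨x', hx', rfl⟩ := Flat.generalizingMap f hyx
    rw [hx x' hy hx']
  rw [resTrdeg_comp, (trdeg_fibMax f hr hfx).1, (trdeg_fibMax g hs hgx).1, ← Nat.cast_add, add_comm]

end Groth.Agent.CycDim
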