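import Groth.Agent.CycDim.FibreAff
import Groth.Agent.CycDim.RatBasic
import Mathlib

/-!
Every cycle on a scheme locally isomorphic to affine space over the base is a pull back up to rational equivalence.
-/

set_option autoImplicit false
set_option linter.style.haveILetI false
set_option backward.isDefEq.respectTransparency false

universe u

open CategoryTheory CategoryTheory.Limits AlgebraicGeometry TopologicalSpace

noncomputable section

namespace Groth.Agent.CycAff

variable {X Y : Scheme.{u}}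

/-- A cycle has finitely many nonzero coefficients on a quasi-compact set. -/
theorem finite_on (α : AlgebraicCycle X ℤ) {S : Set X} (hS : IsCompact S) : {x : X | x ∈ S ∧ α x ≠ 0}.Finite := by
  choose t ht hfin using fun x : X => α.supportLocallyFiniteWithinDomain' x trivial
  obtain ⟨s, -, hs⟩ := hS.elim_nhds_subcover t fun x _ => ht x
  refine (s.finite_toSet.biUnion fun x _ => hfin x).subset fun y hy => ?_
  obtain ⟨x, hx, hyx⟩ := Set.mem_iUnion₂.1 (hs hy.1)
  exact Set.mem_biUnion hx ⟨hyx, hy.2⟩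

variable (f : X ⟶ Y) {r : ℕ}

/-- Moving the part of a cycle over the points of largest dimension downwards. -/
theorem step [IsLocallyNoetherian X] [LocallyOfFiniteType f] (h : LocAff f r) {δX : X → ℤ} {δY : Y → ℤ}
    (hX : Cyc.IsDimFun X δX) (hY : Cyc.IsDimFun Y δY) (hδ : Cyc.DeltaCompat f δX δY) (k N : ℤ) (hN : k < N)
    (β : AlgebraicCycle X ℤ) (hβ : β ∈ Cyc.Zk X δX (k + r)) (hb : ∀ x, β x ≠ 0 → δY (f x) ≤ N) :
    ∃ β' : AlgebraicCycle X ℤ, β' ∈ Cyc.Zk X δX (k + r) ∧ (∀ x, β' x ≠ 0 → δY (f x) < N) ∧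
      Cyc.RatEquiv δX (k + r) β β' := by
  classical
  haveI := isAffineHom_of_locAff f h
  have hex : ∀ x : {x : X // β x ≠ 0 ∧ δY (f x) = N},
      ∃ (n : Type u) (_ : Fintype n) (ξ : n → X) (g : (i : n) → X.residueField (ξ i)),
        (∀ i, f (ξ i) = f x.1 ∧ δX (ξ i) = δX x.1 + 1 ∧ g i ≠ 0) ∧
        ∀ p, f p = f x.1 → ∑ i, Cyc.divFun δX (ξ i) (g i) p = CycRat.pt x.1 p := by
    intro x
    obtain ⟨γ, -, -, -, hγ⟩ := fibre_data f r h hδ (f x.1)
    have hx : δX x.1 = k + r := not_not.1 fun e => x.2.1 (hβ x.1 e)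
    exact (hγ x.1 rfl).2.2.2 (by have := x.2.2; omega)
  choose n hn ξ g hg hsum using hex
  let I := Σ x : {x : X // β x ≠ 0 ∧ δY (f x) = N}, n x
  let Ξ : I → X := fun i => ξ i.1 i.2
  let G : (i : I) → X.residueField (Ξ i) := fun i => g i.1 i.2 ^ β i.1.1
  have hG : ∀ i : I, G i ≠ 0 := fun i => zpow_ne_zero _ (hg i.1 i.2).2.2
  have hδΞ : ∀ i : I, δX (Ξ i) = k + r + 1 := fun i => by
    show δX (ξ i.1 i.2) = _
    rw [(hg i.1 i.2).2.1, not_not.1 fun e => i.1.2.1 (hβ i.1.1 e)]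
  have hwin : ∀ V : Y.Opens, IsAffineOpen V → {i : I | f (Ξ i) ∈ V}.Finite := by
    intro V hV
    let B : Set {x : X // β x ≠ 0 ∧ δY (f x) = N} := {x | f x.1 ∈ V}
    have hB : B.Finite :=
      ((finite_on β (hV.preimage f).isCompact).preimage Subtype.val_injective.injOn).subset
        fun x hx => ⟨hx, x.2.1⟩
    refine ((hB.toFinset.sigma fun x => (@Finset.univ (n x) (hn x)))).finite_toSet.subset fun i hi => ?_
    exact Finset.mem_coe.2 (Finset.mem_sigma.2 ⟨hB.mem_toFinset.2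
      (show f i.1.1 ∈ V by rw [← (hg i.1 i.2).1]; exact hi), @Finset.mem_univ _ (hn _) _⟩)
  have hloc : ∀ p : X, ∃ U : Set X, IsOpen U ∧ p ∈ U ∧ {i | (closure {Ξ i} ∩ U).Nonempty}.Finite := by
    intro p
    obtain ⟨V, hV, hpV, -⟩ := exists_isAffineOpen_mem_and_subset (x := f p) (U := (⊤ : Y.Opens)) trivial
    refine ⟨f ⁻¹ᵁ V, (f ⁻¹ᵁ V).2, hpV, (hwin V hV).subset ?_⟩
    rintro i ⟨z, hz, hzV⟩
    exact (specializes_iff_mem_closure.2 hz).mem_open (f ⁻¹ᵁ V).2 hzV
  let F : X → ℤ := fun p => ∑ᶠ i : I, Cyc.divFun δX (Ξ i) (G i) p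
  have hF : ∀ {U : X.Opens}, IsAffineOpen U → {p : X | p ∈ U ∧ F p ≠ 0}.Finite := by
    intro U hU
    choose O hO hpO hfin using hloc
    obtain ⟨t, ht⟩ := hU.isCompact.elim_finite_subcover O hO fun p _ => Set.mem_iUnion.2 ⟨p, hpO p⟩
    refine ((t.finite_toSet.biUnion fun p _ => hfin p).biUnion fun i _ =>
      CycDiv.finite_divFun hX (Ξ i) (hG i) hU).subset ?_
    rintro p ⟨hpU, hp⟩
    obtain ⟨i, hi⟩ : ∃ i, Cyc.divFun δX (Ξ i) (G i) p ≠ 0 := by
      by_contra hall
      exact hp (finsum_eq_zero_of_forall_eq_zero fun i => not_not.1 fun hne => hall ⟨i, hne⟩)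
    obtain ⟨q, hq, hpq⟩ := Set.mem_iUnion₂.1 (ht hpU)
    exact Set.mem_biUnion (Set.mem_biUnion hq
      ⟨p, specializes_iff_mem_closure.1 (CycDeg.divFun_delta hi).1, hpq⟩) ⟨hpU, hi⟩
  let D : AlgebraicCycle X ℤ := CycLim.mkCycle F hF
  have hD : ∀ p, D p ≠ 0 → δX p = k + r ∧ δY (f p) ≤ N := by
    intro p hp
    obtain ⟨i, hi⟩ : ∃ i, Cyc.divFun δX (Ξ i) (G i) p ≠ 0 := by
      by_contra hall
      exact hp (finsum_eq_zero_of_forall_eq_zero fun i => not_not.1 fun hne => hall ⟨i, hne⟩)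
    obtain ⟨h1, h2⟩ := CycDeg.divFun_delta hi
    refine ⟨by have := hδΞ i; omega, ?_⟩
    have hs : f i.1.1 ⤳ f p := (hg i.1 i.2).1 ▸ h1.map f.continuous
    have := i.1.2.2
    by_cases e : f i.1.1 = f p
    · rw [← e]; omega
    · have := (hY _ _ hs e).1; omega
  have htop : ∀ p, δY (f p) = N → D p = β p := by
    intro p hp
    obtain ⟨V, hV, hpV, -⟩ := exists_isAffineOpen_mem_and_subset (x := f p) (U := (⊤ : Y.Opens)) trivial
    let B : Set {x : X // β x ≠ 0 ∧ δY (f x) = N} := {x | f x.1 ∈ V}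
    have hB : B.Finite :=
      ((finite_on β (hV.preimage f).isCompact).preimage Subtype.val_injective.injOn).subset
        fun x hx => ⟨hx, x.2.1⟩
    have hterm : ∀ (x : {x : X // β x ≠ 0 ∧ δY (f x) = N}) (j : n x),
        Cyc.divFun δX (Ξ ⟨x, j⟩) (G ⟨x, j⟩) p = β x.1 * Cyc.divFun δX (ξ x j) (g x j) p := fun x j => by
      show Cyc.divFun δX (ξ x j) (g x j ^ β x.1) p = _
      unfold Cyc.divFun
      split
      · next hh => rw [C1Cap.ordAt_zpow _ (hg x j).2.2]
      · rw [mul_zero]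
    have hzero : ∀ (x : {x : X // β x ≠ 0 ∧ δY (f x) = N}) (j : n x),
        Cyc.divFun δX (ξ x j) (g x j) p ≠ 0 → f x.1 = f p := fun x j hne => by
      have hs : f x.1 ⤳ f p := (hg x j).1 ▸ (CycDeg.divFun_delta hne).1.map f.continuous
      by_contra e
      have := (hY _ _ hs e).1
      have := x.2.2
      omega
    show F p = _
    refine (finsum_eq_sum_of_support_subset _
      (s := hB.toFinset.sigma fun x => (@Finset.univ (n x) (hn x))) ?_).trans ?_
    · rintro ⟨x, j⟩ hi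
      refine Finset.mem_coe.2 (Finset.mem_sigma.2 ⟨hB.mem_toFinset.2 ?_, @Finset.mem_univ _ (hn _) _⟩)
      rw [Function.mem_support, hterm] at hi
      show f x.1 ∈ V
      rw [hzero x j (right_ne_zero_of_mul hi)]
      exact hpV
    rw [Finset.sum_sigma]
    have hin : ∀ x : {x : X // β x ≠ 0 ∧ δY (f x) = N},
        (∑ j ∈ (@Finset.univ (n x) (hn x)), Cyc.divFun δX (Ξ ⟨x, j⟩) (G ⟨x, j⟩) p) =
          if p = x.1 then β x.1 else 0 := by
      intro x
      rw [Finset.sum_congr rfl fun j _ => hterm x j, ← Finset.mul_sum]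
      by_cases e : f p = f x.1
      · rw [hsum x p e, CycRat.pt_apply, mul_ite, mul_one, mul_zero]
      · rw [Finset.sum_eq_zero fun j _ => not_not.1 fun hne => e (hzero x j hne).symm, mul_zero,
          if_neg fun hpx => e (congrArg f hpx)]
    rw [Finset.sum_congr rfl fun x _ => hin x]
    by_cases hp0 : β p = 0
    · rw [hp0]
      exact Finset.sum_eq_zero fun x _ => if_neg fun (hpx : p = x.1) => x.2.1 ((congrArg β hpx).symm.trans hp0)
    · rw [Finset.sum_eq_single (⟨p, hp0, hp⟩ : {x : X // β x ≠ 0 ∧ δY (f x) = N}) (fun x _ hx =>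
        if_neg fun hpx => hx (Subtype.ext hpx.symm))
        (fun hnot => absurd (hB.mem_toFinset.2 hpV) hnot), if_pos rfl]
  refine ⟨β - D, fun x hx => ?_, fun x hx => ?_, ?_⟩
  · show β x - D x = 0
    rw [hβ x hx, not_not.1 fun hne => hx (hD x hne).1, sub_zero]
  · change β x - D x ≠ 0 at hx
    by_contra hlt
    have hle : δY (f x) ≤ N := by
      by_contra hgt
      exact hx (by rw [not_not.1 fun hne => hgt (hb x hne), not_not.1 fun hne => hgt (hD x hne).2, sub_zero])
    exact hx (by rw [htop x (by omega), sub_self])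
  · refine ⟨I, Ξ, G, hδΞ, hG, hloc, fun p => ?_⟩
    show β p - (β p - D p) = _
    rw [sub_sub_cancel]
    rfl

/-- Every cycle is a pull back up to rational equivalence. -/
theorem exists_pull [IsLocallyNoetherian X] [LocallyOfFiniteType f] (h : LocAff f r) {δX : X → ℤ} {δY : Y → ℤ}
    (hX : Cyc.IsDimFun X δX) (hY : Cyc.IsDimFun Y δY) (hδ : Cyc.DeltaCompat f δX δY) (k : ℤ)
    (β : AlgebraicCycle X ℤ) (hβ : β ∈ Cyc.Zk X δX (k + r)) :
    ∃ (α : AlgebraicCycle Y ℤ) (β' : AlgebraicCycle X ℤ), α ∈ Cyc.Zk Y δY k ∧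
      ⇑β' = Cyc.pullFun f δX δY r ⇑α ∧ Cyc.RatEquiv δX (k + r) β β' := by
  classical
  haveI := isAffineHom_of_locAff f h
  choose γ hfγ hdγ hlen hfib using fun y => fibre_data f r h hδ y
  have key : ∀ (n : ℕ) (β : AlgebraicCycle X ℤ), β ∈ Cyc.Zk X δX (k + r) →
      (∀ x, β x ≠ 0 → δY (f x) ≤ k + n) → ∃ β' : AlgebraicCycle X ℤ, β' ∈ Cyc.Zk X δX (k + r) ∧
        (∀ x, β' x ≠ 0 → δY (f x) ≤ k) ∧ Cyc.RatEquiv δX (k + r) β β' := by
    intro n
    induction n with
    | zero =>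
      exact fun β hβ hb => ⟨β, hβ, fun x hx => by simpa using hb x hx,
        CycRat.ratEquivZero_zero fun x => sub_self (β x)⟩
    | succ n ih =>
      intro β hβ hb
      obtain ⟨β₁, h1, h2, h3⟩ := step f h hX hY hδ k (k + n + 1) (by omega) β hβ
        (fun x hx => by have := hb x hx; push_cast at this; omega)
      obtain ⟨β₂, g1, g2, g3⟩ := ih β₁ h1 fun x hx => by have := h2 x hx; omega
      exact ⟨β₂, g1, g2, CycRat.ratEquivZero_add h3 g3 fun x => by
        show β x - β₂ x = (β x - β₁ x) + (β₁ x - β₂ x)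
        ring⟩
  obtain ⟨β', h1, h2, h3⟩ := key r β hβ fun x hx => by
    have := (hfib (f x) x rfl).1
    have hdx : δX x = k + r := not_not.1 fun e => hx (hβ x e)
    omega
  have hpt : ∀ x, β' x ≠ 0 → δY (f x) = k ∧ x = γ (f x) := by
    intro x hx
    obtain ⟨-, ha, hu, -⟩ := hfib (f x) x rfl
    have hdx : δX x = k + r := not_not.1 fun e => hx (h1 x e)
    have := h2 x hx
    exact ⟨by omega, hu (by omega)⟩
  have hα : ∀ {V : Y.Opens}, IsAffineOpen V → {y : Y | y ∈ V ∧ β' (γ y) ≠ 0}.Finite := fun {V} hV =>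
    ((finite_on β' (hV.preimage f).isCompact).image f).subset fun y hy =>
      ⟨γ y, ⟨show f (γ y) ∈ V by rw [hfγ]; exact hy.1, hy.2⟩, hfγ y⟩
  refine ⟨CycLim.mkCycle (fun y => β' (γ y)) hα, β', fun y hy => ?_, funext fun x => ?_, h3⟩
  · show β' (γ y) = 0
    refine h1 _ fun e => hy ?_
    have := hdγ y
    omega
  · show β' x = if δX x = δY (f x) + (r : ℤ) then β' (γ (f x)) * _ else 0
    by_cases hx : δX x = δY (f x) + (r : ℤ)
    · rw [if_pos hx]
      have e : x = γ (f x) := (hfib (f x) x rfl).2.2.1 hx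
      have e' : β' (γ (f x)) = β' x := congrArg β' e.symm
      rw [e']
      have hl : Module.length (X.presheaf.stalk x) (X.presheaf.stalk x ⧸
          Ideal.map (f.stalkMap x).hom (IsLocalRing.maximalIdeal (Y.presheaf.stalk (f x)))) = 1 := by
        have H : ∀ v, v = γ (f x) → Module.length (X.presheaf.stalk v) (X.presheaf.stalk v ⧸
            Ideal.map (f.stalkMap v).hom (IsLocalRing.maximalIdeal (Y.presheaf.stalk (f v)))) = 1 := by
          rintro v rfl; exact hlen (f x)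
        exact H x e
      rw [hl]
      simp
    · rw [if_neg hx]
      by_contra hne
      obtain ⟨hk, hxg⟩ := hpt x hne
      exact hx (by have := hdγ (f x); rw [← hxg] at this; exact this)

end Groth.Agent.CycAff
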