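import Groth.Agent.CycDim.FlatDim
import Groth.Agent.CycDim.Fund
import Mathlib

/-!
Lengths along flat morphisms of schemes.
-/

set_option autoImplicit false
set_option linter.style.haveILetI false

universe u

open CategoryTheory AlgebraicGeometry

namespace Groth.Agent.CycDim

/-- Lengths of quotients multiply along flat local homomorphisms of stalks. -/
theorem length_quot_map {X Y : Scheme.{u}} (f : X ⟶ Y) [Flat f] (x : X) (I : Ideal (Y.presheaf.stalk (f x))) :
    Module.length (Y.presheaf.stalk (f x)) (Y.presheaf.stalk (f x) ⧸ I) *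
      Module.length (X.presheaf.stalk x) (X.presheaf.stalk x ⧸
        (IsLocalRing.maximalIdeal (Y.presheaf.stalk (f x))).map (f.stalkMap x).hom) =
      Module.length (X.presheaf.stalk x) (X.presheaf.stalk x ⧸ I.map (f.stalkMap x).hom) := by
  letI := (f.stalkMap x).hom.toAlgebra
  haveI : Module.Flat (Y.presheaf.stalk (f x)) (X.presheaf.stalk x) := Flat.stalkMap f x
  haveI : IsLocalHom (algebraMap (Y.presheaf.stalk (f x)) (X.presheaf.stalk x)) :=
    inferInstanceAs (IsLocalHom (f.stalkMap x).hom)
  rw [show (f.stalkMap x).hom = algebraMap (Y.presheaf.stalk (f x)) (X.presheaf.stalk x) from rfl,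
    (Algebra.TensorProduct.quotIdealMapEquivTensorQuot (X.presheaf.stalk x) I).toLinearEquiv.length_eq,
    IsLocalRing.length_baseChange]

/-- A morphism residue field map on the residue class of an element of a local ring. -/
theorem residueFieldMap_rdu_spz {X Y : Scheme.{u}} (f : X ⟶ Y) {ξ x : X} (h : ξ ⤳ x)
    (a : Y.presheaf.stalk (f x)) :
    (f.residueFieldMap ξ).hom (C1Cap.rdu (f ξ) (spz (h.map f.continuous) a)) =
      C1Cap.rdu ξ (spz h ((f.stalkMap x).hom a)) :=
  (DFunLike.congr_fun (CommRingCat.hom_ext_iff.mp (Scheme.residue_residueFieldMap f ξ))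
    ((Y.presheaf.stalkSpecializes (h.map f.continuous)).hom a)).trans
    (congrArg (X.residue ξ).hom (Scheme.Hom.stalkSpecializes_stalkMap_apply f ξ x h a))

end Groth.Agent.CycDim
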