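import Groth.Agent.CycDim.FibreDeg
import Groth.Agent.CycDim.PullDiv
import Groth.Agent.CycDim.FlatLen
import Mathlib

/-!
Flat pull back of cycles commutes with proper push forward.
-/

set_option autoImplicit false
set_option linter.style.haveILetI false
set_option backward.isDefEq.respectTransparency false

universe u

open CategoryTheory CategoryTheory.Limits AlgebraicGeometry TopologicalSpace
open Groth.Agent.EquidimPt (IsFibMax)

noncomputable section

namespace Groth.Agent.CycFin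

open CycDim (length_congr)

/-- The multiplicity of a point in a fibre. -/
abbrev fibLen {X Y : Scheme.{u}} (q : X ⟶ Y) (x : X) : ℕ∞ :=
  Module.length (X.presheaf.stalk x) (X.presheaf.stalk x ⧸
    Ideal.map (q.stalkMap x).hom (IsLocalRing.maximalIdeal (Y.presheaf.stalk (q x))))

theorem length_fibre_stalk {X Y : Scheme.{u}} (q : X ⟶ Y) {y : Y} (t : q.fiber y) :
    Module.length ((q.fiber y).presheaf.stalk t) ((q.fiber y).presheaf.stalk t) = fibLen q (q.fiberι y t) := by
  obtain ⟨e1⟩ := CMFlat.nonempty_stalk_equiv_asFiber q (q.fiberι y t) t rfl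
  obtain ⟨e2⟩ := CMFlat.nonempty_fiberStalk_equiv q (q.fiberι y t)
  let I : Ideal (X.presheaf.stalk (q.fiberι y t)) :=
    Ideal.map (q.stalkMap (q.fiberι y t)).hom (IsLocalRing.maximalIdeal (Y.presheaf.stalk (q (q.fiberι y t))))
  show _ = Module.length (X.presheaf.stalk (q.fiberι y t)) (X.presheaf.stalk (q.fiberι y t) ⧸ I)
  rw [Module.length_eq_of_surjective (R := X.presheaf.stalk (q.fiberι y t) ⧸ I)
    (M := X.presheaf.stalk (q.fiberι y t) ⧸ I) (S := X.presheaf.stalk (q.fiberι y t))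
    (Ideal.Quotient.mk_surjective (I := I)), length_congr (e2.trans e1.symm)]

variable {X X' Y Y' : Scheme.{u}} {f : Y ⟶ X} {p : X' ⟶ X} {q : Y' ⟶ Y} {f' : Y' ⟶ X'}

/-- Multiplicities times degrees over a pair of points, the upper point having finite residue field extension. -/
theorem fibre_key (hpb : IsPullback q f' f p) (y : Y) (hfin : (f.residueFieldMap y).hom.Finite) (x' : X')
    (hx : p x' = f y) :
    {y' : Y' | q y' = y ∧ f' y' = x'}.Finite ∧
      ∑ᶠ y' ∈ {y' : Y' | q y' = y ∧ f' y' = x'}, (fibLen q y').toNat * f'.residueDegree y' =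
        (fibLen p x').toNat * f.residueDegree y := by
  let T : Scheme.{u} := q.fiber y
  let ιT : T ⟶ Y' := q.fiberι y
  let cT : T ⟶ Spec (CommRingCat.of (Y.residueField y)) := q.fiberToSpecResidueField y
  let P : Scheme.{u} := p.fiber (f y)
  let ιP : P ⟶ X' := p.fiberι (f y)
  let cP : P ⟶ Spec (CommRingCat.of (X.residueField (f y))) := p.fiberToSpecResidueField (f y)
  haveI : IsPreimmersion ιT := inferInstanceAs (IsPreimmersion (q.fiberι y))
  haveI : IsPreimmersion ιP := inferInstanceAs (IsPreimmersion (p.fiberι (f y)))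
  letI := (f.residueFieldMap y).hom.toAlgebra
  let s : Spec (CommRingCat.of (Y.residueField y)) ⟶ Spec (CommRingCat.of (X.residueField (f y))) :=
    Spec.map (CommRingCat.ofHom (algebraMap (X.residueField (f y)) (Y.residueField y)))
  have hs : s ≫ X.fromSpecResidueField (f y) = Y.fromSpecResidueField y ≫ f :=
    Scheme.Hom.SpecMap_residueFieldMap_fromSpecResidueField f y
  have hP : IsPullback ιP cP p (X.fromSpecResidueField (f y)) := .of_hasPullback _ _
  have hT : IsPullback ιT cT q (Y.fromSpecResidueField y) := .of_hasPullback _ _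
  have hout : IsPullback (ιT ≫ f') cT p (Y.fromSpecResidueField y ≫ f) := hT.paste_horiz hpb.flip
  let π : T ⟶ P := hP.lift (ιT ≫ f') (cT ≫ s) (by rw [Category.assoc, Category.assoc, hs]; simpa using hout.w)
  have hπι : π ≫ ιP = ιT ≫ f' := hP.lift_fst _ _ _
  have hπc : π ≫ cP = cT ≫ s := hP.lift_snd _ _ _
  have hsq : IsPullback π cT cP s := IsPullback.of_right (by rw [hπι, hs]; exact hout) hπc hP
  haveI : Module.Finite (X.residueField (f y)) (Y.residueField y) := hfin
  haveI : IsFinite s := (IsFinite.SpecMap_iff _).2 (RingHom.finite_algebraMap.2 inferInstance)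
  haveI : Flat s := Flat.SpecMap_iff.2 (RingHom.flat_algebraMap_iff.2 inferInstance)
  haveI : IsFinite π := MorphismProperty.of_isPullback hsq.flip inferInstance
  haveI : Flat π := MorphismProperty.of_isPullback hsq.flip inferInstance
  obtain ⟨z, hz⟩ : x' ∈ Set.range ιP := by
    show x' ∈ Set.range (p.fiberι (f y))
    rw [p.range_fiberι]; exact hx
  obtain ⟨hfib, -, hsum⟩ := fibre_degree π z
  have hrk : π.finrank z = f.residueDegree y := by
    rw [Scheme.Hom.finrank_of_isPullback cT π s cP hsq.flip z]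
    refine (Scheme.Hom.finrank_SpecMap_algebraMap (X.residueField (f y)) (Y.residueField y) (cP z)).trans ?_
    exact congrFun Module.rankAtStalk_eq_finrank_of_free (cP z)
  have hset : {y' : Y' | q y' = y ∧ f' y' = x'} = ιT '' (π ⁻¹' {z}) := by
    ext y'
    constructor
    · rintro ⟨h1, h2⟩
      obtain ⟨t, rfl⟩ : y' ∈ Set.range (q.fiberι y) := by rw [q.range_fiberι]; exact h1
      refine ⟨t, ιP.isEmbedding.injective ?_, rfl⟩
      rw [← Scheme.Hom.comp_apply, hπι, Scheme.Hom.comp_apply, hz]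
      exact h2
    · rintro ⟨t, ht, rfl⟩
      refine ⟨show ιT t ∈ q ⁻¹' {y} from q.range_fiberι y ▸ ⟨t, rfl⟩, ?_⟩
      rw [← Scheme.Hom.comp_apply, ← hπι, Scheme.Hom.comp_apply, show π t = z from ht, hz]
  rw [hset]
  refine ⟨hfib.image _, ?_⟩
  rw [finsum_mem_image ιT.isEmbedding.injective.injOn, ← hrk, ← hsum,
    finsum_mem_eq_finite_toFinset_sum _ hfib, finsum_mem_eq_finite_toFinset_sum _ hfib, Finset.mul_sum]
  refine Finset.sum_congr rfl fun t ht' => ?_
  have ht : π t = z := hfib.mem_toFinset.1 ht'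
  have hd : π.residueDegree t = f'.residueDegree (ιT t) := by
    have e1 : (π ≫ ιP).residueDegree t = (ιT ≫ f').residueDegree t :=
      congrArg (fun m : T ⟶ X' => m.residueDegree t) hπι
    rwa [CycDeg.residueDegree_comp, CycDeg.residueDegree_comp,
      CycDeg.residueDegree_eq_one ιT (CycPush.residueFieldMap_surjective_pre ιT t),
      CycDeg.residueDegree_eq_one ιP (CycPush.residueFieldMap_surjective_pre ιP (π t)),
      mul_one, one_mul] at e1
  have hlen : fibLen q (ιT t) = fibLen p x' * fibLen π t := by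
    have h := CycDim.length_quot_map π t (⊥ : Ideal (P.presheaf.stalk (π t)))
    rw [Ideal.map_bot, (Submodule.quotEquivOfEqBot (⊥ : Ideal (P.presheaf.stalk (π t))) rfl).length_eq,
      (Submodule.quotEquivOfEqBot (⊥ : Ideal (T.presheaf.stalk t)) rfl).length_eq] at h
    rw [← hz, ← show π t = z from ht]
    exact (length_fibre_stalk q t).symm.trans (h.symm.trans (congrArg (· * _) (length_fibre_stalk p (π t))))
  rw [hlen, ENat.toNat_mul, hd]
  ring

/-- Flat pull back and proper push forward of cycles commute. -/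
theorem push_pull [IsLocallyNoetherian X] [IsProper f] [Flat p] (hpb : IsPullback q f' f p) {δ : X → ℤ} {δ' : X' → ℤ}
    {δY : Y → ℤ} {δY' : Y' → ℤ} (hX' : Cyc.IsDimFun X' δ') (hY' : Cyc.IsDimFun Y' δY')
    (hf : Cyc.DeltaCompat f δY δ) (hf' : Cyc.DeltaCompat f' δY' δ') {c : ℤ}
    (hc : ∀ x', IsFibMax p x' → δ' x' = δ (p x') + c) (hcY : ∀ y', IsFibMax q y' → δY' y' = δY (q y') + c)
    (α : AlgebraicCycle Y ℤ) (x' : X') :
    Cyc.pullFun p δ' δ c
        (fun x => ∑ᶠ y ∈ (f ⁻¹' {x} : Set Y), α y * (AlgebraicCycle.mapCoeff f δY δ y : ℤ)) x' =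
      ∑ᶠ y' ∈ (f' ⁻¹' {x'} : Set Y'),
        Cyc.pullFun q δY' δY c ⇑α y' * (AlgebraicCycle.mapCoeff f' δY' δ' y' : ℤ) := by
  classical
  have hle := (CycPull.delta_le_shift p hX' hc x').1
  have hge : ∀ y, δ (f y) ≤ δY y := fun y => by obtain ⟨n, -, hn⟩ := hf y; omega
  have hsqp : ∀ y', p (f' y') = f (q y') := fun y' => by
    rw [← Scheme.Hom.comp_apply, ← Scheme.Hom.comp_apply, hpb.w]
  have hterm : ∀ y', f' y' = x' → Cyc.pullFun q δY' δY c ⇑α y' * (AlgebraicCycle.mapCoeff f' δY' δ' y' : ℤ) ≠ 0 →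
      δ' x' = δ (p x') + c ∧ δY (q y') = δ (f (q y')) ∧ α (q y') ≠ 0 := by
    intro y' hy' hne
    obtain ⟨h1, h2⟩ := mul_ne_zero_iff.1 hne
    unfold Cyc.pullFun at h1
    by_cases hc1 : δY' y' = δY (q y') + c
    swap
    · exact absurd (if_neg hc1) h1
    rw [if_pos hc1] at h1
    have hc2 : δY' y' = δ' (f' y') := by
      by_contra h
      exact h2 (by simp [AlgebraicCycle.mapCoeff, h])
    have hq := hge (q y')
    rw [← hsqp y', hy'] at hq
    rw [hy'] at hc2
    refine ⟨by omega, ?_, left_ne_zero_of_mul h1⟩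
    rw [← hsqp y', hy']
    omega
  by_cases hx : δ' x' = δ (p x') + c
  swap
  · rw [finsum_mem_of_eqOn_zero fun y' hy' => by
      by_contra hne
      exact hx (hterm y' hy' hne).1]
    exact if_neg hx
  obtain ⟨U, hU, hxU, -⟩ := exists_isAffineOpen_mem_and_subset (x := p x') (U := (⊤ : X.Opens)) trivial
  have hS : {y : Y | f y = p x' ∧ δY y = δ (f y) ∧ α y ≠ 0}.Finite :=
    (α.locallyFiniteSupport.finite_inter_support_of_isCompact
      (QuasiCompact.isCompact_preimage (f := f) U U.2 hU.isCompact)).subset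
      fun y hy => ⟨show f y ∈ (U : Set X) by rw [hy.1]; exact hxU, hy.2.2⟩
  let S := hS.toFinset
  have hfinres : ∀ y ∈ S, (f.residueFieldMap y).hom.Finite := by
    intro y hy
    obtain ⟨-, hy2, -⟩ := hS.mem_toFinset.1 hy
    obtain ⟨n, hn, hn'⟩ := hf y
    have hn0 : n = 0 := by omega
    subst hn0
    rw [Nat.cast_zero] at hn
    letI := (f.residueFieldMap y).hom.toAlgebra
    haveI : Algebra.EssFiniteType (X.residueField (f y)) (Y.residueField y) :=
      CMFlat.essFiniteType_residueFieldMap f y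
    haveI := trdeg_eq_zero_iff.1 hn
    exact Algebra.finite_of_essFiniteType_of_isAlgebraic (F := X.residueField (f y)) (E := Y.residueField y)
  have hkey : ∀ y ∈ S, _ := fun y hy => fibre_key hpb y (hfinres y hy) x' (hS.mem_toFinset.1 hy).1.symm
  have hcoef : ∀ y', f' y' = x' → q y' ∈ S →
      Cyc.pullFun q δY' δY c ⇑α y' * (AlgebraicCycle.mapCoeff f' δY' δ' y' : ℤ) =
        α (q y') * (((fibLen q y').toNat * f'.residueDegree y' : ℕ) : ℤ) := by
    intro y' hy' hq
    obtain ⟨hq1, hq2, -⟩ := hS.mem_toFinset.1 hq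
    have h1 := (CycPull.delta_le_shift q hY' hcY y').1
    obtain ⟨n, -, hn⟩ := hf' y'
    rw [hq1] at hq2
    rw [hy'] at hn
    have hA : δY' y' = δY (q y') + c := by omega
    have hB : δY' y' = δ' (f' y') := by rw [hy']; omega
    unfold Cyc.pullFun AlgebraicCycle.mapCoeff
    rw [if_pos hA, if_pos (show δY' y' = δ' (f'.base y') from hB), Nat.cast_mul]
    exact mul_assoc _ _ _
  have hsum : ∑ᶠ y' ∈ (f' ⁻¹' {x'} : Set Y'),
      Cyc.pullFun q δY' δY c ⇑α y' * (AlgebraicCycle.mapCoeff f' δY' δ' y' : ℤ) =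
        ∑ y ∈ S, α y * (((fibLen p x').toNat * f.residueDegree y : ℕ) : ℤ) := by
    have hunion : (⋃ y ∈ (S : Set Y), {y' : Y' | q y' = y ∧ f' y' = x'}).Finite :=
      S.finite_toSet.biUnion fun y hy => (hkey y hy).1
    have hmem : ∀ y', y' ∈ hunion.toFinset ↔ q y' ∈ S ∧ f' y' = x' := fun y' => by simp
    rw [finsum_mem_eq_sum_of_subset _ (s := (f' ⁻¹' {x'} : Set Y')) (t := hunion.toFinset)
      (fun y' hy' => by
        obtain ⟨-, h2, h3⟩ := hterm y' hy'.1 hy'.2
        refine Finset.mem_coe.2 ((hmem y').2 ⟨hS.mem_toFinset.2 ⟨?_, h2, h3⟩, hy'.1⟩)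
        rw [← hsqp y', show f' y' = x' from hy'.1])
      (fun y' hy' => ((hmem y').1 (Finset.mem_coe.1 hy')).2),
      ← Finset.sum_fiberwise_of_maps_to (g := fun y' => q y') (t := S) (fun y' hy' => ((hmem y').1 hy').1)]
    refine Finset.sum_congr rfl fun y hy => ?_
    rw [← (hkey y hy).2, finsum_mem_eq_finite_toFinset_sum _ (hkey y hy).1, Nat.cast_sum, Finset.mul_sum]
    refine Finset.sum_congr ?_ fun y' hy' => ?_
    · ext y'
      rw [Finset.mem_filter, hmem, (hkey y hy).1.mem_toFinset]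
      exact ⟨fun h => ⟨h.2, h.1.2⟩, fun h => ⟨⟨h.1 ▸ hy, h.2⟩, h.1⟩⟩
    · obtain ⟨h1, h2⟩ := (Set.Finite.mem_toFinset _).1 hy'
      rw [hcoef y' h2 (h1 ▸ hy), h1]
  rw [hsum]
  show (if δ' x' = δ (p x') + c then _ * _ else 0) = _
  rw [if_pos hx]
  beta_reduce
  rw [finsum_mem_eq_sum_of_subset _ (s := (f ⁻¹' {p x'} : Set Y)) (t := S) (fun y hy => by
      refine Finset.mem_coe.2 (hS.mem_toFinset.2 ⟨hy.1, ?_, left_ne_zero_of_mul hy.2⟩)
      by_contra h
      exact hy.2 (by simp [AlgebraicCycle.mapCoeff, h]))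
    (fun y hy => (hS.mem_toFinset.1 (Finset.mem_coe.1 hy)).1), Finset.sum_mul]
  refine Finset.sum_congr rfl fun y hy => ?_
  unfold AlgebraicCycle.mapCoeff
  rw [if_pos (show δY y = δ (f.base y) from (hS.mem_toFinset.1 hy).2.1), Nat.cast_mul, fibLen]
  ring

end Groth.Agent.CycFin
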