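import Groth.Agent.CycDim.Line
import Groth.Agent.CycDim.PushVanish
import Groth.Agent.CycDim.RatBasic
import Groth.Agent.CycDim.PullRat
import Mathlib

/-!
Cycles of positive codimension on affine space over a field are rationally equivalent to zero.
-/

set_option autoImplicit false
set_option linter.style.haveILetI false
set_option backward.isDefEq.respectTransparency false

universe u

open CategoryTheory AlgebraicGeometry TopologicalSpace
open Groth.Agent.CycDeg (dl)

noncomputable section

namespace Groth.Agent.CycLine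

section Pre

variable {X Z : Scheme.{u}}

/-- Divisors of points of a locally closed subscheme. -/
theorem divFun_pre (j : Z ⟶ X) [IsPreimmersion j] (δZ : Z → ℤ) (δX : X → ℤ) (c : ℤ)
    (h : ∀ z, δX (j z) = δZ z + c) (ξ : Z) (g : X.residueField (j ξ)) (z : Z) :
    Cyc.divFun δX (j ξ) g (j z) = Cyc.divFun δZ ξ ((j.residueFieldMap ξ).hom g) z := by
  have e1 := h z
  have e2 := h ξ
  have hiff : (j ξ ⤳ j z ∧ δX (j z) + 1 = δX (j ξ)) ↔ (ξ ⤳ z ∧ δZ z + 1 = δZ ξ) := by
    rw [j.isEmbedding.isInducing.specializes_iff]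
    constructor <;> rintro ⟨a, b⟩ <;> exact ⟨a, by omega⟩
  unfold Cyc.divFun
  by_cases hh : ξ ⤳ z ∧ δZ z + 1 = δZ ξ
  · rw [dif_pos (hiff.2 hh), dif_pos hh, CycPush.ordAt_preimmersion j hh.1 g]
  · rw [dif_neg fun h' => hh (hiff.1 h'), dif_neg hh]

/-- The dimension of points is invariant under isomorphisms. -/
theorem dl_iso (e : X ⟶ Z) [IsIso e] (x : X) : dl Z (e x) = dl X x := by
  let he := e.homeomorph
  have h : topologicalKrullDim ↥(closure ({e x} : Set Z)) = topologicalKrullDim ↥(closure ({x} : Set X)) := by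
    have h1 : he '' closure ({x} : Set X) = closure ({e x} : Set Z) := by
      rw [he.image_closure, Set.image_singleton]
      rfl
    exact (IsHomeomorph.topologicalKrullDim_eq _ ((he.image _).trans (Homeomorph.setCongr h1)).isHomeomorph).symm
  simp only [dl, WeilCoh.pdim, WeilCoh.natDim, h]

/-- Rational equivalence to zero is invariant under isomorphisms. -/
theorem ratEquivZero_iso (e : X ⟶ Z) [IsIso e] {k : ℤ} {α : AlgebraicCycle X ℤ}
    (hα : Cyc.RatEquivZero (dl X) k α) {β : AlgebraicCycle Z ℤ} (hβ : ∀ x, β (e x) = α x) :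
    Cyc.RatEquivZero (dl Z) k β := by
  obtain ⟨ι, ξ, f, h1, h2, h3, h4⟩ := hα
  choose g hg using fun i => CycPush.residueFieldMap_surjective_pre e (ξ i) (f i)
  refine ⟨ι, fun i => e (ξ i), g, fun i => (dl_iso e (ξ i)).trans (h1 i),
    fun i hgi => h2 i (by rw [← hg i, hgi, map_zero]), fun z => ?_, fun z => ?_⟩
  · obtain ⟨x, rfl⟩ := e.homeomorph.surjective z
    obtain ⟨U, hU, hxU, hfin⟩ := h3 x
    refine ⟨e.homeomorph '' U, e.homeomorph.isOpenMap U hU, ⟨x, hxU, rfl⟩, hfin.subset ?_⟩
    rintro i ⟨w, hw, v, hv, rfl⟩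
    exact ⟨v, specializes_iff_mem_closure.1
      (e.homeomorph.isEmbedding.isInducing.specializes_iff.1 (specializes_iff_mem_closure.2 hw)), hv⟩
  · obtain ⟨x, rfl⟩ := e.homeomorph.surjective z
    show β (e x) = _
    rw [hβ, h4]
    refine finsum_congr fun i => ?_
    show _ = Cyc.divFun (dl Z) (e (ξ i)) (g i) (e x)
    rw [divFun_pre e (dl X) (dl Z) 0 (fun v => (dl_iso e v).trans (add_zero _).symm) (ξ i) (g i) x, hg]

end Pre

variable {K : Type u} [Field K]

/-- Points of affine space of positive codimension are rationally equivalent to zero, induction step. -/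
theorem line_pt {A : Type u} [CommRing A] [IsNoetherianRing A]
    (cX : Spec (CommRingCat.of A) ⟶ Spec (CommRingCat.of K)) [LocallyOfFiniteType cX] (r : ℤ)
    (ih : ∀ η : Spec (CommRingCat.of A), dl _ η < r → Cyc.RatEquivZero (dl _) (dl _ η) (CycRat.pt η))
    (w : Spec (CommRingCat.of (Polynomial A))) (hw : dl _ w < r + 1) :
    Cyc.RatEquivZero (dl _) (dl _ w) (CycRat.pt w) := by
  classical
  have hY := isDimFun_line cX (A := A)
  have gen_case : ∀ η : Spec (CommRingCat.of A), dl _ η < r →
      Cyc.RatEquivZero (dl _) (dl _ η + 1) (CycRat.pt (gen η)) := by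
    intro η hη
    refine CycPull.ratEquivZero_pull (proj A) hY (CycDeg.isDimFun_dl cX) (c := 1) (shift_line cX) (ih η hη)
      (funext fun x => ?_)
    rw [pullFun_pt cX, CycRat.pt_apply]
  by_cases hg : w = gen (proj A w)
  · have h := dl_gen cX (proj A w)
    rw [← hg] at h
    have := gen_case (proj A w) (by omega)
    rwa [← hg, ← h] at this
  have hdw := dl_cases cX w hg
  obtain ⟨g, hg0, hgw, hgx⟩ := exists_div cX w hg
  have hfin := CycDeg.finite_support_divFun hY (gen (proj A w)) hg0
  let D : AlgebraicCycle (Spec (CommRingCat.of (Polynomial A))) ℤ :=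
    CycLim.mkCycle (Cyc.divFun (dl _) (gen (proj A w)) g) fun {U} _ => hfin.subset fun x hx => hx.2
  have hD : Cyc.RatEquivZero (dl _) (dl _ w) D := by
    refine ⟨PUnit, fun _ => gen (proj A w), fun _ => g, fun _ => ?_, fun _ => hg0,
      fun _ => ⟨Set.univ, isOpen_univ, trivial, Set.toFinite _⟩, fun x =>
        (finsum_unique (fun _ : PUnit.{u + 1} => Cyc.divFun (dl _) (gen (proj A w)) g x)).symm⟩
    rw [dl_gen cX, hdw]
  have hR : Cyc.RatEquivZero (dl _) (dl _ w) (CycRat.pt w - D) := by
    refine CycRat.ratEquivZero_sum (hfin.toFinset.erase w) (fun j => (-(D j)) • CycRat.pt j) (fun j hj => ?_)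
      fun x => ?_
    · obtain ⟨hjw, hj'⟩ := Finset.mem_erase.1 hj
      obtain ⟨hjg, hjd⟩ := hgx j hjw (hfin.mem_toFinset.1 hj')
      have hdj := dl_gen cX (proj A j)
      rw [← hjg] at hdj
      have := gen_case (proj A j) (by omega)
      rw [← hjg] at this
      rw [show dl _ (proj A j) + 1 = dl _ w by omega] at this
      exact CycRat.ratEquivZero_smul this (-(D j)) fun x => by simp
    · have e : ∀ j x, ((-(D j)) • CycRat.pt j) x = if x = j then -(D j) else 0 := fun j x => by
        by_cases h : x = j <;> simp [CycRat.pt_apply, h]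
      simp only [e, Finset.sum_ite_eq]
      show CycRat.pt w x - D x = _
      rw [CycRat.pt_apply]
      by_cases hxw : x = w
      · subst hxw
        simp [show D x = 1 from hgw]
      · rw [if_neg hxw]
        by_cases hx : x ∈ hfin.toFinset
        · rw [if_pos (Finset.mem_erase.2 ⟨hxw, hx⟩), zero_sub]
        · rw [if_neg fun h => hx (Finset.mem_of_mem_erase h),
            show D x = 0 from not_not.1 fun h => hx (hfin.mem_toFinset.2 h), sub_zero]
  exact CycRat.ratEquivZero_add hD hR fun x => by
    show _ = D x + (CycRat.pt w x - D x)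
    ring

/-- Points of affine space of positive codimension are rationally equivalent to zero. -/
theorem affine_pt (K : Type u) [Field K] : ∀ (r : ℕ) (w : Spec (CommRingCat.of (MvPolynomial (Fin r) K))),
    dl _ w < (r : ℤ) → Cyc.RatEquivZero (dl _) (dl _ w) (CycRat.pt w) := by
  classical
  intro r
  induction r with
  | zero => intro w hw; simp only [dl] at hw; omega
  | succ r ih =>
    intro w hw
    let iso : CommRingCat.of (MvPolynomial (Fin (r + 1)) K) ≅ CommRingCat.of (Polynomial (MvPolynomial (Fin r) K)) :=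
      (MvPolynomial.finSuccEquiv K r).toRingEquiv.toCommRingCatIso
    let e := Spec.map iso.hom
    obtain ⟨v, rfl⟩ := e.homeomorph.surjective w
    change dl _ (e v) < _ at hw
    show Cyc.RatEquivZero _ (dl _ (e v)) (CycRat.pt (e v))
    rw [dl_iso e] at hw ⊢
    haveI : LocallyOfFiniteType (Spec.map (CommRingCat.ofHom (algebraMap K (MvPolynomial (Fin r) K)))) :=
      (HasRingHomProperty.Spec_iff (P := @LocallyOfFiniteType)).2
        (RingHom.finiteType_algebraMap.2 inferInstance)
    have := line_pt (Spec.map (CommRingCat.ofHom (algebraMap K (MvPolynomial (Fin r) K)))) (r : ℤ) ih v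
      (by push_cast at hw; omega)
    refine ratEquivZero_iso e this fun x => ?_
    rw [CycRat.pt_apply, CycRat.pt_apply]
    by_cases h : x = v
    · rw [h, if_pos rfl, if_pos rfl]
    · rw [if_neg h, if_neg (show ¬ e x = e v from fun h' => h (e.homeomorph.injective h'))]

end Groth.Agent.CycLine
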