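import Groth.Agent.CycDim.FiniteDiv
import Groth.Agent.CycDim.Div
import Groth.Agent.DvrDom.ClosedProper
import Mathlib

/-!
Proper push forward of principal divisors, the equidimensional case.
-/

set_option autoImplicit false
set_option linter.style.haveILetI false
set_option backward.isDefEq.respectTransparency false

universe u

open CategoryTheory AlgebraicGeometry TopologicalSpace Opposite
open Groth.Agent.C1Cap (rdu)

noncomputable section

namespace Groth.Agent.CycPush

open CycDim (delta_lt lt_of_spec eq_of_delta_le)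

variable {X Y W : Scheme.{u}}

theorem residueFieldMap_bijective (j : W ⟶ X) [IsClosedImmersion j] (w : W) :
    Function.Bijective (j.residueFieldMap w).hom := by
  refine ⟨(j.residueFieldMap w).hom.injective, fun z => ?_⟩
  obtain ⟨a, rfl⟩ : ∃ a, rdu w a = z := Ideal.Quotient.mk_surjective z
  obtain ⟨b, rfl⟩ := j.stalkMap_surjective w a
  exact ⟨rdu (j w) b, DFunLike.congr_fun (CommRingCat.hom_ext_iff.mp (Scheme.residue_residueFieldMap j w)) b⟩

/-- Orders are unchanged by closed immersions. -/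
theorem ordAt_closedImmersion (j : W ⟶ X) [IsClosedImmersion j] {ξ x : W} (h : ξ ⤳ x)
    (f : X.residueField (j ξ)) :
    Cyc.ordAt x ξ h ((j.residueFieldMap ξ).hom f) = Cyc.ordAt (j x) (j ξ) (h.map j.continuous) f := by
  let s : X.presheaf.stalk (j x) →+* W.presheaf.stalk x := (j.stalkMap x).hom
  have hs : Function.Surjective s := j.stalkMap_surjective x
  let σ : X.residueField (j ξ) ≃+* W.residueField ξ := RingEquiv.ofBijective _ (residueFieldMap_bijective j ξ)
  have hcomp : ∀ a, σ (Cyc.specMap (j x) (j ξ) (h.map j.continuous) a) = Cyc.specMap x ξ h (s a) := fun a =>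
    (DFunLike.congr_fun (CommRingCat.hom_ext_iff.mp (Scheme.residue_residueFieldMap j ξ))
      ((X.presheaf.stalkSpecializes (h.map j.continuous)).hom a)).trans
      (congrArg (W.residue ξ).hom (Scheme.Hom.stalkSpecializes_stalkMap_apply j ξ x h a))
  let e₀ : Cyc.LocQuot (j x) (j ξ) (h.map j.continuous) →+* Cyc.LocQuot x ξ h :=
    Ideal.quotientMap _ s fun a ha => by
      rw [Ideal.mem_comap, RingHom.mem_ker, ← hcomp, RingHom.mem_ker.1 ha, map_zero]
  have he₀ : Function.Bijective e₀ := by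
    refine ⟨Ideal.quotientMap_injective' fun a ha => ?_, Ideal.quotientMap_surjective hs⟩
    rw [Ideal.mem_comap, RingHom.mem_ker, ← hcomp] at ha
    exact RingHom.mem_ker.2 (σ.injective (ha.trans (map_zero σ).symm))
  exact CycDiv.ordFrac_congr (RingEquiv.ofBijective e₀ he₀) σ (fun q => by
    obtain ⟨a, rfl⟩ := Ideal.Quotient.mk_surjective q
    exact hcomp a) f

theorem isDimFun_closedImmersion (j : W ⟶ X) [IsClosedImmersion j] {δ : X → ℤ} (hδ : Cyc.IsDimFun X δ) :
    Cyc.IsDimFun W (fun w => δ (j w)) := by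
  intro a b hab hne
  have hinj := j.isClosedEmbedding.injective
  obtain ⟨h1, h2⟩ := hδ (j a) (j b) (hab.map j.continuous) fun e => hne (hinj e)
  refine ⟨h1, fun hz => h2 fun z haz hzb => ?_⟩
  obtain ⟨w, rfl⟩ : z ∈ Set.range j := haz.mem_closed j.isClosedEmbedding.isClosed_range ⟨a, rfl⟩
  rcases hz w (j.isClosedEmbedding.isInducing.specializes_iff.1 haz)
    (j.isClosedEmbedding.isInducing.specializes_iff.1 hzb) with rfl | rfl
  · exact Or.inl rfl
  · exact Or.inr rfl

theorem residueDegree_comp_closedImmersion (j : W ⟶ X) [IsClosedImmersion j] (p : X ⟶ Y) (w : W) :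
    (j ≫ p).residueDegree w = p.residueDegree (j w) := by
  let σ : X.residueField (j w) ≃+* W.residueField w := RingEquiv.ofBijective _ (residueFieldMap_bijective j w)
  letI := (p.residueFieldMap (j w)).hom.toAlgebra
  letI : Algebra (Y.residueField (p (j w))) (W.residueField w) :=
    (p.residueFieldMap (j w) ≫ j.residueFieldMap w).hom.toAlgebra
  show @Module.finrank (Y.residueField (p (j w))) (W.residueField w) _ _
    ((j ≫ p).residueFieldMap w).hom.toAlgebra.toModule = _
  rw [Scheme.residueFieldMap_comp]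
  exact (LinearEquiv.finrank_eq (AlgEquiv.ofRingEquiv (f := σ) (fun _ => rfl)).toLinearEquiv).symm

theorem normGen_comp_closedImmersion (j : W ⟶ X) [IsClosedImmersion j] (p : X ⟶ Y) (w : W)
    (f : X.residueField (j w)) :
    Cyc.normGen (j ≫ p) w ((j.residueFieldMap w).hom f) = Cyc.normGen p (j w) f := by
  let σ : X.residueField (j w) ≃+* W.residueField w := RingEquiv.ofBijective _ (residueFieldMap_bijective j w)
  letI := (p.residueFieldMap (j w)).hom.toAlgebra
  letI : Algebra (Y.residueField (p (j w))) (W.residueField w) :=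
    (p.residueFieldMap (j w) ≫ j.residueFieldMap w).hom.toAlgebra
  show @Algebra.norm (Y.residueField (p (j w))) (W.residueField w) _ _ ((j ≫ p).residueFieldMap w).hom.toAlgebra
    ((j.residueFieldMap w).hom f) = _
  rw [Scheme.residueFieldMap_comp]
  exact Algebra.norm_eq_of_algEquiv (AlgEquiv.ofRingEquiv (f := σ) (fun _ => rfl)) f

theorem sum_ord_norm_aux [IsLocallyNoetherian X] [IsLocallyNoetherian Y] (p : X ⟶ Y) [IsProper p] {δX : X → ℤ}
    {δY : Y → ℤ} (hX : Cyc.IsDimFun X δX) (hY : Cyc.IsDimFun Y δY) (hδ : Cyc.DeltaCompat p δX δY) (j : W ⟶ X)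
    [IsClosedImmersion j] [IsIntegral W] (ξ : X) (hj : j (genericPoint W) = ξ)
    (hξ : δX ξ = δY (p ξ)) {y : Y} (hs : p ξ ⤳ y) (hy : δY y + 1 = δY (p ξ)) (f : X.residueField ξ) (hf : f ≠ 0) :
    ∑ᶠ x : {x : X // p x = y ∧ ξ ⤳ x}, (p.residueDegree x.1 : ℤ) * Cyc.ordAt x.1 ξ x.2.2 f =
      Cyc.ordAt y (p ξ) hs (Cyc.normGen p ξ f) := by
  classical
  subst hj
  have hr : Set.range j = closure {j (genericPoint W)} := by
    rw [← Set.image_singleton, j.isClosedEmbedding.closure_image_eq, genericPoint_closure, Set.image_univ]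
  haveI : IsLocallyNoetherian W := LocallyOfFiniteType.isLocallyNoetherian j
  let g : W ⟶ Y := j ≫ p
  have hspec : ∀ w, j (genericPoint W) ⤳ j w := fun w => (genericPoint_specializes w).map j.continuous
  have hlow : ∀ w, g w = y → δY y ≤ δX (j w) := by
    intro w hw
    obtain ⟨n, -, hn⟩ := hδ (j w)
    rw [show p (j w) = y from hw] at hn
    omega
  have hup : ∀ w, g w = y → δX (j w) + 1 = δX (j (genericPoint W)) ∧ δX (j w) = δY y := by
    intro w hw
    have hne : j (genericPoint W) ≠ j w := fun e => by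
      have : p (j (genericPoint W)) = y := by rw [e]; exact hw
      rw [this] at hy
      omega
    have := delta_lt hX (lt_of_spec (hspec w) hne)
    have := hlow w hw
    constructor <;> omega
  obtain ⟨V₀, hV₀, hyV₀, -⟩ := exists_isAffineOpen_mem_and_subset (x := y) (U := (⊤ : Y.Opens)) trivial
  have hfin : (g ⁻¹' {y}).Finite := by
    have hK : IsCompact (g ⁻¹' (V₀ : Set Y)) := QuasiCompact.isCompact_preimage (f := g) _ V₀.2 hV₀.isCompact
    choose O hO hxO using fun w : W => exists_isAffineOpen_mem_and_subset (x := w) (U := (⊤ : W.Opens)) trivial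
    obtain ⟨t, ht⟩ := hK.elim_finite_subcover (fun w => (O w : Set W)) (fun w => (O w).2)
      fun w _ => Set.mem_iUnion.2 ⟨w, (hxO w).1⟩
    refine (t.finite_toSet.biUnion fun w _ =>
      CycDiv.finite_maximal (isClosed_closure.preimage g.continuous (t := closure ({y} : Set Y))) (hO w)).subset ?_
    intro w (hw : g w = y)
    obtain ⟨v, hv, hwv⟩ := Set.mem_iUnion₂.1 (ht (show g w ∈ V₀ by rw [hw]; exact hyV₀))
    refine Set.mem_biUnion hv ⟨hwv, show g w ∈ closure {y} from hw ▸ subset_closure rfl, fun v' hv' hv'w => ?_⟩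
    have hgv : g v' = y :=
      ((hv'w.map g.continuous).antisymm (hw.symm ▸ specializes_iff_mem_closure.2 hv')).eq.trans hw
    exact j.isClosedEmbedding.injective
      (eq_of_delta_le hX (hv'w.map j.continuous) (by rw [(hup v' hgv).2, (hup w hw).2]))
  obtain ⟨V₁, hyV₁, hV₁⟩ := exists_isFinite_morphismRestrict_of_finite_preimage_singleton g y hfin
  obtain ⟨V, hV, hyV, hVV₁⟩ := exists_isAffineOpen_mem_and_subset (x := y) (U := V₁) hyV₁
  haveI : IsFinite (g ∣_ V) := by
    have h1 : IsFinite (g ∣_ V₁ ∣_ (V₁.ι ⁻¹ᵁ V)) := IsZariskiLocalAtTarget.restrict hV₁ _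
    have e : V₁.ι ''ᵁ (V₁.ι ⁻¹ᵁ V) = V := by
      rw [Scheme.Hom.image_preimage_eq_opensRange_inf, Scheme.Opens.opensRange_ι]
      exact inf_eq_right.2 hVV₁
    exact e ▸ ((MorphismProperty.arrow_mk_iso_iff @IsFinite (morphismRestrictRestrict g V₁ (V₁.ι ⁻¹ᵁ V))).1 h1)
  have core := sum_ord_finite g (isDimFun_closedImmersion j hX) hY hV hyV hs hy hξ hlow
    ((j.residueFieldMap (genericPoint W)).hom f)
    ((map_ne_zero (j.residueFieldMap (genericPoint W)).hom).2 hf)
  rw [normGen_comp_closedImmersion] at core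
  refine Eq.trans ?_ core
  refine (finsum_eq_of_bijective (fun w : {w : W // g w = y} => (⟨j w.1, w.2, hspec w.1⟩ :
    {x : X // p x = y ∧ j (genericPoint W) ⤳ x})) ⟨fun a b h => Subtype.ext
      (j.isClosedEmbedding.injective (congrArg (fun w : {x : X // p x = y ∧ j (genericPoint W) ⤳ x} => w.1) h)),
    fun x => ?_⟩ fun w => ?_).symm
  · obtain ⟨w, hw⟩ : x.1 ∈ Set.range j := by rw [hr]; exact specializes_iff_mem_closure.1 x.2.2
    exact ⟨⟨w, show p (j w) = y by rw [hw]; exact x.2.1⟩, Subtype.ext hw⟩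
  · rw [residueDegree_comp_closedImmersion, ordAt_closedImmersion]

/-- The sum of the orders along the points over `y` weighted by residue degrees is the order of the norm. -/
theorem sum_ord_norm [IsLocallyNoetherian X] [IsLocallyNoetherian Y] (p : X ⟶ Y) [IsProper p] {δX : X → ℤ}
    {δY : Y → ℤ} (hX : Cyc.IsDimFun X δX) (hY : Cyc.IsDimFun Y δY) (hδ : Cyc.DeltaCompat p δX δY) (ξ : X)
    (hξ : δX ξ = δY (p ξ)) {y : Y} (hs : p ξ ⤳ y) (hy : δY y + 1 = δY (p ξ)) (f : X.residueField ξ) (hf : f ≠ 0) :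
    ∑ᶠ x : {x : X // p x = y ∧ ξ ⤳ x}, (p.residueDegree x.1 : ℤ) * Cyc.ordAt x.1 ξ x.2.2 f =
      Cyc.ordAt y (p ξ) hs (Cyc.normGen p ξ f) := by
  let Z : Closeds X := ⟨closure {ξ}, isClosed_closure⟩
  let j := (Scheme.IdealSheafData.vanishingIdeal Z).subschemeι
  haveI : IsReduced (Scheme.IdealSheafData.vanishingIdeal Z).subscheme := DvrDom.isReduced_vanishingIdeal_subscheme _
  have hr : Set.range j = closure {ξ} := DvrDom.range_vanishingIdeal_subschemeι Z
  obtain ⟨w₀, hw₀⟩ : ξ ∈ Set.range j := hr ▸ subset_closure rfl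
  have hgen : closure ({w₀} : Set (Scheme.IdealSheafData.vanishingIdeal Z).subscheme) = Set.univ := by
    refine Set.eq_univ_of_forall fun w => specializes_iff_mem_closure.1 ?_
    refine j.isClosedEmbedding.isInducing.specializes_iff.1 (specializes_iff_mem_closure.2 ?_)
    rw [hw₀, ← hr]; exact ⟨w, rfl⟩
  haveI : IrreducibleSpace ↥(Scheme.IdealSheafData.vanishingIdeal Z).subscheme :=
    (irreducibleSpace_def _).2 (by rw [Set.top_eq_univ, ← hgen]; exact isIrreducible_singleton.closure)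
  haveI : IsIntegral (Scheme.IdealSheafData.vanishingIdeal Z).subscheme := isIntegral_of_irreducibleSpace_of_isReduced _
  have hg0 : genericPoint ↥(Scheme.IdealSheafData.vanishingIdeal Z).subscheme = w₀ :=
    (genericPoint_spec _).eq (hgen : IsGenericPoint w₀ Set.univ)
  exact sum_ord_norm_aux p hX hY hδ j ξ (by rw [hg0, hw₀]) hξ hs hy f hf

/-- Coefficients of the push forward of a principal divisor, equidimensional case. -/
theorem pushFun_divFun [IsLocallyNoetherian X] [IsLocallyNoetherian Y] (p : X ⟶ Y) [IsProper p] {δX : X → ℤ}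
    {δY : Y → ℤ} (hX : Cyc.IsDimFun X δX) (hY : Cyc.IsDimFun Y δY) (hδ : Cyc.DeltaCompat p δX δY) (ξ : X)
    (hξ : δX ξ = δY (p ξ)) (f : X.residueField ξ) (hf : f ≠ 0) (y : Y) :
    ∑ᶠ x ∈ (p ⁻¹' {y} : Set X), Cyc.divFun δX ξ f x * (AlgebraicCycle.mapCoeff p δX δY x : ℤ) =
      Cyc.divFun δY (p ξ) (Cyc.normGen p ξ f) y := by
  classical
  unfold Cyc.divFun AlgebraicCycle.mapCoeff
  by_cases hy : p ξ ⤳ y ∧ δY y + 1 = δY (p ξ)
  swap
  · rw [dif_neg hy]
    refine finsum_eq_zero_of_forall_eq_zero fun x => ?_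
    rw [finsum_eq_if]
    split
    swap
    · rfl
    next hx =>
    have hxy : p x = y := hx
    by_cases h : ξ ⤳ x ∧ δX x + 1 = δX ξ
    · rw [if_neg fun hw : δX x = δY (p x) => hy ⟨hxy ▸ h.1.map p.continuous, by rw [← hxy]; omega⟩]
      simp
    · rw [dif_neg h, zero_mul]
  rw [dif_pos hy, ← sum_ord_norm p hX hY hδ ξ hξ hy.1 hy.2 f hf]
  let G : X → ℤ := fun x => (if h : ξ ⤳ x ∧ δX x + 1 = δX ξ then Cyc.ordAt x ξ h.1 f else 0) *
    ((if δX x = δY (p x) then p.residueDegree x else 0 : ℕ) : ℤ)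
  have hG : ∀ x : {x : X // p x = y ∧ ξ ⤳ x},
      (p.residueDegree x.1 : ℤ) * Cyc.ordAt x.1 ξ x.2.2 f = G x.1 := by
    intro x
    have hne : ξ ≠ x.1 := fun e => by
      have : p ξ = y := by rw [e]; exact x.2.1
      rw [this] at hy
      omega
    have h1 := delta_lt hX (lt_of_spec x.2.2 hne)
    obtain ⟨n, -, hn⟩ := hδ x.1
    rw [x.2.1] at hn
    show _ = (if h : ξ ⤳ x.1 ∧ δX x.1 + 1 = δX ξ then Cyc.ordAt x.1 ξ h.1 f else 0) *
      ((if δX x.1 = δY (p x.1) then p.residueDegree x.1 else 0 : ℕ) : ℤ)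
    rw [dif_pos ⟨x.2.2, by omega⟩, if_pos (by rw [x.2.1]; omega), mul_comm]
  rw [finsum_congr hG, finsum_subtype_eq_finsum_cond (f := G) fun x => p x = y ∧ ξ ⤳ x]
  refine finsum_congr fun x => ?_
  rw [finsum_eq_if, finsum_eq_if]
  by_cases hx : p x = y
  · by_cases hsp : ξ ⤳ x
    · rw [if_pos (show x ∈ p ⁻¹' {y} from hx), if_pos (show p x = y ∧ ξ ⤳ x from ⟨hx, hsp⟩)]
    · rw [if_pos (show x ∈ p ⁻¹' {y} from hx), if_neg (fun h : p x = y ∧ ξ ⤳ x => hsp h.2),
        dif_neg (fun h : ξ ⤳ x ∧ δX x + 1 = δX ξ => hsp h.1), zero_mul]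
  · rw [if_neg (show ¬ x ∈ p ⁻¹' {y} from hx), if_neg (fun h : p x = y ∧ ξ ⤳ x => hx h.1)]

end Groth.Agent.CycPush
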