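import Groth.Agent.CycDim.PushLength
import Groth.Agent.CycDim.PushDiv
import Groth.Agent.HurwitzAlg.Chart
import Groth.Agent.KFlat.ClosedImm
import Groth.Agent.RefStalk.Eval
import Groth.Agent.ClSubLib.AnnIdeal
import Groth.Agent.ClSubLib.EssSurj
import Mathlib

/-!
Push forward of the cycle of a coherent module along a proper morphism.
-/

set_option autoImplicit false
set_option linter.style.haveILetI false
set_option backward.isDefEq.respectTransparency false

universe u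

open CategoryTheory AlgebraicGeometry TopologicalSpace Opposite

noncomputable section

namespace Groth.Agent.CycSheafPush

open Groth.Agent.CycDim (lenAt)

variable {X Y Z : Scheme.{u}}

theorem length_stalk_congr {F G : X.Modules} (e : F ≅ G) (x : X) :
    Module.length (X.presheaf.stalk x) (F.presheaf.stalk x) = Module.length (X.presheaf.stalk x) (G.presheaf.stalk x) :=
  ((DerSch.stalkFunctor X x).mapIso e).toLinearEquiv.length_eq

theorem length_stalk_push (i : Z ⟶ X) [IsClosedImmersion i] (G : Z.Modules) (z : Z) :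
    Module.length (X.presheaf.stalk (i z)) (((Coh.push i).obj G).presheaf.stalk (i z)) =
      Module.length (Z.presheaf.stalk z) (G.presheaf.stalk z) := by
  let σ : X.presheaf.stalk (i z) →+* Z.presheaf.stalk z := (i.stalkMap z).hom
  haveI : RingHomSurjective σ := ⟨i.stalkMap_surjective z⟩
  let f : ↥(((Coh.push i).obj G).presheaf.stalk (i z)) →ₛₗ[σ] ↥(G.presheaf.stalk z) :=
    { toFun := Groth.Agent.KFlat.pushStalk i z G
      map_add' := map_add (Groth.Agent.KFlat.pushStalk i z G)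
      map_smul' := Groth.Agent.KFlat.pushStalk_smul i z G }
  have hf : Function.Bijective f := Groth.Agent.KFlat.pushStalk_bijective i z G
  rw [Module.length, Module.length, WithBot.unbot_inj,
    Order.krullDim_eq_of_orderIso (Submodule.orderIsoMapComapOfBijective f hf)]

theorem lenAt_sections {V : Y.Opens} (hV : IsAffineOpen V) {M : Y.Modules} (hM : Coh.IsQCoh M) {y : Y} (hy : y ∈ V) :
    lenAt (hV.primeIdealOf ⟨y, hy⟩) Γ(M, V) = Module.length (Y.presheaf.stalk y) (M.presheaf.stalk y) := by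
  letI := Module.compHom (M.presheaf.stalk y) (Y.presheaf.germ V y hy).hom
  letI := (Y.presheaf.germ V y hy).hom.toAlgebra
  haveI := hV.isLocalization_stalk ⟨y, hy⟩
  haveI : IsScalarTower Γ(Y, V) (Y.presheaf.stalk y) (M.presheaf.stalk y) :=
    ⟨fun a c m => mul_smul ((Y.presheaf.germ V y hy).hom a) c m⟩
  obtain ⟨φ, hφ, -⟩ := Groth.Agent.RefStalk.exists_loc hV hM hy
  haveI := hφ
  exact Groth.Agent.CycNorm.lenAt_eq_length _ (Y.presheaf.stalk y) φ

section Chart

variable (g : Z ⟶ Y) {V : Y.Opens} (hV : IsAffineOpen V)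

theorem fromSpec_comap (hU : IsAffineOpen (g ⁻¹ᵁ V)) (Q : PrimeSpectrum Γ(Z, g ⁻¹ᵁ V)) :
    g (hU.fromSpec Q) = hV.fromSpec (PrimeSpectrum.comap (g.app V).hom Q) := by
  have h := congrArg (fun φ : Spec Γ(Z, g ⁻¹ᵁ V) ⟶ Y => φ Q) (hV.SpecMap_appLE_fromSpec g hU (le_refl _))
  rw [← Scheme.Hom.app_eq_appLE] at h
  exact h.symm

theorem comap_primeIdealOf (hU : IsAffineOpen (g ⁻¹ᵁ V)) {z : Z} (hz : g z ∈ V) :
    PrimeSpectrum.comap (g.app V).hom (hU.primeIdealOf ⟨z, hz⟩) = hV.primeIdealOf ⟨g z, hz⟩ := by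
  apply hV.fromSpec.isOpenEmbedding.injective
  rw [← fromSpec_comap g hV hU, hU.fromSpec_primeIdealOf, hV.fromSpec_primeIdealOf]

theorem lenAt_point (hU : IsAffineOpen (g ⁻¹ᵁ V)) (hfin : (g.app V).hom.Finite) {z : Z} (hz : g z ∈ V) :
    letI := (g.app V).hom.toAlgebra
    lenAt (hV.primeIdealOf ⟨g z, hz⟩) (Γ(Z, g ⁻¹ᵁ V) ⧸ (hU.primeIdealOf ⟨z, hz⟩).asIdeal) =
      g.residueDegree z := by
  letI := (g.app V).hom.toAlgebra
  haveI : Module.Finite Γ(Y, V) Γ(Z, g ⁻¹ᵁ V) := hfin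
  letI := (Y.presheaf.germ V (g z) hz).hom.toAlgebra
  haveI := hV.isLocalization_stalk ⟨g z, hz⟩
  letI algK : Algebra (Y.residueField (g z)) (Z.residueField z) := (g.residueFieldMap z).hom.toAlgebra
  letI algR : Algebra (Y.presheaf.stalk (g z)) (Z.residueField z) :=
    (Y.residue (g z) ≫ g.residueFieldMap z).hom.toAlgebra
  letI algq : Algebra (Y.presheaf.stalk (g z)) (Y.residueField (g z)) := (Y.residue (g z)).hom.toAlgebra
  haveI : IsScalarTower (Y.presheaf.stalk (g z)) (Y.residueField (g z)) (Z.residueField z) :=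
    IsScalarTower.of_algebraMap_eq fun _ => rfl
  obtain ⟨h1, h2⟩ := Groth.Agent.CycNorm.lenAt_quot_eq_length (hV.primeIdealOf ⟨g z, hz⟩)
    (hU.primeIdealOf ⟨z, hz⟩) (congrArg PrimeSpectrum.asIdeal (comap_primeIdealOf g hV hU hz))
    (Y.presheaf.stalk (g z)) (Z.residueField z) (Groth.Agent.HurwitzAlg.evalRes (U := g ⁻¹ᵁ V) hz)
    (Groth.Agent.HurwitzAlg.ker_evalRes hU hz) (fun a => by
      show (g.residueFieldMap z).hom ((Y.residue (g z)).hom ((Y.presheaf.germ V (g z) hz).hom a)) =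
        (Z.residue z).hom ((Z.presheaf.germ (g ⁻¹ᵁ V) z hz).hom ((g.app V).hom a))
      rw [← Scheme.Hom.germ_stalkMap_apply g V z hz a]
      exact congrArg (fun φ : Y.presheaf.stalk (g z) ⟶ Z.residueField z => φ.hom ((Y.presheaf.germ V (g z) hz).hom a))
        (Scheme.residue_residueFieldMap g z))
    (fun t => by
      obtain ⟨o, rfl⟩ : ∃ o, (Z.residue z).hom o = t := Ideal.Quotient.mk_surjective t
      letI := (Z.presheaf.germ (g ⁻¹ᵁ V) z hz).hom.toAlgebra
      haveI := hU.isLocalization_stalk ⟨z, hz⟩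
      obtain ⟨⟨b, c⟩, hbc⟩ := IsLocalization.surj (hU.primeIdealOf ⟨z, hz⟩).asIdeal.primeCompl o
      refine ⟨b, c, c.2, ?_⟩
      have hc : Groth.Agent.HurwitzAlg.evalRes (U := g ⁻¹ᵁ V) hz (c : Γ(Z, g ⁻¹ᵁ V)) ≠ 0 := fun h0 => c.2 <| by
        have := RingHom.mem_ker.2 h0
        rwa [Groth.Agent.HurwitzAlg.ker_evalRes hU hz] at this
      rw [eq_div_iff hc]
      exact ((Z.residue z).hom.map_mul _ _).symm.trans (congrArg (Z.residue z).hom hbc))
  haveI := h2
  haveI : Module.Finite (Y.residueField (g z)) (Z.residueField z) :=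
    Module.Finite.of_restrictScalars_finite (Y.presheaf.stalk (g z)) _ _
  rw [h1, Module.length_eq_of_surjective (R := Y.residueField (g z)) (S := Y.presheaf.stalk (g z))
    Ideal.Quotient.mk_surjective, Module.length_eq_finrank]
  rfl

/-- The length of a push forward along a finite morphism. -/
theorem toNat_length_push [IsLocallyNoetherian Z] [QuasiCompact g] [QuasiSeparated g] {G : Z.Modules}
    (hG : Coh.IsCoh G) (hV : IsAffineOpen V) (hU : IsAffineOpen (g ⁻¹ᵁ V)) (hfin : (g.app V).hom.Finite) {y : Y}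
    (hy : y ∈ V) (hF : (g ⁻¹' {y} : Set Z).Finite) (hdeep : ∀ z, g z ⤳ y → g z = y) :
    ((Module.length (Y.presheaf.stalk y) (((Coh.push g).obj G).presheaf.stalk y)).toNat : ℤ) =
      ∑ z ∈ hF.toFinset, (g.residueDegree z : ℤ) *
        ((Module.length (Z.presheaf.stalk z) (G.presheaf.stalk z)).toNat : ℤ) := by
  classical
  letI := (g.app V).hom.toAlgebra
  haveI : Module.Finite Γ(Y, V) Γ(Z, g ⁻¹ᵁ V) := hfin
  haveI : IsNoetherianRing Γ(Z, g ⁻¹ᵁ V) := IsLocallyNoetherian.component_noetherian ⟨g ⁻¹ᵁ V, hU⟩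
  haveI : Module.Finite Γ(Z, g ⁻¹ᵁ V) Γ(G, g ⁻¹ᵁ V) := Groth.Agent.QC.finite_sections hU hG.2 (hM := hG.1)
  letI : Module Γ(Y, V) Γ(G, g ⁻¹ᵁ V) := Module.compHom _ (g.app V).hom
  haveI : IsScalarTower Γ(Y, V) Γ(Z, g ⁻¹ᵁ V) Γ(G, g ⁻¹ᵁ V) :=
    IsScalarTower.of_algebraMap_smul fun _ _ => rfl
  haveI := hG.1
  have hP : Coh.IsQCoh ((Coh.push g).obj G) := Groth.Agent.QC.isQCoh_pushforward g
  have e₀ : Γ((Coh.push g).obj G, V) ≃ₗ[Γ(Y, V)] Γ(G, g ⁻¹ᵁ V) :=
    { AddEquiv.refl Γ(G, g ⁻¹ᵁ V) with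
      map_smul' := fun _ _ => rfl }
  have hmem : ∀ z ∈ hF.toFinset, g z ∈ V := fun z hz => by rw [(hF.mem_toFinset.1 hz : g z = y)]; exact hy
  let φ : {z // z ∈ hF.toFinset} → PrimeSpectrum Γ(Z, g ⁻¹ᵁ V) := fun z => hU.primeIdealOf ⟨z.1, hmem z.1 z.2⟩
  let T := hF.toFinset.attach.image φ
  have hback : ∀ Q : PrimeSpectrum Γ(Z, g ⁻¹ᵁ V), g (hU.fromSpec Q) ⤳ y → hU.fromSpec Q ∈ hF.toFinset ∧
      Q.asIdeal.comap (algebraMap Γ(Y, V) Γ(Z, g ⁻¹ᵁ V)) = (hV.primeIdealOf ⟨y, hy⟩).asIdeal := by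
    intro Q h
    have hy' := hdeep _ h
    refine ⟨hF.mem_toFinset.2 hy', congrArg PrimeSpectrum.asIdeal (?_ : PrimeSpectrum.comap (g.app V).hom Q = _)⟩
    apply hV.fromSpec.isOpenEmbedding.injective
    rw [← fromSpec_comap g hV hU, hy', hV.fromSpec_primeIdealOf]
  have hspec : ∀ Q : PrimeSpectrum Γ(Z, g ⁻¹ᵁ V),
      Q.asIdeal.comap (algebraMap Γ(Y, V) Γ(Z, g ⁻¹ᵁ V)) ≤ (hV.primeIdealOf ⟨y, hy⟩).asIdeal →
        g (hU.fromSpec Q) ⤳ y := by
    intro Q h
    rw [fromSpec_comap g hV hU]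
    have := ((PrimeSpectrum.le_iff_specializes (PrimeSpectrum.comap (g.app V).hom Q)
      (hV.primeIdealOf ⟨y, hy⟩)).1 h).map hV.fromSpec.continuous
    rwa [hV.fromSpec_primeIdealOf] at this
  have hT : ∀ Q : PrimeSpectrum Γ(Z, g ⁻¹ᵁ V),
      Q ∈ T ↔ Q.asIdeal.comap (algebraMap Γ(Y, V) Γ(Z, g ⁻¹ᵁ V)) = (hV.primeIdealOf ⟨y, hy⟩).asIdeal := by
    intro Q
    constructor
    · intro hQ
      obtain ⟨⟨z, hz⟩, -, rfl⟩ := Finset.mem_image.1 hQ
      refine (hback _ ?_).2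
      rw [hU.fromSpec_primeIdealOf]
      rw [(hF.mem_toFinset.1 hz : g z = y)]
    · intro hQ
      have h := (hback Q (hspec Q hQ.le)).1
      refine Finset.mem_image.2 ⟨⟨_, h⟩, Finset.mem_attach _ _, ?_⟩
      apply hU.fromSpec.isOpenEmbedding.injective
      exact hU.fromSpec_primeIdealOf _
  obtain ⟨hsum, hne⟩ := Groth.Agent.CycNorm.lenAt_eq_sum (hV.primeIdealOf ⟨y, hy⟩)
    (fun Q h => (hback Q (hspec Q h)).2) T hT Γ(G, g ⁻¹ᵁ V)
  rw [← Groth.Agent.CycNorm.lenAt_congr' (hV.primeIdealOf ⟨y, hy⟩) e₀, lenAt_sections hV hP hy] at hsum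
  have hinj : Function.Injective φ := fun a b h => Subtype.ext <| by
    have := congrArg hU.fromSpec h
    rwa [hU.fromSpec_primeIdealOf, hU.fromSpec_primeIdealOf] at this
  rw [Finset.sum_image hinj.injOn] at hsum
  have hterm : ∀ z : {z // z ∈ hF.toFinset},
      lenAt (hV.primeIdealOf ⟨y, hy⟩) (Γ(Z, g ⁻¹ᵁ V) ⧸ (φ z).asIdeal) = g.residueDegree z.1 := fun z => by
    have h : (⟨y, hy⟩ : V) = ⟨g z.1, hmem z.1 z.2⟩ := Subtype.ext (hF.mem_toFinset.1 z.2 : g z.1 = y).symm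
    rw [h]
    exact lenAt_point g hV hU hfin (hmem z.1 z.2)
  rw [hsum, ENat.toNat_sum, Nat.cast_sum, ← Finset.sum_attach hF.toFinset]
  · refine Finset.sum_congr rfl fun z _ => ?_
    rw [hterm z, ENat.toNat_mul, ENat.toNat_natCast, Nat.cast_mul,
      lenAt_sections hU hG.1 (hmem z.1 z.2)]
  · intro z _
    refine WithTop.mul_ne_top (by rw [hterm z]; exact ENat.coe_ne_top _) (hne _ ?_)
    exact Finset.mem_image.2 ⟨z, Finset.mem_attach _ _, rfl⟩

end Chart

theorem finite_app_of_restrict (g : Z ⟶ Y) {V : Y.Opens} (hV : IsAffineOpen V) [IsFinite (g ∣_ V)] :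
    IsAffineOpen (g ⁻¹ᵁ V) ∧ (g.app V).hom.Finite := by
  haveI : IsAffine (V : Scheme.{u}) := hV
  refine ⟨isAffine_of_isAffineHom (g ∣_ V), ?_⟩
  have h := IsFinite.finite_app (g ∣_ V) ⊤ (isAffineOpen_top (V : Scheme.{u}))
  rw [morphismRestrict_app] at h
  have key : ∀ V' : Y.Opens, V' = V → (g.app V').hom.Finite → (g.app V).hom.Finite := by
    rintro _ rfl h; exact h
  refine key _ (Scheme.Opens.ι_image_top V) ?_
  let m := eqToHom (image_morphismRestrict_preimage g V ⊤)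
  have h2 := RingHom.Finite.comp (g := (inv (Z.presheaf.map m.op)).hom)
    (RingHom.Finite.of_surjective _ (ConcreteCategory.bijective_of_isIso (inv (Z.presheaf.map m.op))).2) h
  rwa [← CommRingCat.hom_comp, Category.assoc, IsIso.hom_inv_id, Category.comp_id] at h2

theorem map_sheafFun [IsLocallyNoetherian X] (f : X ⟶ Y) [IsProper f] {δX : X → ℤ} {δY : Y → ℤ}
    (hX : Cyc.IsDimFun X δX) (hY : Cyc.IsDimFun Y δY) (hδ : Cyc.DeltaCompat f δX δY) (k : ℤ) (F : X.Modules)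
    (hF : Coh.IsCoh F) (hdim : ∀ x : X, Nontrivial (F.presheaf.stalk x) → δX x ≤ k) (α : AlgebraicCycle X ℤ)
    (hα : ⇑α = Cyc.sheafFun δX k F) :
    ⇑(AlgebraicCycle.map f δX δY α) = Cyc.sheafFun δY k ((Coh.push f).obj F) := by
  classical
  let J := ClSubLib.annIdeal F hF.1 hF.2
  have hk : ClSub.KilledByIdeal J.subschemeι.ker F := by
    rw [Scheme.IdealSheafData.ker_subschemeι]; exact ClSubLib.killedBy_annIdeal F hF.1 hF.2
  obtain ⟨G, hG, ⟨e⟩⟩ := ClSubLib.exists_pushforward_iso J.subschemeι F hF hk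
  let i := J.subschemeι
  haveI : IsLocallyNoetherian J.subscheme := LocallyOfFiniteType.isLocallyNoetherian i
  let g : J.subscheme ⟶ Y := i ≫ f
  let e' : (Coh.push f).obj F ≅ (Coh.push g).obj G :=
    ((Scheme.Modules.pushforward f).mapIso e.symm) ≪≫ (Scheme.Modules.pushforwardComp i f).app G
  have hlenX : ∀ z, Module.length (X.presheaf.stalk (i z)) (F.presheaf.stalk (i z)) =
      Module.length (J.subscheme.presheaf.stalk z) (G.presheaf.stalk z) := fun z =>
    (length_stalk_congr e.symm (i z)).trans (length_stalk_push i G z)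
  have hrange : Set.range i = CohB1.support F := ClSubLib.range_annIdeal F hF.1 hF.2
  have hle : ∀ z, δX (i z) ≤ k := fun z => hdim _ <| by
    rw [← not_subsingleton_iff_nontrivial]
    exact (hrange.le ⟨z, rfl⟩ : i z ∈ CohB1.support F)
  funext y
  show ∑ᶠ x ∈ f ⁻¹' {y}, α x * ((AlgebraicCycle.mapCoeff f δX δY x : ℕ) : ℤ) = _
  rw [hα]
  have hout : ∀ x, x ∉ Set.range i → Cyc.sheafFun δX k F x = 0 := fun x hx => by
    rw [hrange] at hx
    haveI : Subsingleton (F.presheaf.stalk x) := not_not.1 hx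
    rw [Cyc.sheafFun, Module.length_eq_zero]
    split <;> rfl
  rw [finsum_mem_inter_support_eq' _ (f ⁻¹' {y}) (i '' (g ⁻¹' {y})) (fun x hx => ⟨fun hxy => by
    by_cases hr : x ∈ Set.range i
    · obtain ⟨z, rfl⟩ := hr
      exact ⟨z, hxy, rfl⟩
    · exact absurd (show Cyc.sheafFun δX k F x * ((AlgebraicCycle.mapCoeff f δX δY x : ℕ) : ℤ) = 0 by
        rw [hout x hr, zero_mul]) hx, by rintro ⟨z, hz, rfl⟩; exact hz⟩),
    finsum_mem_image i.isClosedEmbedding.injective.injOn]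
  by_cases hyk : δY y = k
  swap
  · rw [Cyc.sheafFun, if_neg hyk]
    refine finsum_mem_eq_zero_of_forall_eq_zero fun z hz => ?_
    have hgz : f (i z) = y := hz
    unfold Cyc.sheafFun AlgebraicCycle.mapCoeff
    by_cases h : δX (i z) = k
    · rw [show f.base (i z) = y from hgz, if_neg (fun e : δX (i z) = δY y => hyk (e.symm.trans h))]
      simp
    · rw [if_neg h, zero_mul]
  have hpt : ∀ z, g z ⤳ y → g z = y := fun z hz => by
    by_contra hne
    have := (hY (g z) y hz hne).1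
    obtain ⟨n, -, hn⟩ := hδ (i z)
    have := hle z
    rw [show f (i z) = g z from rfl] at hn
    omega
  have hδz : ∀ z, g z = y → δX (i z) = k := fun z hz => by
    obtain ⟨n, -, hn⟩ := hδ (i z)
    have := hle z
    rw [show f (i z) = y from hz] at hn
    omega
  obtain ⟨V₀, hV₀, hyV₀, -⟩ := exists_isAffineOpen_mem_and_subset (x := y) (U := (⊤ : Y.Opens)) trivial
  have hF' : (g ⁻¹' {y} : Set J.subscheme).Finite := by
    have hK : IsCompact (g ⁻¹' (V₀ : Set Y)) := QuasiCompact.isCompact_preimage (f := g) _ V₀.2 hV₀.isCompact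
    choose O hO hxO using fun w : J.subscheme =>
      exists_isAffineOpen_mem_and_subset (x := w) (U := (⊤ : J.subscheme.Opens)) trivial
    obtain ⟨t, ht⟩ := hK.elim_finite_subcover (fun w => (O w : Set J.subscheme)) (fun w => (O w).2)
      fun w _ => Set.mem_iUnion.2 ⟨w, (hxO w).1⟩
    refine (t.finite_toSet.biUnion fun w _ => Groth.Agent.CycDiv.finite_maximal
      (isClosed_closure.preimage g.continuous (t := closure ({y} : Set Y))) (hO w)).subset ?_
    intro w (hw : g w = y)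
    obtain ⟨v, hv, hwv⟩ := Set.mem_iUnion₂.1 (ht (show g w ∈ V₀ by rw [hw]; exact hyV₀))
    refine Set.mem_biUnion hv ⟨hwv, show g w ∈ closure {y} from hw ▸ subset_closure rfl, fun v' hv' hv'w => ?_⟩
    have hgv : g v' = y :=
      ((hv'w.map g.continuous).antisymm (hw.symm ▸ specializes_iff_mem_closure.2 hv')).eq.trans hw
    exact i.isClosedEmbedding.injective
      (CycDim.eq_of_delta_le hX (hv'w.map i.continuous) (by rw [hδz v' hgv, hδz w hw]))
  obtain ⟨V₁, hyV₁, hV₁⟩ := exists_isFinite_morphismRestrict_of_finite_preimage_singleton g y hF'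
  obtain ⟨V, hV, hyV, hVV₁⟩ := exists_isAffineOpen_mem_and_subset (x := y) (U := V₁) hyV₁
  haveI : IsFinite (g ∣_ V) := by
    have h1 : IsFinite (g ∣_ V₁ ∣_ (V₁.ι ⁻¹ᵁ V)) := IsZariskiLocalAtTarget.restrict hV₁ _
    have e : V₁.ι ''ᵁ (V₁.ι ⁻¹ᵁ V) = V := by
      rw [Scheme.Hom.image_preimage_eq_opensRange_inf, Scheme.Opens.opensRange_ι]
      exact inf_eq_right.2 hVV₁
    exact e ▸ ((MorphismProperty.arrow_mk_iso_iff @IsFinite (morphismRestrictRestrict g V₁ (V₁.ι ⁻¹ᵁ V))).1 h1)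
  obtain ⟨hU, hfin⟩ := finite_app_of_restrict g hV
  rw [Cyc.sheafFun, if_pos hyk, length_stalk_congr e' y, toNat_length_push g hG hV hU hfin hyV hF' hpt,
    finsum_mem_eq_finite_toFinset_sum _ hF']
  refine Finset.sum_congr rfl fun z hz => ?_
  have hgz : f (i z) = y := hF'.mem_toFinset.1 hz
  rw [Cyc.sheafFun, if_pos (hδz z hgz), AlgebraicCycle.mapCoeff,
    if_pos (show δX (i z) = δY (f (i z)) by rw [hgz, hδz z hgz, hyk]), hlenX z,
    Groth.Agent.CycPush.residueDegree_comp_closedImmersion i f z, mul_comm]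

end Groth.Agent.CycSheafPush
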