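import Groth.Agent.LocFree.Props
import Groth.Agent.LocFree.Rank
import Groth.Agent.SupportLib.Pull
import Groth.Agent.QC.Support
import Groth.Prelude.Def_Cyc
import Mathlib

/-!
Elementary consequences of a dimension function: coheights of points, finite length of stalks at generic points of
the support, local finiteness of the components of the support.
-/

set_option autoImplicit false
set_option linter.style.haveILetI false
set_option backward.isDefEq.respectTransparency false

universe u

open CategoryTheory AlgebraicGeometry TopologicalSpace Opposite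

noncomputable section

namespace Groth.Agent.CycDim

variable {X : Scheme.{u}} {δ : X → ℤ}

theorem eq_of_le_of_le {x y : X} (h1 : x ≤ y) (h2 : y ≤ x) : x = y :=
  ((Scheme.le_iff_specializes.1 h2).antisymm (Scheme.le_iff_specializes.1 h1)).eq

theorem lt_of_spec {x y : X} (h : y ⤳ x) (hne : y ≠ x) : x < y :=
  lt_iff_le_not_ge.2 ⟨Scheme.le_iff_specializes.2 h,
    fun h' => hne (eq_of_le_of_le (Scheme.le_iff_specializes.2 h) h').symm⟩

theorem delta_lt (hδ : Cyc.IsDimFun X δ) {x y : X} (h : x < y) : δ x < δ y :=
  (hδ y x (Scheme.le_iff_specializes.1 h.le) h.ne').1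

/-- A point of maximal dimension among its generisations is maximal. -/
theorem eq_of_delta_le (hδ : Cyc.IsDimFun X δ) {z ξ : X} (h : z ⤳ ξ) (hle : δ z ≤ δ ξ) : z = ξ := by
  by_contra hne
  have := delta_lt hδ (lt_of_spec h hne)
  omega

theorem coheight_eq_zero_of_generic {η : X} (h : ∀ z : X, z ⤳ η → z = η) : Order.coheight η = 0 := by
  rw [Order.coheight_eq_zero]
  intro y hy
  exact le_of_eq (h y (Scheme.le_iff_specializes.1 hy))

theorem coheight_eq_one_iff [IsIntegral X] (hδ : Cyc.IsDimFun X δ) (ξ : X) :
    Order.coheight ξ = 1 ↔ δ ξ = δ (genericPoint X) - 1 := by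
  have hgen : ∀ z : X, genericPoint X ⤳ z := fun z => genericPoint_specializes z
  have htop : ∀ z : X, z ⤳ genericPoint X → z = genericPoint X := fun z hz => (hz.antisymm (hgen z)).eq
  constructor
  · intro h
    have hne : genericPoint X ≠ ξ := by
      intro e
      rw [← e, coheight_eq_zero_of_generic htop] at h
      exact zero_ne_one h
    have h2 := (hδ _ ξ (hgen ξ) hne).2 (fun z h1 h2 => by
      by_contra hz
      push Not at hz
      have hle : Order.coheight ξ ≤ ((1 : ℕ) : ℕ∞) := by rw [h]; rfl
      have h4 := Order.coheight_le_coe_iff.1 hle z (lt_of_spec h2 hz.2)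
      have h5 : 0 < Order.coheight z := by
        rw [Order.coheight_pos]
        intro hm
        exact hz.1 (eq_of_le_of_le (Scheme.le_iff_specializes.2 (hgen z)) (hm (Scheme.le_iff_specializes.2 (hgen z))))
      exact absurd (Order.one_le_iff_pos.2 h5) (not_le.2 h4))
    omega
  · intro h
    apply le_antisymm
    · have : Order.coheight ξ ≤ ((1 : ℕ) : ℕ∞) := Order.coheight_le_coe_iff.2 fun y hy => by
        have h1 : δ ξ < δ y := delta_lt hδ hy
        have h2 : genericPoint X = y := eq_of_delta_le hδ (hgen y) (by omega)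
        rw [← h2, coheight_eq_zero_of_generic htop]
        exact_mod_cast one_pos
      exact_mod_cast this
    · refine Order.one_le_iff_pos.2 ?_
      rw [Order.coheight_pos]
      intro hm
      have h1 : genericPoint X ≠ ξ := fun e => by rw [e] at h; omega
      exact absurd (hm (Scheme.le_iff_specializes.2 (hgen ξ))) (lt_of_spec (hgen ξ) h1).not_ge

theorem ringKrullDim_stalk_eq_one_iff [IsIntegral X] (hδ : Cyc.IsDimFun X δ) (ξ : X) :
    ringKrullDim (X.presheaf.stalk ξ) = 1 ↔ δ ξ = δ (genericPoint X) - 1 := by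
  rw [ringKrullDim_stalk_eq_coheight, ← coheight_eq_one_iff hδ ξ]
  exact WithBot.coe_eq_one

/-- The local ring at a point without proper generisations has finite length. -/
theorem length_stalk_lt_top [IsLocallyNoetherian X] {ξ : X} (h : ∀ z : X, z ⤳ ξ → z = ξ) :
    Module.length (X.presheaf.stalk ξ) (X.presheaf.stalk ξ) < ⊤ := by
  haveI : Ring.KrullDimLE 0 (X.presheaf.stalk ξ) :=
    krullDimLE_of_coheight_le (le_of_eq (coheight_eq_zero_of_generic h))
  haveI : IsArtinianRing (X.presheaf.stalk ξ) := IsNoetherianRing.isArtinianRing_of_krullDimLE_zero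
  exact lt_top_iff_ne_top.2 (Module.length_ne_top_iff.2
    ((isArtinianRing_iff_isFiniteLength _).1 inferInstance))

theorem isFiniteLength_of_annihilator {R M : Type u} [CommRing R] [IsNoetherianRing R] [AddCommGroup M] [Module R M]
    [Module.Finite R M] (h : ∀ q : Ideal R, q.IsPrime → Module.annihilator R M ≤ q → q.IsMaximal) :
    Module.length R M < ⊤ := by
  let I := Module.annihilator R M
  haveI : Ring.KrullDimLE 0 (R ⧸ I) := by
    refine Ring.KrullDimLE.mk₀ fun q hq => ?_
    haveI := hq
    haveI := h (q.comap (Ideal.Quotient.mk I)) inferInstance (fun r hr => by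
      rw [Ideal.mem_comap, Ideal.Quotient.eq_zero_iff_mem.2 hr]
      exact zero_mem _)
    have := Ideal.map_eq_top_or_isMaximal_of_surjective (Ideal.Quotient.mk I) Ideal.Quotient.mk_surjective this
    rw [Ideal.map_comap_of_surjective _ Ideal.Quotient.mk_surjective] at this
    exact this.resolve_left hq.ne_top
  haveI : IsArtinianRing (R ⧸ I) := IsNoetherianRing.isArtinianRing_of_krullDimLE_zero
  letI : Module (R ⧸ I) M := Module.IsTorsionBySet.module (fun m a => Module.mem_annihilator.1 a.2 m)
  haveI : IsScalarTower R (R ⧸ I) M := Module.IsTorsionBySet.isScalarTower _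
  haveI : Module.Finite (R ⧸ I) M := Module.Finite.of_restrictScalars_finite R (R ⧸ I) M
  haveI hA : IsArtinian R M :=
    isArtinian_of_surjective_algebraMap (R := R ⧸ I) (S := R) Ideal.Quotient.mk_surjective
  exact lt_top_iff_ne_top.2 (Module.length_ne_top_iff.2
    (isFiniteLength_iff_isNoetherian_isArtinian.2 ⟨inferInstance, hA⟩))

theorem eq_maximal_of_comap {A S : Type u} [CommRing A] [CommRing S] [IsLocalRing S] [Algebra A S] (p : Ideal A)
    [p.IsPrime] (hS : IsLocalization.AtPrime S p) (q : Ideal S) (h : q.comap (algebraMap A S) = p) :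
    q = IsLocalRing.maximalIdeal S := by
  haveI := hS
  have h1 := IsLocalization.map_comap p.primeCompl S q
  rw [show Ideal.under A q = p from h] at h1
  rw [← h1, IsLocalization.AtPrime.map_eq_maximalIdeal p S]

/-- The stalk at a generic point of the support has finite length. -/
theorem length_stalk_module_lt_top [IsLocallyNoetherian X] (F : X.Modules) (hq : Coh.IsQCoh F) (hF : CohB1.IsFT F)
    {ξ : X} (h : ∀ x : X, Nontrivial (F.presheaf.stalk x) → x ⤳ ξ → x = ξ) :
    Module.length (X.presheaf.stalk ξ) (F.presheaf.stalk ξ) < ⊤ := by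
  haveI := hq
  haveI := SupportLib.finite_stalk F hF ξ
  refine isFiniteLength_of_annihilator fun q hq' hann => ?_
  obtain ⟨U, hU, hxU, -⟩ := exists_isAffineOpen_mem_and_subset (U := (⊤ : X.Opens)) (x := ξ) trivial
  letI := (X.presheaf.germ U ξ hxU).hom.toAlgebra
  haveI hloc := hU.isLocalization_stalk ⟨ξ, hxU⟩
  letI := Module.compHom (F.presheaf.stalk ξ) (X.presheaf.germ U ξ hxU).hom
  obtain ⟨g, hg⟩ := LocFree.exists_stalkMap hU hq hxU
  haveI := hg
  let p := hU.primeIdealOf ⟨ξ, hxU⟩
  let q' : PrimeSpectrum Γ(X, U) := PrimeSpectrum.comap (algebraMap Γ(X, U) (X.presheaf.stalk ξ)) ⟨q, hq'⟩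
  have hle : q'.asIdeal ≤ p.asIdeal := by
    intro a ha
    by_contra hp
    exact hq'.ne_top (Ideal.eq_top_of_isUnit_mem _ ha (IsLocalization.map_units _ (⟨a, hp⟩ : p.asIdeal.primeCompl)))
  have hsupp : q' ∈ Module.support Γ(X, U) Γ(F, U) := by
    by_contra hc
    rw [Module.notMem_support_iff'] at hc
    have hq2 : (⟨q, hq'⟩ : PrimeSpectrum _) ∉ Module.support (X.presheaf.stalk ξ) (F.presheaf.stalk ξ) := by
      rw [Module.notMem_support_iff']
      intro m
      obtain ⟨⟨m', s⟩, hm⟩ := IsLocalizedModule.surj p.asIdeal.primeCompl g m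
      obtain ⟨a, ha, ha'⟩ := hc m'
      refine ⟨algebraMap Γ(X, U) _ a, ha, ?_⟩
      have hu := IsLocalization.map_units (X.presheaf.stalk ξ) s
      apply hu.smul_eq_zero.1
      rw [smul_comm]
      calc algebraMap Γ(X, U) (X.presheaf.stalk ξ) a • (algebraMap Γ(X, U) (X.presheaf.stalk ξ) s • m)
          = a • g m' := congrArg (fun z => algebraMap Γ(X, U) (X.presheaf.stalk ξ) a • z) hm
        _ = g (a • m') := (map_smul g a m').symm
        _ = 0 := by rw [ha', map_zero]
    exact hq2 (Module.mem_support_iff_of_finite.2 hann)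
  let y : X := hU.fromSpec q'
  have hyU : y ∈ U := hU.range_fromSpec.subset ⟨q', rfl⟩
  have hy : hU.primeIdealOf ⟨y, hyU⟩ = q' :=
    hU.fromSpec.isOpenEmbedding.injective (hU.fromSpec_primeIdealOf ⟨y, hyU⟩)
  rw [← hy, QC.mem_moduleSupport_iff hU hyU] at hsupp
  have hspec : y ⤳ ξ := by
    have h1 : (q' : PrimeSpectrum _) ⤳ p := (PrimeSpectrum.le_iff_specializes _ _).1 hle
    have h2 := h1.map hU.fromSpec.continuous
    rwa [hU.fromSpec_primeIdealOf ⟨ξ, hxU⟩] at h2
  have he : y = ξ := h y (not_subsingleton_iff_nontrivial.1 hsupp) hspec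
  have hpq : q' = p := by
    apply hU.fromSpec.isOpenEmbedding.injective
    exact he.trans (hU.fromSpec_primeIdealOf ⟨ξ, hxU⟩).symm
  have hmax : q = IsLocalRing.maximalIdeal (X.presheaf.stalk ξ) :=
    eq_maximal_of_comap p.asIdeal hloc q (congrArg PrimeSpectrum.asIdeal hpq)
  rw [hmax]
  infer_instance

/-- Irreducible components of a closed subset of a locally noetherian scheme form a locally finite family. -/
theorem locallyFinite_components [IsLocallyNoetherian X] (S : Set X) (hS : IsClosed S) :
    LocallyFinite (fun Z : irreducibleComponents S => ((↑) '' (Z : Set S) : Set X)) := by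
  intro x
  obtain ⟨U, hU, hxU, -⟩ := exists_isAffineOpen_mem_and_subset (U := (⊤ : X.Opens)) (x := x) trivial
  refine ⟨U, U.2.mem_nhds hxU, ?_⟩
  haveI : IsNoetherianRing Γ(X, U) := IsLocallyNoetherian.component_noetherian ⟨U, hU⟩
  have hN := noetherianSpace_of_isAffineOpen U hU
  let W : Set S := Subtype.val ⁻¹' (U : Set X)
  have hW : IsOpen W := U.2.preimage continuous_subtype_val
  haveI : NoetherianSpace W := by
    let e : W → U := fun w => ⟨w.1.1, w.2⟩
    have he : Topology.IsInducing e :=
      Topology.IsInducing.of_comp (f := e) (g := Subtype.val) (by fun_prop) continuous_subtype_val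
        (show Topology.IsInducing (fun w : W => ((w : S) : X)) from
          (Topology.IsInducing.subtypeVal).comp Topology.IsInducing.subtypeVal)
    exact @Topology.IsInducing.noetherianSpace _ _ _ _ hN _ he
  have hfin : (irreducibleComponents W).Finite := NoetherianSpace.finite_irreducibleComponents
  have hsub : {Z : irreducibleComponents S | (((↑) '' (Z : Set S) : Set X) ∩ U).Nonempty} ⊆
      Subtype.val ⁻¹' ((fun T : Set W => closure (Subtype.val '' T)) '' irreducibleComponents W) := by
    rintro ⟨Z, hZ⟩ ⟨_, ⟨z, hz, rfl⟩, hzU⟩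
    refine ⟨Subtype.val ⁻¹' Z, preimage_mem_irreducibleComponents hZ hW.isOpenEmbedding_subtypeVal ⟨z, hz, ⟨z, hzU⟩, rfl⟩, ?_⟩
    have hc : IsClosed Z := isClosed_of_mem_irreducibleComponents Z hZ
    show closure (Subtype.val '' (Subtype.val ⁻¹' Z)) = Z
    rw [Subtype.image_preimage_coe]
    refine subset_antisymm (closure_minimal Set.inter_subset_right hc) ?_
    rw [Set.inter_comm]
    exact subset_closure_inter_of_isPreirreducible_of_isOpen hZ.1.2 hW ⟨z, hz, hzU⟩
  exact ((hfin.image _).preimage Subtype.val_injective.injOn).subset hsub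

end Groth.Agent.CycDim
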