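import Groth.Agent.CycDim.Lim
import Groth.Agent.CycDim.Fund
import Groth.Agent.QC.Support
import Mathlib

/-!
The cycle of a coherent module.
-/

set_option autoImplicit false
set_option linter.style.haveILetI false
set_option backward.isDefEq.respectTransparency false

universe u

open CategoryTheory AlgebraicGeometry TopologicalSpace

noncomputable section

namespace Groth.Agent.CycDim

variable {X : Scheme.{u}}

/-- Top dimensional cycles of coherent modules are locally finite. -/
theorem exists_sheafCycle [IsLocallyNoetherian X] {δ : X → ℤ} (hδ : Cyc.IsDimFun X δ) (k : ℤ) (F : X.Modules)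
    [hq : Coh.IsQCoh F] (hft : CohB1.IsFT F) (hdim : ∀ x : X, Nontrivial (F.presheaf.stalk x) → δ x ≤ k) :
    ∃ α : AlgebraicCycle X ℤ, ⇑α = Cyc.sheafFun δ k F ∧ α ∈ Cyc.Zk X δ k := by
  classical
  have hm0 : ∀ p, Cyc.sheafFun δ k F p ≠ 0 → δ p = k ∧ Nontrivial (F.presheaf.stalk p) := by
    intro p hp
    simp only [Cyc.sheafFun] at hp
    split at hp
    · next h =>
      refine ⟨h, not_subsingleton_iff_nontrivial.1 fun hs => hp ?_⟩
      rw [Module.length_eq_zero]; rfl
    · exact absurd rfl hp
  refine ⟨CycLim.mkCycle (Cyc.sheafFun δ k F) fun {U} hU => ?_, rfl, fun p hp => ?_⟩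
  · refine (CycDiv.finite_maximal (Groth.Agent.QC.isClosed_support hft) hU).subset ?_
    rintro p ⟨hpU, hp⟩
    obtain ⟨hd, hn⟩ := hm0 p hp
    exact ⟨hpU, not_subsingleton_iff_nontrivial.2 hn, fun y hy hyp => eq_of_delta_le hδ hyp
      (by have := hdim y (not_subsingleton_iff_nontrivial.1 hy); omega)⟩
  · show Cyc.sheafFun δ k F p = 0
    by_contra h
    exact hp (hm0 p h).1

end Groth.Agent.CycDim
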