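import Groth.Prelude.Def_Cyc
import Mathlib

/-!
In a one dimensional Noetherian local domain the length of the cokernel of an injective endomorphism of a
finite torsion free module is the order of its determinant.
-/

set_option autoImplicit false
set_option linter.style.haveILetI false

universe u

noncomputable section

namespace Groth.Agent.CycNorm

open Matrix

section General

variable {A : Type u} [CommRing A] {M : Type u} [AddCommGroup M] [Module A M]

/-- Lengths of cokernels of injective endomorphisms add. -/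
theorem length_coker_comp (φ ψ : M →ₗ[A] M) (hφ : Function.Injective φ) :
    Module.length A (M ⧸ LinearMap.range (φ.comp ψ)) =
      Module.length A (M ⧸ LinearMap.range ψ) + Module.length A (M ⧸ LinearMap.range φ) := by
  let f : (M ⧸ LinearMap.range ψ) →ₗ[A] M ⧸ LinearMap.range (φ.comp ψ) :=
    Submodule.mapQ _ _ φ (by rw [LinearMap.range_comp]; exact Submodule.le_comap_map _ _)
  let g : (M ⧸ LinearMap.range (φ.comp ψ)) →ₗ[A] M ⧸ LinearMap.range φ :=
    Submodule.factor (LinearMap.range_comp_le_range ψ φ)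
  refine Module.length_eq_add_of_exact f g ?_ (Submodule.factor_surjective _) ?_
  · rw [injective_iff_map_eq_zero]
    intro m hm
    obtain ⟨m, rfl⟩ := Submodule.Quotient.mk_surjective _ m
    obtain ⟨n, hn⟩ := (Submodule.Quotient.mk_eq_zero _).1 hm
    exact (Submodule.Quotient.mk_eq_zero _).2 ⟨n, hφ hn⟩
  · intro m
    obtain ⟨m, rfl⟩ := Submodule.Quotient.mk_surjective _ m
    constructor
    · intro hm
      obtain ⟨n, rfl⟩ := (Submodule.Quotient.mk_eq_zero _).1 hm
      exact ⟨Submodule.Quotient.mk n, rfl⟩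
    · rintro ⟨n, hn⟩
      obtain ⟨n, rfl⟩ := Submodule.Quotient.mk_surjective _ n
      rw [← hn]
      exact (Submodule.Quotient.mk_eq_zero _).2 ⟨n, rfl⟩

/-- Cokernels of injective endomorphisms have the same length on a submodule of finite colength. -/
theorem length_coker_restrict (ψ : M →ₗ[A] M) (hψ : Function.Injective ψ) (F : Submodule A M)
    (hF : ∀ x ∈ F, ψ x ∈ F) (hfin : Module.length A (M ⧸ F) ≠ ⊤) :
    Module.length A (M ⧸ LinearMap.range ψ) = Module.length A (F ⧸ LinearMap.range (ψ.restrict hF)) := by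
  let P := F.map ψ
  let f₁ : (F ⧸ LinearMap.range (ψ.restrict hF)) →ₗ[A] M ⧸ P :=
    Submodule.mapQ _ _ F.subtype (by
      rintro _ ⟨x, rfl⟩
      exact ⟨x.1, x.2, rfl⟩)
  let g₁ : (M ⧸ P) →ₗ[A] M ⧸ F := Submodule.factor (Submodule.map_le_iff_le_comap.2 hF)
  let f₂ : (M ⧸ F) →ₗ[A] M ⧸ P := Submodule.mapQ _ _ ψ (Submodule.le_comap_map _ _)
  let g₂ : (M ⧸ P) →ₗ[A] M ⧸ LinearMap.range ψ := Submodule.factor LinearMap.map_le_range
  have h1 : Module.length A (M ⧸ P) =
      Module.length A (F ⧸ LinearMap.range (ψ.restrict hF)) + Module.length A (M ⧸ F) := by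
    refine Module.length_eq_add_of_exact f₁ g₁ ?_ (Submodule.factor_surjective _) ?_
    · rw [injective_iff_map_eq_zero]
      intro m hm
      obtain ⟨m, rfl⟩ := Submodule.Quotient.mk_surjective _ m
      obtain ⟨n, hn, hn'⟩ := (Submodule.Quotient.mk_eq_zero _).1 hm
      exact (Submodule.Quotient.mk_eq_zero _).2 ⟨⟨n, hn⟩, Subtype.ext hn'⟩
    · intro m
      obtain ⟨m, rfl⟩ := Submodule.Quotient.mk_surjective _ m
      constructor
      · intro hm
        exact ⟨Submodule.Quotient.mk ⟨m, (Submodule.Quotient.mk_eq_zero _).1 hm⟩, rfl⟩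
      · rintro ⟨n, hn⟩
        obtain ⟨n, rfl⟩ := Submodule.Quotient.mk_surjective _ n
        rw [← hn]
        exact (Submodule.Quotient.mk_eq_zero _).2 n.2
  have h2 : Module.length A (M ⧸ P) = Module.length A (M ⧸ F) + Module.length A (M ⧸ LinearMap.range ψ) := by
    refine Module.length_eq_add_of_exact f₂ g₂ ?_ (Submodule.factor_surjective _) ?_
    · rw [injective_iff_map_eq_zero]
      intro m hm
      obtain ⟨m, rfl⟩ := Submodule.Quotient.mk_surjective _ m
      obtain ⟨n, hn, hn'⟩ := (Submodule.Quotient.mk_eq_zero _).1 hm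
      exact (Submodule.Quotient.mk_eq_zero _).2 (hψ hn' ▸ hn)
    · intro m
      obtain ⟨m, rfl⟩ := Submodule.Quotient.mk_surjective _ m
      constructor
      · intro hm
        obtain ⟨n, rfl⟩ := (Submodule.Quotient.mk_eq_zero _).1 hm
        exact ⟨Submodule.Quotient.mk n, rfl⟩
      · rintro ⟨n, hn⟩
        obtain ⟨n, rfl⟩ := Submodule.Quotient.mk_surjective _ n
        rw [← hn]
        exact (Submodule.Quotient.mk_eq_zero _).2 ⟨n, rfl⟩
  rw [h1, add_comm] at h2
  exact ((WithTop.add_right_inj hfin).1 ((add_comm _ _).trans (h2.trans (add_comm _ _)))).symm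

/-- The length of the cokernel of a diagonal matrix. -/
theorem length_coker_diagonal {ι : Type} [Fintype ι] [DecidableEq ι] (d : ι → A) :
    Module.length A ((ι → A) ⧸ LinearMap.range (diagonal d).mulVecLin) = ∑ i, Ring.ord A (d i) := by
  rw [show LinearMap.range (diagonal d).mulVecLin = Submodule.pi Set.univ fun i => Ideal.span {d i} from ?_,
    (Submodule.quotientPi fun i => Ideal.span {d i}).length_eq, Module.length_pi_of_fintype]
  · rfl
  ext v
  simp only [Submodule.mem_pi, Set.mem_univ, forall_const, Ideal.mem_span_singleton', LinearMap.mem_range,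
    Matrix.mulVecLin_apply]
  constructor
  · rintro ⟨w, rfl⟩ i
    exact ⟨w i, by rw [mulVec_diagonal, mul_comm]⟩
  · intro h
    choose w hw using h
    exact ⟨w, funext fun i => by rw [mulVec_diagonal, mul_comm, hw]⟩

end General

variable {A : Type u} [CommRing A] [IsDomain A] [IsNoetherianRing A] [Ring.KrullDimLE 1 A] {ι : Type} [Fintype ι]
  [DecidableEq ι]

theorem ord_prod (d : ι → A) (hd : ∀ i, d i ≠ 0) : Ring.ord A (∏ i, d i) = ∑ i, Ring.ord A (d i) := by
  classical
  refine Finset.induction_on (motive := fun s => Ring.ord A (∏ i ∈ s, d i) = ∑ i ∈ s, Ring.ord A (d i))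
    Finset.univ (by simp) ?_
  intro i s hi h
  rw [Finset.prod_insert hi, Finset.sum_insert hi,
    Ring.ord_mul A (mem_nonZeroDivisors_of_ne_zero (Finset.prod_ne_zero_iff.2 fun j _ => hd j)), h]

theorem ord_ne_top' {a : A} (ha : a ≠ 0) : Ring.ord A a ≠ ⊤ :=
  Ring.ord_ne_top (mem_nonZeroDivisors_of_ne_zero ha)

theorem injective_mulVecLin {P : Matrix ι ι A} (hP : P.det ≠ 0) : Function.Injective P.mulVecLin := by
  rw [injective_iff_map_eq_zero]
  intro v hv
  exact Matrix.eq_zero_of_mulVec_eq_zero hP hv

theorem length_coker_mul (P Q : Matrix ι ι A) (hP : P.det ≠ 0) :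
    Module.length A ((ι → A) ⧸ LinearMap.range (P * Q).mulVecLin) =
      Module.length A ((ι → A) ⧸ LinearMap.range Q.mulVecLin) +
        Module.length A ((ι → A) ⧸ LinearMap.range P.mulVecLin) := by
  rw [Matrix.mulVecLin_mul]
  exact length_coker_comp _ _ (injective_mulVecLin hP)

/-- The length formula holds for `P`. -/
def Good (P : Matrix ι ι A) : Prop :=
  P.det ≠ 0 ∧ Module.length A ((ι → A) ⧸ LinearMap.range P.mulVecLin) = Ring.ord A P.det

theorem Good.mul {P Q : Matrix ι ι A} (hP : Good P) (hQ : Good Q) : Good (P * Q) := by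
  refine ⟨by rw [det_mul]; exact mul_ne_zero hP.1 hQ.1, ?_⟩
  rw [length_coker_mul P Q hP.1, hP.2, hQ.2, det_mul, Ring.ord_mul A (mem_nonZeroDivisors_of_ne_zero hQ.1), add_comm]

theorem Good.of_mul_left {P Q : Matrix ι ι A} (hP : Good P) (hPQ : Good (P * Q)) : Good Q := by
  have hQ : Q.det ≠ 0 := fun h => hPQ.1 (by rw [det_mul, h, mul_zero])
  refine ⟨hQ, ?_⟩
  have h := hPQ.2
  rw [length_coker_mul P Q hP.1, hP.2, det_mul, Ring.ord_mul A (mem_nonZeroDivisors_of_ne_zero hQ)] at h
  exact (WithTop.add_right_inj (ord_ne_top' hP.1)).1 (h.trans (add_comm _ _))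

theorem Good.of_mul_right {P Q : Matrix ι ι A} (hQ : Good Q) (hPQ : Good (P * Q)) : Good P := by
  have hP : P.det ≠ 0 := fun h => hPQ.1 (by rw [det_mul, h, zero_mul])
  refine ⟨hP, ?_⟩
  have h := hPQ.2
  rw [length_coker_mul P Q hP, hQ.2, det_mul, Ring.ord_mul A (mem_nonZeroDivisors_of_ne_zero hQ.1),
    add_comm (Ring.ord A P.det)] at h
  exact (WithTop.add_left_inj (ord_ne_top' hQ.1)).1 h

theorem good_diagonal (d : ι → A) (hd : ∀ i, d i ≠ 0) : Good (diagonal d) := by
  refine ⟨by rw [det_diagonal]; exact Finset.prod_ne_zero_iff.2 fun i _ => hd i, ?_⟩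
  rw [length_coker_diagonal, det_diagonal, ord_prod d hd]

theorem good_transvection {i j : ι} (hij : i ≠ j) (a : A) : Good (transvection i j a) := by
  refine ⟨by rw [det_transvection_of_ne i j hij]; exact one_ne_zero, ?_⟩
  rw [det_transvection_of_ne i j hij, Ring.ord_one, Module.length_eq_zero_iff, Submodule.Quotient.subsingleton_iff]
  refine eq_top_iff.2 fun v _ => ⟨(transvection i j (-a)).mulVec v, ?_⟩
  rw [Matrix.mulVecLin_apply, Matrix.mulVec_mulVec, transvection_mul_transvection_same _ _ hij, add_neg_cancel,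
    transvection_zero, one_mulVec]

/-- A matrix with nonzero determinant: the length of its cokernel is the order of the determinant. -/
theorem good_of_det_ne_zero {P : Matrix ι ι A} (hP : P.det ≠ 0) : Good P := by
  classical
  let K := FractionRing A
  let f := algebraMap A K
  have hf : Function.Injective f := IsFractionRing.injective A K
  suffices H : ∀ Q : Matrix ι ι K, Q.det ≠ 0 → ∃ (s : A) (R : Matrix ι ι A), s ≠ 0 ∧ R.map f = f s • Q ∧ Good R by
    obtain ⟨s, R, hs, hR, hg⟩ := H (P.map f) (by
      rw [← RingHom.mapMatrix_apply, ← RingHom.map_det]; exact (map_ne_zero_iff f hf).2 hP)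
    have hRP : R = diagonal (fun _ : ι => s) * P := by
      refine Matrix.map_injective hf ?_
      show R.map f = _
      rw [hR]
      ext i j
      simp [Matrix.mul_apply, diagonal, f]
    rw [hRP] at hg
    exact (good_diagonal _ fun _ => hs).of_mul_left hg
  intro Q hQ
  refine Matrix.diagonal_transvection_induction_of_det_ne_zero
    (fun Q => ∃ (s : A) (R : Matrix ι ι A), s ≠ 0 ∧ R.map f = f s • Q ∧ Good R) Q hQ ?_ ?_ ?_
  · intro D hD
    have hD' : ∀ i, D i ≠ 0 := by
      rw [det_diagonal, Finset.prod_ne_zero_iff] at hD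
      exact fun i => hD i (Finset.mem_univ i)
    obtain ⟨⟨s, hs⟩, hsD⟩ := IsLocalization.exist_integer_multiples_of_finite (nonZeroDivisors A) D
    choose d hd using fun i => hsD i
    have hs0 : s ≠ 0 := nonZeroDivisors.ne_zero hs
    refine ⟨s, diagonal d, hs0, ?_, good_diagonal d fun i h => ?_⟩
    · ext i j
      by_cases hij : i = j
      · subst hij
        simp only [map_apply, diagonal_apply_eq, Matrix.smul_apply, smul_eq_mul]
        exact (hd i).trans (Algebra.smul_def _ _)
      · simp [diagonal_apply_ne _ hij, f]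
    · have := (hd i).trans (Algebra.smul_def _ _)
      rw [h, map_zero] at this
      exact mul_ne_zero ((map_ne_zero_iff f hf).2 hs0) (hD' i) this.symm
  · rintro ⟨i, j, hij, c⟩
    obtain ⟨a, b, hb, rfl⟩ := IsFractionRing.div_surjective A c
    have hb0 : b ≠ 0 := nonZeroDivisors.ne_zero hb
    let R : Matrix ι ι A := diagonal (fun _ => b) + Matrix.single i j a
    refine ⟨b, R, hb0, ?_, ?_⟩
    · ext k l
      simp only [TransvectionStruct.toMatrix_mk, transvection, R, map_apply, Matrix.add_apply, map_add, Matrix.smul_apply,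
        smul_eq_mul, mul_add]
      congr 1
      · by_cases hkl : k = l
        · subst hkl; simp [f]
        · simp [diagonal_apply_ne _ hkl, one_apply_ne hkl, f]
      · simp only [single_apply]
        split
        · rw [mul_div_cancel₀ _ ((map_ne_zero_iff f hf).2 hb0)]
        · simp
    · let D : Matrix ι ι A := diagonal (Function.update 1 j b)
      have hD : Good D := good_diagonal _ fun k => by
        by_cases h : k = j
        · subst h; simpa using hb0
        · simp [Function.update_of_ne h]
      refine hD.of_mul_right ?_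
      have : R * D = diagonal (fun _ => b) * (D * transvection i j a) := by
        ext k l
        simp only [R, D, transvection, Matrix.mul_diagonal, Matrix.diagonal_mul, Matrix.add_apply, one_apply,
          single_apply, diagonal_apply]
        by_cases hkl : k = l
        · subst hkl
          have : ¬ (i = k ∧ j = k) := fun h => hij (h.1.trans h.2.symm)
          simp [this]
        · by_cases h : i = k ∧ j = l
          · obtain ⟨rfl, rfl⟩ := h
            simp [hkl, mul_comm a b]
          · simp [hkl, h]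
      rw [this]
      exact (good_diagonal _ fun _ => hb0).mul (hD.mul (good_transvection hij a))
  · rintro Q₁ Q₂ - - ⟨s₁, R₁, hs₁, hR₁, hg₁⟩ ⟨s₂, R₂, hs₂, hR₂, hg₂⟩
    refine ⟨s₁ * s₂, R₁ * R₂, mul_ne_zero hs₁ hs₂, ?_, hg₁.mul hg₂⟩
    rw [Matrix.map_mul, hR₁, hR₂, map_mul, Matrix.smul_mul, Matrix.mul_smul, smul_smul]

/-- The length of the cokernel is the order of the determinant. -/
theorem length_coker_eq_ord_det {P : Matrix ι ι A} (hP : P.det ≠ 0) :
    Module.length A ((ι → A) ⧸ LinearMap.range P.mulVecLin) = Ring.ord A P.det :=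
  (good_of_det_ne_zero hP).2

end Groth.Agent.CycNorm
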