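import Groth.Agent.CycDim.Det
import Groth.Agent.CycDim.OrdSum
import Groth.Agent.C1Cap.Basic
import Mathlib

/-!
Orders of norms in finite extensions of one dimensional domains.
-/

set_option autoImplicit false
set_option linter.style.haveILetI false

universe u

noncomputable section

namespace Groth.Agent.CycNorm

open CycDim (lenAt)

section Semilocal

variable {A B : Type u} [CommRing A] [CommRing B] [Algebra A B]

theorem lenAt_add' (p : PrimeSpectrum B) {M₁ M₂ M₃ : Type u} [AddCommGroup M₁] [Module B M₁] [AddCommGroup M₂]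
    [Module B M₂] [AddCommGroup M₃] [Module B M₃] (f : M₁ →ₗ[B] M₂) (g : M₂ →ₗ[B] M₃) (hf : Function.Injective f)
    (hg : Function.Surjective g) (h : Function.Exact f g) : lenAt p M₂ = lenAt p M₁ + lenAt p M₃ :=
  Module.length_eq_add_of_exact (LocalizedModule.map p.asIdeal.primeCompl f) (LocalizedModule.map p.asIdeal.primeCompl g)
    (LocalizedModule.map_injective p.asIdeal.primeCompl f hf) (LocalizedModule.map_surjective p.asIdeal.primeCompl g hg)
    (LocalizedModule.map_exact p.asIdeal.primeCompl f g h)

theorem lenAt_congr' (p : PrimeSpectrum B) {M N : Type u} [AddCommGroup M] [Module B M] [AddCommGroup N] [Module B N]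
    (e : M ≃ₗ[B] N) : lenAt p M = lenAt p N := by
  have h := lenAt_add' p e.toLinearMap (0 : N →ₗ[B] PUnit.{u + 1}) e.injective (Function.surjective_to_subsingleton _)
    ((e.exact_zero_iff_surjective _).2 e.surjective)
  have h0 : lenAt p PUnit.{u + 1} = 0 := Module.length_eq_zero
  rw [h0, add_zero] at h
  exact h.symm

theorem lenAt_self (p : PrimeSpectrum B) : lenAt p (B ⧸ p.asIdeal) = 1 := by
  let S := p.asIdeal.primeCompl
  rw [lenAt, Module.length_eq_one_iff, isSimpleModule_iff_toSpanSingleton_surjective]
  refine ⟨?_, fun m hm => ?_⟩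
  · refine ⟨LocalizedModule.mkLinearMap S _ 1, 0, fun h0 => ?_⟩
    obtain ⟨c, hc⟩ := (IsLocalizedModule.eq_zero_iff S (LocalizedModule.mkLinearMap S (B ⧸ p.asIdeal))).1 h0
    refine c.2 ((Ideal.Quotient.eq_zero_iff_mem (I := p.asIdeal)).1 ?_)
    exact ((mul_one _).symm.trans (Algebra.smul_def (c : B) (1 : B ⧸ p.asIdeal)).symm).trans hc
  · intro y
    induction m using LocalizedModule.induction_on with
    | h a s =>
      induction y using LocalizedModule.induction_on with
      | h b t =>
        obtain ⟨a, rfl⟩ := Ideal.Quotient.mk_surjective a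
        obtain ⟨b, rfl⟩ := Ideal.Quotient.mk_surjective b
        have ha : a ∈ S := by
          intro hap
          refine hm ?_
          rw [show Ideal.Quotient.mk p.asIdeal a = 0 from Ideal.Quotient.eq_zero_iff_mem.2 hap]
          exact LocalizedModule.zero_mk s
        refine ⟨Localization.mk (b * (s : B)) (⟨a, ha⟩ * t), ?_⟩
        rw [LinearMap.toSpanSingleton_apply, LocalizedModule.mk_smul_mk, LocalizedModule.mk_eq]
        refine ⟨1, ?_⟩
        simp only [one_smul, Submonoid.smul_def, Submonoid.coe_mul, smul_smul]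
        rw [Algebra.smul_def, Algebra.smul_def, Ideal.Quotient.algebraMap_eq, ← map_mul, ← map_mul]
        congr 1
        ring

theorem lenAt_of_not_le {p : PrimeSpectrum B} {q : Ideal B} (h : ¬ q ≤ p.asIdeal) : lenAt p (B ⧸ q) = 0 := by
  obtain ⟨c, hcq, hcp⟩ := SetLike.not_le_iff_exists.1 h
  rw [lenAt, Module.length_eq_zero_iff]
  refine LocalizedModule.subsingleton_iff.2 fun m => ⟨c, hcp, ?_⟩
  obtain ⟨b, rfl⟩ := Ideal.Quotient.mk_surjective m
  exact Ideal.Quotient.eq_zero_iff_mem.2 (q.mul_mem_right _ hcq)

/-- The length over the base of a module of finite length over a finite algebra, through the local lengths. -/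
theorem length_eq_sum_lenAt (S : Finset (PrimeSpectrum B)) (hS : ∀ p : PrimeSpectrum B, p.asIdeal.IsMaximal ↔ p ∈ S)
    (N : Type u) [AddCommGroup N] [Module B N] (hN : IsFiniteLength B N) : ∀ [Module A N] [IsScalarTower A B N],
    Module.length A N = ∑ p ∈ S, Module.length A (B ⧸ p.asIdeal) * lenAt p N := by
  classical
  induction hN with
  | @of_subsingleton M _ _ _ =>
    intro _ _
    rw [Module.length_eq_zero]
    refine (Finset.sum_eq_zero fun p _ => ?_).symm
    rw [lenAt, Module.length_eq_zero_iff.2 (LocalizedModule.subsingleton_iff.2 fun m =>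
      ⟨1, p.asIdeal.primeCompl.one_mem, Subsingleton.elim _ _⟩), mul_zero]
  | @of_simple_quotient M _ _ N' hs _ ih =>
    intro _ _
    have hex : Function.Exact N'.subtype N'.mkQ := LinearMap.exact_subtype_mkQ N'
    have h1 : Module.length A M = Module.length A N' + Module.length A (M ⧸ N') :=
      Module.length_eq_add_of_exact (N'.subtype.restrictScalars A) (N'.mkQ.restrictScalars A) N'.injective_subtype
        N'.mkQ_surjective hex
    obtain ⟨q, hq, ⟨e⟩⟩ := isSimpleModule_iff_quot_maximal.1 hs
    let q₀ : PrimeSpectrum B := ⟨q, hq.isPrime⟩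
    have h2 : ∀ p ∈ S, lenAt p (M ⧸ N') = if p = q₀ then 1 else 0 := by
      intro p hp
      rw [lenAt_congr' p e]
      split
      · next h => subst h; exact lenAt_self q₀
      · next h =>
        exact lenAt_of_not_le fun hle => h (PrimeSpectrum.ext (hq.eq_of_le p.2.ne_top hle).symm)
    have h3 : ∀ p ∈ S, Module.length A (B ⧸ p.asIdeal) * lenAt p M =
        Module.length A (B ⧸ p.asIdeal) * lenAt p N' +
          (if p = q₀ then Module.length A (B ⧸ p.asIdeal) else 0) := fun p hp => by
      rw [lenAt_add' p N'.subtype N'.mkQ N'.injective_subtype N'.mkQ_surjective hex, mul_add, h2 p hp]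
      split <;> simp
    rw [h1, ih, Finset.sum_congr rfl h3, Finset.sum_add_distrib]
    congr 1
    rw [Finset.sum_eq_single q₀]
    · rw [if_pos rfl]
      exact (e.restrictScalars A).length_eq
    · intro p _ hne; rw [if_neg hne]
    · intro h; exact absurd ((hS q₀).1 hq) h

end Semilocal

section Norm

variable {A B : Type u} [CommRing A] [IsDomain A] [IsNoetherianRing A] [Ring.KrullDimLE 1 A] [CommRing B] [IsDomain B]
  [Algebra A B] [Module.Finite A B]

theorem ordFrac_algebraMap {K : Type u} [Field K] [Algebra A K] [IsFractionRing A K] {d : A} (hd : d ≠ 0) :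
    CycAlg.ordFrac A K (algebraMap A K d) = ((Ring.ord A d).toNat : ℤ) := by
  rw [CycAlg.ordFrac, dif_pos ⟨inferInstance, inferInstance, inferInstance, inferInstance⟩]
  change WithZero.recZeroCoe (motive := fun _ => ℤ) 0 _ (Ring.ordFrac A (algebraMap A K d)) = _
  rw [Ring.ordFrac_eq_ord A hd, Ring.ordMonoidWithZeroHom_eq_ord (mem_nonZeroDivisors_of_ne_zero hd)]
  obtain ⟨m, hm⟩ := WithTop.ne_top_iff_exists.1 (Ring.ord_ne_top (mem_nonZeroDivisors_of_ne_zero hd))
  rw [← hm]
  rfl

theorem span_range_eq_top (A B K L : Type u) [CommRing A] [CommRing B] [IsDomain B] [Algebra A B] [Module.Finite A B]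
    [Field K] [Field L] [Algebra A K] [Algebra B L] [IsFractionRing B L] [Algebra A L] [IsScalarTower A B L]
    [Algebra K L] [IsScalarTower A K L] : Submodule.span K (Set.range (algebraMap B L)) = ⊤ := by
  classical
  let φ : B →ₐ[A] L := IsScalarTower.toAlgHom A B L
  let S : Subalgebra K L := Algebra.adjoin K (Set.range (algebraMap B L))
  have hS : Subalgebra.toSubmodule S = Submodule.span K (Set.range (algebraMap B L)) := by
    rw [Algebra.adjoin_eq_span]
    congr 1
    exact SetLike.coe_set_eq.2 rfl |>.trans (congrArg _ (Submonoid.closure_eq (MonoidHom.mrange (algebraMap B L : B →* L))))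
  obtain ⟨s, hs⟩ := (Module.Finite.fg_top : (⊤ : Submodule A B).FG)
  have hle : Submodule.span K (Set.range (algebraMap B L)) ≤ Submodule.span K ((φ : B → L) '' s) := by
    rw [Submodule.span_le]
    rintro _ ⟨b, rfl⟩
    have : φ b ∈ Submodule.map φ.toLinearMap (Submodule.span A (s : Set B)) := ⟨b, by rw [hs]; trivial, rfl⟩
    rw [Submodule.map_span] at this
    exact Submodule.span_subset_span A K _ this
  haveI : Module.Finite K (Submodule.span K ((φ : B → L) '' s)) :=
    Module.Finite.span_of_finite K (s.finite_toSet.image _)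
  haveI : FiniteDimensional K S := by
    have : Subalgebra.toSubmodule S ≤ Submodule.span K ((φ : B → L) '' s) := hS.le.trans hle
    exact Submodule.finiteDimensional_of_le this
  have hF : IsField S := by
    haveI : IsDomain S := inferInstance
    exact isField_of_isIntegral_of_isField' (R := K) (Field.toIsField K)
  rw [← hS, eq_top_iff]
  intro z _
  obtain ⟨a, b, hb, rfl⟩ := IsFractionRing.div_surjective B z
  obtain ⟨c, hc⟩ := hF.mul_inv_cancel (a := (⟨algebraMap B L b, Algebra.subset_adjoin ⟨b, rfl⟩⟩ : S)) fun h =>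
    nonZeroDivisors.ne_zero hb (IsFractionRing.injective B L ((congrArg Subtype.val h).trans (map_zero _).symm))
  have hc' : (c : L) = (algebraMap B L b)⁻¹ := eq_inv_of_mul_eq_one_right (congrArg Subtype.val hc)
  show algebraMap B L a / algebraMap B L b ∈ S
  rw [div_eq_mul_inv, ← hc']
  exact mul_mem (Algebra.subset_adjoin ⟨a, rfl⟩) c.2

variable (K L : Type u) [Field K] [Field L] [Algebra A K] [IsFractionRing A K] [Algebra B L] [IsFractionRing B L]
  [Algebra A L] [IsScalarTower A B L] [Algebra K L] [IsScalarTower A K L]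

/-- The length of the quotient of a finite extension by an element is the order of its norm. -/
theorem length_quot_norm (hinj : Function.Injective (algebraMap A B)) {b : B} (hb : b ≠ 0) :
    Module.length A (B ⧸ Ideal.span {b}) < ⊤ ∧
      ((Module.length A (B ⧸ Ideal.span {b})).toNat : ℤ) =
        CycAlg.ordFrac A K (Algebra.norm K (algebraMap B L b)) := by
  classical
  have hspan := span_range_eq_top A B K L
  obtain ⟨t, hts, hspan', hli⟩ := exists_linearIndependent K (Set.range (algebraMap B L))
  rw [hspan] at hspan'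
  let bas₀ : Module.Basis t K L := Module.Basis.mk hli (by rw [Subtype.range_coe_subtype, Set.setOf_mem_eq, hspan'])
  haveI : FiniteDimensional K L := by
    refine Module.finite_def.2 ?_
    obtain ⟨s, hs⟩ := (Module.Finite.fg_top : (⊤ : Submodule A B).FG)
    refine ⟨s.image (algebraMap B L), top_le_iff.1 (hspan.symm.le.trans ?_)⟩
    rw [Submodule.span_le]
    rintro _ ⟨x, rfl⟩
    have : IsScalarTower.toAlgHom A B L x ∈
        Submodule.map (IsScalarTower.toAlgHom A B L).toLinearMap (Submodule.span A (s : Set B)) :=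
      ⟨x, by rw [hs]; trivial, rfl⟩
    rw [Submodule.map_span] at this
    rw [Finset.coe_image]
    exact Submodule.span_subset_span A K _ this
  haveI : Finite t := Module.Finite.finite_basis bas₀
  haveI : Fintype t := Fintype.ofFinite t
  let n := Fintype.card t
  let e : Module.Basis (Fin n) K L := bas₀.reindex (Fintype.equivFin t)
  have he : ∀ i, ∃ x : B, algebraMap B L x = e i := fun i => by
    have : e i ∈ t := by
      rw [Module.Basis.reindex_apply, Module.Basis.mk_apply]
      exact Subtype.mem _
    exact hts this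
  choose w hw using he
  let Φ : (Fin n → A) →ₗ[A] B := Fintype.linearCombination A w
  have hΦ : ∀ v : Fin n → A, algebraMap B L (Φ v) = ∑ i, algebraMap A K (v i) • e i := fun v => by
    rw [Fintype.linearCombination_apply, map_sum]
    refine Finset.sum_congr rfl fun i _ => ?_
    rw [Algebra.smul_def, map_mul, hw, ← IsScalarTower.algebraMap_apply A B L, algebraMap_smul, Algebra.smul_def]
  have hrepr : ∀ (v : Fin n → A) i, e.repr (algebraMap B L (Φ v)) i = algebraMap A K (v i) := fun v i => by
    rw [hΦ v, e.repr_sum_self]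
  have hΦinj : Function.Injective Φ := fun v w' h => funext fun i =>
    IsFractionRing.injective A K (by rw [← hrepr v i, ← hrepr w' i, h])
  obtain ⟨g, hg⟩ := (Module.Finite.fg_top : (⊤ : Submodule A B).FG)
  obtain ⟨⟨s, hs⟩, hsg⟩ := IsLocalization.exist_integer_multiples_of_finite (nonZeroDivisors A)
    (fun p : ↥g × Fin n => e.repr (algebraMap B L p.1.1) p.2)
  choose c hc using hsg
  have hs0 : s ≠ 0 := nonZeroDivisors.ne_zero hs
  have hgen : ∀ x : B, s • x ∈ LinearMap.range Φ := by
    intro x
    have hx : x ∈ Submodule.span A (g : Set B) := by rw [hg]; trivial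
    induction hx using Submodule.span_induction with
    | mem y hy =>
      refine ⟨fun i => c (⟨y, hy⟩, i), IsFractionRing.injective B L (e.ext_elem fun i => ?_)⟩
      rw [hrepr, Algebra.smul_def, map_mul, ← IsScalarTower.algebraMap_apply A B L,
        IsScalarTower.algebraMap_apply A K L, ← Algebra.smul_def, map_smul]
      exact (hc (⟨y, hy⟩, i)).trans (algebraMap_smul K s _).symm
    | zero => rw [smul_zero]; exact zero_mem _
    | add y z _ _ hy hz => rw [smul_add]; exact add_mem hy hz
    | smul a y _ hy => rw [smul_comm]; exact Submodule.smul_mem _ a hy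
  let F : Submodule A B := LinearMap.range Φ
  have hfin : Module.length A (B ⧸ F) ≠ ⊤ := by
    let I := Ideal.span {s}
    have htor : Module.IsTorsionBySet A (B ⧸ F) (I : Set A) := by
      intro m a
      obtain ⟨m, rfl⟩ := Submodule.Quotient.mk_surjective _ m
      obtain ⟨d, hd⟩ := Ideal.mem_span_singleton'.1 a.2
      show (a : A) • _ = 0
      rw [← hd, mul_smul, ← Submodule.Quotient.mk_smul, (Submodule.Quotient.mk_eq_zero _).2 (hgen m), smul_zero]
    letI : Module (A ⧸ I) (B ⧸ F) := htor.module
    haveI : IsScalarTower A (A ⧸ I) (B ⧸ F) := Module.IsTorsionBySet.isScalarTower htor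
    haveI : Module.Finite (A ⧸ I) (B ⧸ F) := Module.Finite.of_restrictScalars_finite A (A ⧸ I) (B ⧸ F)
    have hAI := isFiniteLength_iff_isNoetherian_isArtinian.1
      (isFiniteLength_quotient_span_singleton A (mem_nonZeroDivisors_of_ne_zero hs0))
    haveI : IsArtinianRing (A ⧸ I) := by
      haveI := hAI.2
      exact isArtinian_of_tower A (inferInstanceAs (IsArtinian A (A ⧸ I)))
    have hAr : IsArtinian A (B ⧸ F) :=
      isArtinian_of_surjective_algebraMap (R := A ⧸ I) (S := A) Ideal.Quotient.mk_surjective
    exact Module.length_ne_top_iff.2 (isFiniteLength_iff_isNoetherian_isArtinian.2 ⟨inferInstance, hAr⟩)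
  have hsB : algebraMap A B s ≠ 0 := fun h => hs0 (hinj (h.trans (map_zero _).symm))
  have key : ∀ x : B, x ≠ 0 → (∀ y : B, x * y ∈ F) → Module.length A (B ⧸ Ideal.span {x}) < ⊤ ∧
      ((Module.length A (B ⧸ Ideal.span {x})).toNat : ℤ) = CycAlg.ordFrac A K (Algebra.norm K (algebraMap B L x)) := by
    intro x hx hxF
    choose col hcol using fun j => hxF (w j)
    let P : Matrix (Fin n) (Fin n) A := fun i j => col j i
    have hP : (algebraMap A K).mapMatrix P = Algebra.leftMulMatrix e (algebraMap B L x) := by
      ext i j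
      rw [Algebra.leftMulMatrix_eq_repr_mul, RingHom.mapMatrix_apply, Matrix.map_apply, ← hw j, ← map_mul,
        ← hcol j, hrepr]
    have hdet : algebraMap A K P.det = Algebra.norm K (algebraMap B L x) := by
      rw [Algebra.norm_eq_matrix_det e, RingHom.map_det, hP]
    have hdet0 : P.det ≠ 0 := by
      intro h
      rw [h, map_zero] at hdet
      exact hx (IsFractionRing.injective B L ((Algebra.norm_eq_zero_iff.1 hdet.symm).trans (map_zero _).symm))
    let ψ : B →ₗ[A] B := LinearMap.mulLeft A x
    have hψ : Function.Injective ψ := mul_right_injective₀ hx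
    have hψF : ∀ y ∈ F, ψ y ∈ F := fun y _ => hxF y
    let ε : (Fin n → A) ≃ₗ[A] F := LinearEquiv.ofInjective Φ hΦinj
    have hcomm : ∀ v, ψ.restrict hψF (ε v) = ε (P.mulVecLin v) := by
      intro v
      refine Subtype.ext (IsFractionRing.injective B L (e.ext_elem fun i => ?_))
      show e.repr (algebraMap B L (x * Φ v)) i = e.repr (algebraMap B L (Φ (P.mulVec v))) i
      rw [hrepr, map_mul, hΦ v, Finset.mul_sum, map_sum, Finsupp.finsetSum_apply, Matrix.mulVec, dotProduct, map_sum]
      refine Finset.sum_congr rfl fun j _ => ?_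
      rw [mul_smul_comm, map_smul, Finsupp.smul_apply, smul_eq_mul, map_mul (algebraMap A K), ← hw j,
        ← map_mul (algebraMap B L), ← hcol j, hrepr,
        mul_comm]
    have hrange : Submodule.map ε.toLinearMap (LinearMap.range P.mulVecLin) = LinearMap.range (ψ.restrict hψF) := by
      ext y
      constructor
      · rintro ⟨_, ⟨v, rfl⟩, rfl⟩
        exact ⟨ε v, hcomm v⟩
      · rintro ⟨z, rfl⟩
        exact ⟨_, ⟨ε.symm z, rfl⟩, by rw [LinearEquiv.coe_coe, ← hcomm, ε.apply_symm_apply]⟩
    have hlen : Module.length A (B ⧸ Ideal.span {x}) = Ring.ord A P.det := by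
      have h1 : LinearMap.range ψ = (Ideal.span {x}).restrictScalars A := by
        ext z
        simp only [LinearMap.mem_range, Submodule.restrictScalars_mem, Ideal.mem_span_singleton', ψ,
          LinearMap.mulLeft_apply, mul_comm]
      rw [show Module.length A (B ⧸ Ideal.span {x}) = Module.length A (B ⧸ LinearMap.range ψ) by
        rw [h1]; exact (Submodule.Quotient.restrictScalarsEquiv A (Ideal.span {x})).symm.length_eq]
      rw [length_coker_restrict ψ hψ F hψF hfin, ← length_coker_eq_ord_det hdet0]
      exact (Submodule.Quotient.equiv _ _ ε hrange).length_eq.symm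
    refine ⟨hlen ▸ Ring.ord_lt_top (mem_nonZeroDivisors_of_ne_zero hdet0), ?_⟩
    rw [hlen, ← hdet, ordFrac_algebraMap hdet0]
  have hsb : algebraMap A B s * b ≠ 0 := mul_ne_zero hsB hb
  obtain ⟨fin1, e1⟩ := key _ hsB fun y => (Algebra.smul_def s y).symm ▸ hgen y
  obtain ⟨fin2, e2⟩ := key _ hsb fun y => by rw [mul_assoc, ← Algebra.smul_def]; exact hgen _
  have hadd : Module.length A (B ⧸ Ideal.span {algebraMap A B s * b}) =
      Module.length A (B ⧸ Ideal.span {b}) + Module.length A (B ⧸ Ideal.span {algebraMap A B s}) := by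
    have hr : ∀ z : B, Module.length A (B ⧸ Ideal.span {z}) =
        Module.length A (B ⧸ LinearMap.range (LinearMap.mulLeft A z)) := fun z => by
      rw [show LinearMap.range (LinearMap.mulLeft A z) = (Ideal.span {z}).restrictScalars A by
        ext w'
        simp only [LinearMap.mem_range, Submodule.restrictScalars_mem, Ideal.mem_span_singleton',
          LinearMap.mulLeft_apply, mul_comm]]
      exact (Submodule.Quotient.restrictScalarsEquiv A (Ideal.span {z})).symm.length_eq
    rw [hr, hr, hr, LinearMap.mulLeft_mul]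
    exact length_coker_comp _ _ (mul_right_injective₀ hsB)
  rw [hadd] at fin2 e2
  refine ⟨lt_of_le_of_lt le_self_add fin2, ?_⟩
  rw [ENat.toNat_add (ne_top_of_le_ne_top fin2.ne le_self_add) fin1.ne, Nat.cast_add, e1, map_mul, map_mul,
    C1Cap.ordFrac_mul ?_ ?_] at e2
  · omega
  · exact fun h => hsB (IsFractionRing.injective B L ((Algebra.norm_eq_zero_iff.1 h).trans (map_zero _).symm))
  · exact fun h => hb (IsFractionRing.injective B L ((Algebra.norm_eq_zero_iff.1 h).trans (map_zero _).symm))

end Norm

end Groth.Agent.CycNorm
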