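import Groth.Agent.CycDim.DegP1
import Groth.Agent.CycDim.PushVanish
import Groth.Agent.CycDim.Norm
import Groth.Agent.CycDim.RelDim
import Groth.Agent.CMFlat.BaseChange
import Groth.Agent.CMFlat.Scheme
import Mathlib

/-!
The degree of a finite flat morphism through the lengths of its fibres.
-/

set_option autoImplicit false
set_option linter.style.haveILetI false
set_option backward.isDefEq.respectTransparency false

universe u

open CategoryTheory CategoryTheory.Limits AlgebraicGeometry TopologicalSpace
open Groth.Agent.C1Cap (rdu)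

noncomputable section

namespace Groth.Agent.CycFin

open CycDim (lenAt length_congr)

variable {K : Type u} [Field K]

theorem kStr_id_surjective (z : Spec (CommRingCat.of K)) : Function.Surjective (WeilLib.kStr (𝟙 _) z) := by
  intro v
  have hU := isAffineOpen_top (Spec (CommRingCat.of K))
  let e := (Scheme.ΓSpecIso (CommRingCat.of K)).commRingCatIsoToRingEquiv
  have hfield : IsField Γ(Spec (CommRingCat.of K), ⊤) := e.toMulEquiv.isField (Field.toIsField K)
  letI := hfield.toField
  obtain ⟨a, rfl⟩ := CycDeg.evaluation_surjective hU (y := z) trivial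
    ((Ideal.eq_bot_of_prime (hU.primeIdealOf ⟨z, trivial⟩).asIdeal).symm ▸ Ideal.bot_isMaximal) v
  obtain ⟨c, rfl⟩ := e.symm.surjective a
  refine ⟨c, ?_⟩
  show (Scheme.evaluation _ ⊤ z trivial).hom (WeilLib.secStr (𝟙 _) ⊤ c) = _
  congr 1
/-- The residue degree over a field is the dimension over the field. -/
theorem residueDegree_eq_finrank {F : Scheme.{u}} (c : F ⟶ Spec (CommRingCat.of K)) (z : F) :
    c.residueDegree z = (letI := (WeilLib.kStr c z).toAlgebra; Module.finrank K (F.residueField z)) := by
  letI := (WeilLib.kStr c z).toAlgebra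
  letI := (c.residueFieldMap z).hom.toAlgebra
  symm
  refine Algebra.finrank_eq_of_equiv_equiv (RingEquiv.ofBijective (WeilLib.kStr (𝟙 _) (c z))
    ⟨RingHom.injective _, kStr_id_surjective (c z)⟩) (RingEquiv.refl _) (RingHom.ext fun a => ?_)
  exact RingHom.congr_fun (WeilLib.kStr_comp c c (𝟙 _) (Category.comp_id c) z) a

/-- The degree of a finite scheme over a field. -/
theorem degree_finite_field {F : Scheme.{u}} (c : F ⟶ Spec (CommRingCat.of K)) [IsFinite c] [Flat c]
    (pt : Spec (CommRingCat.of K)) :
    Finite F ∧ (∀ z, c.residueDegree z ≠ 0) ∧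
      ∑ᶠ z : F, (Module.length (F.presheaf.stalk z) (F.presheaf.stalk z)).toNat * c.residueDegree z =
        c.finrank pt := by
  classical
  haveI : IsAffine F := isAffine_of_isAffineHom c
  have hU := isAffineOpen_top F
  let C := Γ(F, ⊤)
  letI : Algebra K C := (WeilLib.secStr c ⊤).toAlgebra
  have hC : hU.fromSpec ≫ c = Spec.map (CommRingCat.ofHom (algebraMap K C)) := CycDeg.fromSpec_comp c hU
  haveI : IsIso hU.fromSpec := by rw [IsAffineOpen.fromSpec_top]; infer_instance
  have hfin : IsFinite (Spec.map (CommRingCat.ofHom (algebraMap K C))) := hC ▸ inferInstance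
  haveI : Module.Finite K C := RingHom.finite_algebraMap.1 ((IsFinite.SpecMap_iff _).1 hfin)
  have hrank : c.finrank pt = Module.finrank K C := by
    rw [← Scheme.Hom.finrank_comp_left_of_isIso hU.fromSpec c, hC]
    refine (Scheme.Hom.finrank_SpecMap_algebraMap K C pt).trans ?_
    exact congrFun Module.rankAtStalk_eq_finrank_of_free pt
  haveI : IsArtinianRing C := isArtinian_of_tower K inferInstance
  haveI : IsNoetherianRing C := isNoetherian_of_tower K inferInstance
  let φ : F → PrimeSpectrum C := fun z => hU.primeIdealOf ⟨z, trivial⟩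
  have hφ : Function.Bijective φ := by
    refine ⟨fun a b h => ?_, fun p => ⟨hU.fromSpec p, hU.fromSpec.isOpenEmbedding.injective
      (hU.fromSpec_primeIdealOf ⟨hU.fromSpec p, trivial⟩)⟩⟩
    have h2 := congrArg hU.fromSpec h
    exact (hU.fromSpec_primeIdealOf ⟨a, trivial⟩).symm.trans (h2.trans (hU.fromSpec_primeIdealOf ⟨b, trivial⟩))
  haveI : Finite F := Finite.of_injective φ hφ.1
  haveI := Fintype.ofFinite (PrimeSpectrum C)
  haveI := Fintype.ofFinite F
  have hdeg : ∀ z : F, c.residueDegree z = Module.finrank K (C ⧸ (φ z).asIdeal) := by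
    intro z
    letI := (WeilLib.kStr c z).toAlgebra
    rw [residueDegree_eq_finrank c z]
    let ev : C →ₐ[K] F.residueField z :=
      { (F.evaluation ⊤ z trivial).hom with
        commutes' := RingHom.congr_fun (WeilLib.evaluation_comp_secStr c (W := ⊤) trivial) }
    have hmax : (φ z).asIdeal.IsMaximal := inferInstance
    have hker : RingHom.ker ev.toRingHom = (φ z).asIdeal := by
      letI := F.presheaf.algebra_section_stalk (⟨z, trivial⟩ : (⊤ : F.Opens))
      haveI := hU.isLocalization_stalk ⟨z, trivial⟩
      show RingHom.ker ((IsLocalRing.residue (F.presheaf.stalk z)).comp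
        (algebraMap C (F.presheaf.stalk z))) = _
      rw [← RingHom.comap_ker, IsLocalRing.ker_residue]
      exact IsLocalization.AtPrime.under_maximalIdeal (F.presheaf.stalk z) _
    let ψ : (C ⧸ (φ z).asIdeal) →ₐ[K] F.residueField z :=
      Ideal.Quotient.liftₐ _ ev fun a ha => RingHom.mem_ker.1 (hker.symm ▸ ha)
    refine (LinearEquiv.finrank_eq (AlgEquiv.ofBijective ψ ⟨?_, fun v => ?_⟩).toLinearEquiv).symm
    · rw [injective_iff_map_eq_zero]
      intro a ha
      obtain ⟨a, rfl⟩ := Ideal.Quotient.mk_surjective a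
      exact Ideal.Quotient.eq_zero_iff_mem.2 (hker.le ha)
    · obtain ⟨a, rfl⟩ := CycDeg.evaluation_surjective hU (y := z) trivial hmax v
      exact ⟨Ideal.Quotient.mk _ a, rfl⟩
  refine ⟨inferInstance, fun z => by rw [hdeg z]; exact Nat.pos_iff_ne_zero.1 Module.finrank_pos, ?_⟩
  rw [hrank, finsum_eq_sum_of_fintype]
  have key := CycNorm.length_eq_sum_lenAt (A := K) (B := C) Finset.univ
    (fun p => ⟨fun _ => Finset.mem_univ p, fun _ => inferInstance⟩) C
    (isFiniteLength_iff_isNoetherian_isArtinian.2 ⟨inferInstance, inferInstance⟩)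
  rw [Module.length_eq_finrank K C] at key
  have hterm : ∀ z : F, Module.length K (C ⧸ (φ z).asIdeal) * lenAt (φ z) C =
      ((Module.length (F.presheaf.stalk z) (F.presheaf.stalk z)).toNat * c.residueDegree z : ℕ) := by
    intro z
    letI := F.presheaf.algebra_section_stalk (⟨z, trivial⟩ : (⊤ : F.Opens))
    haveI : IsLocalization.AtPrime (F.presheaf.stalk z) (φ z).asIdeal := hU.isLocalization_stalk ⟨z, trivial⟩
    have h1 : lenAt (φ z) C = Module.length (F.presheaf.stalk z) (F.presheaf.stalk z) :=
      (LinearEquiv.length_eq ((IsLocalizedModule.iso (φ z).asIdeal.primeCompl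
        (Algebra.linearMap C (Localization.AtPrime (φ z).asIdeal))).extendScalarsOfIsLocalization (φ z).asIdeal.primeCompl
          (Localization.AtPrime (φ z).asIdeal))).trans
        (length_congr (IsLocalization.algEquiv (φ z).asIdeal.primeCompl (Localization.AtPrime (φ z).asIdeal)
          (F.presheaf.stalk z)).toRingEquiv)
    haveI : IsArtinianRing (F.presheaf.stalk z) :=
      (IsArtinianRing.localization_surjective (φ z).asIdeal.primeCompl (F.presheaf.stalk z)).isArtinianRing
    have hne : Module.length (F.presheaf.stalk z) (F.presheaf.stalk z) ≠ ⊤ :=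
      Module.length_ne_top_iff.2 (isFiniteLength_iff_isNoetherian_isArtinian.2
        ⟨IsLocalization.isNoetherianRing (φ z).asIdeal.primeCompl _ inferInstance, inferInstance⟩)
    rw [h1, Module.length_eq_finrank, hdeg z, Nat.cast_mul, mul_comm, ENat.natCast_toNat hne]
  rw [← Fintype.sum_bijective φ hφ _ _ (fun z => (hterm z).symm), ← Nat.cast_sum] at key
  exact_mod_cast key.symm

/-- The degree of a finite flat morphism at a point is the sum over the fibre of the lengths times the degrees. -/
theorem fibre_degree {X Y : Scheme.{u}} (f : X ⟶ Y) [IsFinite f] [Flat f] (y : Y) :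
    (f ⁻¹' {y} : Set X).Finite ∧ (∀ x, f x = y → f.residueDegree x ≠ 0) ∧
      ∑ᶠ x ∈ (f ⁻¹' {y} : Set X), (Module.length (X.presheaf.stalk x) (X.presheaf.stalk x ⧸
          Ideal.map (f.stalkMap x).hom (IsLocalRing.maximalIdeal (Y.presheaf.stalk (f x))))).toNat * f.residueDegree x =
        f.finrank y := by
  let F : Scheme.{u} := f.fiber y
  let ι : F ⟶ X := f.fiberι y
  let c : F ⟶ Spec (CommRingCat.of (Y.residueField y)) := f.fiberToSpecResidueField y
  haveI : IsFinite c := inferInstanceAs (IsFinite (pullback.snd f (Y.fromSpecResidueField y)))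
  haveI : Flat c := inferInstanceAs (Flat (pullback.snd f (Y.fromSpecResidueField y)))
  haveI : IsPreimmersion ι := inferInstanceAs (IsPreimmersion (f.fiberι y))
  let pt : ↥(Spec (CommRingCat.of (Y.residueField y))) := IsLocalRing.closedPoint (Y.residueField y)
  obtain ⟨hfin, hne, hsum⟩ := degree_finite_field c pt
  have hrk : c.finrank pt = f.finrank y :=
    (Scheme.Hom.finrank_of_isPullback ι c f (Y.fromSpecResidueField y) (.of_hasPullback _ _) pt).trans
      (congrArg f.finrank (Scheme.fromSpecResidueField_apply _ _))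
  have hdeg : ∀ z : F, c.residueDegree z = f.residueDegree (ι z) := by
    intro z
    have e1 : (ι ≫ f).residueDegree z = (c ≫ Y.fromSpecResidueField y).residueDegree z :=
      congrArg (fun m : F ⟶ Y => m.residueDegree z) pullback.condition
    rw [CycDeg.residueDegree_comp, CycDeg.residueDegree_comp,
      CycDeg.residueDegree_eq_one ι (CycPush.residueFieldMap_surjective_pre ι z),
      CycDeg.residueDegree_eq_one (Y.fromSpecResidueField y) (CycPush.residueFieldMap_surjective_pre _ (c z)),
      mul_one, one_mul] at e1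
    exact e1.symm
  rw [← f.range_fiberι y]
  refine ⟨Set.finite_range _, fun x hx => ?_, ?_⟩
  · obtain ⟨z, rfl⟩ : x ∈ Set.range (f.fiberι y) := by rw [f.range_fiberι]; exact hx
    exact hdeg z ▸ hne z
  · rw [finsum_mem_range ι.isEmbedding.injective, ← hrk, ← hsum]
    refine finsum_congr fun z => ?_
    obtain ⟨e1⟩ := CMFlat.nonempty_stalk_equiv_asFiber f (ι z) z rfl
    obtain ⟨e2⟩ := CMFlat.nonempty_fiberStalk_equiv f (ι z)
    let I : Ideal (X.presheaf.stalk (ι z)) :=
      Ideal.map (f.stalkMap (ι z)).hom (IsLocalRing.maximalIdeal (Y.presheaf.stalk (f (ι z))))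
    rw [hdeg, Module.length_eq_of_surjective (R := X.presheaf.stalk (ι z) ⧸ I) (M := X.presheaf.stalk (ι z) ⧸ I)
      (S := X.presheaf.stalk (ι z)) (Ideal.Quotient.mk_surjective (I := I)), length_congr (e2.trans e1.symm)]

end Groth.Agent.CycFin
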