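import Groth.Agent.CycDim.AffineCH
import Groth.Agent.CycDim.FibreDeg
import Groth.Agent.WeilLib.Trdeg
import Groth.Prelude.Def_Bivar
import Mathlib

/-!
Cycles on schemes locally isomorphic to affine space over the base.
-/

set_option autoImplicit false
set_option linter.style.haveILetI false
set_option backward.isDefEq.respectTransparency false

universe u

open CategoryTheory CategoryTheory.Limits AlgebraicGeometry TopologicalSpace
open Groth.Agent.CycDeg (dl)

noncomputable section

namespace Groth.Agent.CycAff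

variable {X Y : Scheme.{u}} (f : X ⟶ Y) {r : ℕ}

/-- Local isomorphism with affine space of rank `r` over the base. -/
def LocAff (r : ℕ) : Prop :=
  ∀ y : Y, ∃ U : Y.Opens, y ∈ U ∧
    ∃ e : (↑(f ⁻¹ᵁ U) : Scheme.{u}) ≅ AffineSpace (ULift.{u} (Fin r)) (↑U : Scheme.{u}),
      e.hom ≫ (AffineSpace (ULift.{u} (Fin r)) (↑U : Scheme.{u}) ↘ (↑U : Scheme.{u})) = f ∣_ U

theorem isAffineHom_of_locAff (h : LocAff f r) : IsAffineHom f := by
  choose U hU e he using h
  refine (IsZariskiLocalAtTarget.iff_of_iSup_eq_top (P := @IsAffineHom) U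
    (eq_top_iff.2 fun y _ => Opens.mem_iSup.2 ⟨y, hU y⟩)).2 fun y => ?_
  rw [← he y]
  infer_instance

/-- The fibres are affine spaces. -/
theorem exists_fibre_iso (h : LocAff f r) (y : Y) :
    ∃ φ : Spec (CommRingCat.of (MvPolynomial (Fin r) (Y.residueField y))) ⟶ f.fiber y, IsIso φ := by
  obtain ⟨U, hyU, e, he⟩ := h y
  let κ : CommRingCat.{u} := CommRingCat.of (Y.residueField y)
  let n : Type u := ULift.{u} (Fin r)
  let s : Spec κ ⟶ Y := Y.fromSpecResidueField y
  have hrange : Set.range s ⊆ Set.range U.ι := by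
    rw [Scheme.Opens.range_ι]
    rintro _ ⟨a, rfl⟩
    exact (Scheme.fromSpecResidueField_apply _ a).symm ▸ hyU
  let s' : Spec κ ⟶ (↑U : Scheme.{u}) := IsOpenImmersion.lift U.ι s hrange
  have hs' : s' ≫ U.ι = s := IsOpenImmersion.lift_fac _ _ _
  have h1 : IsPullback (AffineSpace.map n s') (AffineSpace n (Spec κ) ↘ Spec κ)
      (AffineSpace n (↑U : Scheme.{u}) ↘ (↑U : Scheme.{u})) s' := AffineSpace.isPullback_map s'
  have h2 : IsPullback e.inv (AffineSpace n (↑U : Scheme.{u}) ↘ (↑U : Scheme.{u})) (f ∣_ U) (𝟙 _) :=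
    IsPullback.of_horiz_isIso ⟨by rw [← he, Iso.inv_hom_id_assoc, Category.comp_id]⟩
  have h3 := (h1.paste_horiz h2).paste_horiz (isPullback_morphismRestrict f U).flip
  rw [Category.comp_id, hs'] at h3
  have hP : IsPullback (f.fiberι y) (f.fiberToSpecResidueField y) f (Y.fromSpecResidueField y) :=
    .of_hasPullback _ _
  let g := (h3.isoIsPullback _ _ hP)
  let t : CommRingCat.of (MvPolynomial (Fin r) (Y.residueField y)) ≅ CommRingCat.of (MvPolynomial n κ) :=
    (MvPolynomial.renameEquiv κ (Equiv.ulift.{u, 0}).symm).toRingEquiv.toCommRingCatIso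
  let i₁ : Spec (CommRingCat.of (MvPolynomial (Fin r) (Y.residueField y))) ≅ Spec (CommRingCat.of (MvPolynomial n κ)) :=
    Scheme.Spec.mapIso t.op.symm
  exact ⟨(i₁ ≪≫ (AffineSpace.SpecIso n κ).symm ≪≫ g).hom, inferInstance⟩

/-- The induced dimension function on a fibre. -/
theorem delta_fiber [LocallyOfFiniteType f] {δX : X → ℤ} {δY : Y → ℤ} (hδ : Cyc.DeltaCompat f δX δY) (y : Y)
    (z : f.fiber y) : δX (f.fiberι y z) = dl (f.fiber y) z + δY y := by
  let c : f.fiber y ⟶ Spec (CommRingCat.of (Y.residueField y)) := f.fiberToSpecResidueField y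
  haveI : LocallyOfFiniteType c :=
    inferInstanceAs (LocallyOfFiniteType (pullback.snd f (Y.fromSpecResidueField y)))
  haveI : IsPreimmersion (f.fiberι y) := inferInstance
  have hA := Bivar.deltaCompat_comp (f.fiberι y) f _ δX δY (CycPush.deltaCompat_preimmersion _ δX) hδ
  rw [show f.fiberι y ≫ f = c ≫ Y.fromSpecResidueField y from pullback.condition] at hA
  have hB0 : Cyc.DeltaCompat c (fun z => dl (f.fiber y) z + δY y) (fun _ => δY y) := fun w => by
    obtain ⟨m, hm, hw⟩ := CycDeg.deltaCompat_zero c w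
    exact ⟨m, hm, by show dl _ w + δY y = δY y + (m : ℤ); simp only [zero_add] at hw; omega⟩
  have hC : Cyc.DeltaCompat (Y.fromSpecResidueField y) (fun _ => δY y) δY := by
    have h := CycPush.deltaCompat_preimmersion (Y.fromSpecResidueField y) δY
    simp only [Scheme.fromSpecResidueField_apply] at h
    exact h
  exact CycPush.deltaCompat_unique _ hA (Bivar.deltaCompat_comp c _ _ _ δY hB0 hC) z

section Affine

variable (K : Type u) [Field K] (r : ℕ)

/-- The generic point of affine space over a field. -/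
def bot : Spec (CommRingCat.of (MvPolynomial (Fin r) K)) := ⟨⊥, Ideal.isPrime_bot⟩

theorem bot_spec (w : Spec (CommRingCat.of (MvPolynomial (Fin r) K))) : bot K r ⤳ w :=
  (PrimeSpectrum.le_iff_specializes _ _).1 bot_le

theorem dl_bot : dl _ (bot K r) = (r : ℤ) := by
  haveI : LocallyOfFiniteType (Spec.map (CommRingCat.ofHom (algebraMap K (MvPolynomial (Fin r) K)))) :=
    (HasRingHomProperty.Spec_iff (P := @LocallyOfFiniteType)).2 (RingHom.finiteType_algebraMap.2 inferInstance)
  have h := CycLine.pdim_spec (Spec.map (CommRingCat.ofHom (algebraMap K (MvPolynomial (Fin r) K)))) (bot K r)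
  have h' : ringKrullDim (MvPolynomial (Fin r) K ⧸ (bot K r).asIdeal) = (r : ℕ) := by
    rw [ringKrullDim_eq_of_ringEquiv (RingEquiv.quotientBot _), MvPolynomial.ringKrullDim_of_isNoetherianRing,
      ringKrullDim_eq_zero_of_field, Nat.card_fin, zero_add]
  have h2 : ((WeilCoh.pdim _ (bot K r) : ℕ) : WithBot ℕ∞) = ((r : ℕ) : WithBot ℕ∞) := h.symm.trans h'
  have h3 : WeilCoh.pdim _ (bot K r) = r := by exact_mod_cast h2
  simp only [dl, h3]

theorem dl_le (w : Spec (CommRingCat.of (MvPolynomial (Fin r) K))) :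
    dl _ w ≤ (r : ℤ) ∧ (dl _ w = (r : ℤ) → w = bot K r) := by
  haveI : LocallyOfFiniteType (Spec.map (CommRingCat.ofHom (algebraMap K (MvPolynomial (Fin r) K)))) :=
    (HasRingHomProperty.Spec_iff (P := @LocallyOfFiniteType)).2 (RingHom.finiteType_algebraMap.2 inferInstance)
  have hb := dl_bot K r
  by_cases h : w = bot K r
  · subst h; exact ⟨hb.le, fun _ => rfl⟩
  have := WeilLib.pdim_lt (Spec.map (CommRingCat.ofHom (algebraMap K (MvPolynomial (Fin r) K)))) (bot_spec K r w) h
  simp only [dl] at hb ⊢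
  exact ⟨by omega, by omega⟩

theorem length_bot : Module.length ((Spec (CommRingCat.of (MvPolynomial (Fin r) K))).presheaf.stalk (bot K r))
    ((Spec (CommRingCat.of (MvPolynomial (Fin r) K))).presheaf.stalk (bot K r)) = 1 := by
  rw [Module.length_eq_one_iff]
  have hf : IsField ((Spec (CommRingCat.of (MvPolynomial (Fin r) K))).presheaf.stalk (bot K r)) := by
    refine ⟨exists_pair_ne _, mul_comm, fun {z} hz => ?_⟩
    obtain ⟨a, b, hb, hab⟩ := CycLine.exists_eq_frac (bot K r) z
    have hu := (CycLine.isUnit_toStk_iff (bot K r) b).2 hb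
    have ha : IsUnit (CycLine.toStk (bot K r) a) := (CycLine.isUnit_toStk_iff _ _).2 fun ha => hz (by
      rw [show a = 0 from ha, map_zero] at hab
      exact (hu.mul_left_eq_zero).1 hab)
    rw [← hab] at ha
    exact (isUnit_of_mul_isUnit_left ha).exists_right_inv
  letI := hf.toField
  infer_instance

end Affine

variable (r)

/-- The fibre data: a unique point of maximal dimension, multiplicity one, and the others rationally zero. -/
theorem fibre_data [LocallyOfFiniteType f] (h : LocAff f r) {δX : X → ℤ} {δY : Y → ℤ}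
    (hδ : Cyc.DeltaCompat f δX δY) (y : Y) :
    ∃ γ : X, f γ = y ∧ δX γ = δY y + r ∧
      Module.length (X.presheaf.stalk γ) (X.presheaf.stalk γ ⧸
        Ideal.map (f.stalkMap γ).hom (IsLocalRing.maximalIdeal (Y.presheaf.stalk (f γ)))) = 1 ∧
      ∀ x, f x = y → δY y ≤ δX x ∧ δX x ≤ δY y + r ∧ (δX x = δY y + r → x = γ) ∧
        (δX x < δY y + r → ∃ (n : Type u) (_ : Fintype n) (ξ : n → X) (g : (i : n) → X.residueField (ξ i)),
          (∀ i, f (ξ i) = y ∧ δX (ξ i) = δX x + 1 ∧ g i ≠ 0) ∧
          ∀ p, f p = y → ∑ i, Cyc.divFun δX (ξ i) (g i) p = CycRat.pt x p) := by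
  classical
  obtain ⟨φ, hφ⟩ := exists_fibre_iso f h y
  let ι : f.fiber y ⟶ X := f.fiberι y
  haveI : IsPreimmersion ι := inferInstanceAs (IsPreimmersion (f.fiberι y))
  have hι : ∀ z, f (ι z) = y := fun z => show ι z ∈ f ⁻¹' {y} from f.range_fiberι y ▸ ⟨z, rfl⟩
  have hd : ∀ z, δX (ι z) = dl _ z + δY y := delta_fiber f hδ y
  refine ⟨ι (φ (bot _ r)), hι _, ?_, ?_, fun x hx => ?_⟩
  · rw [hd, CycLine.dl_iso, dl_bot]; ring
  · let z := φ (bot _ r)
    obtain ⟨e1⟩ := CMFlat.nonempty_stalk_equiv_asFiber f (ι z) z rfl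
    obtain ⟨e2⟩ := CMFlat.nonempty_fiberStalk_equiv f (ι z)
    let I : Ideal (X.presheaf.stalk (ι z)) :=
      Ideal.map (f.stalkMap (ι z)).hom (IsLocalRing.maximalIdeal (Y.presheaf.stalk (f (ι z))))
    rw [Module.length_eq_of_surjective (R := X.presheaf.stalk (ι z) ⧸ I) (M := X.presheaf.stalk (ι z) ⧸ I)
      (S := X.presheaf.stalk (ι z)) (Ideal.Quotient.mk_surjective (I := I))]
    exact (CycDim.length_congr ((e2.trans e1.symm).trans (asIso (φ.stalkMap (bot _ r))).commRingCatIsoToRingEquiv)).trans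
      (length_bot _ r)
  · obtain ⟨z, rfl⟩ : x ∈ Set.range ι := by
      show x ∈ Set.range (f.fiberι y)
      rw [f.range_fiberι]; exact hx
    obtain ⟨w, rfl⟩ := φ.homeomorph.surjective z
    have hw : δX (ι (φ w)) = dl _ w + δY y := by rw [hd, CycLine.dl_iso]
    have h0 : (0 : ℤ) ≤ dl _ w := Int.natCast_nonneg _
    obtain ⟨h1, h2⟩ := dl_le _ r w
    refine ⟨?_, ?_, fun e => ?_, fun e => ?_⟩
    · change δY y ≤ δX (ι (φ w)); omega
    · change δX (ι (φ w)) ≤ _; omega
    · change δX (ι (φ w)) = _ at e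
      show ι (φ w) = _
      rw [h2 (by omega)]
    · change δX (ι (φ w)) < _ at e
      have hr0 := CycLine.affine_pt _ r w (by omega)
      have hz := CycLine.ratEquivZero_iso φ hr0 (β := CycRat.pt (φ w)) fun v => by
        rw [CycRat.pt_apply, CycRat.pt_apply]
        by_cases hv : v = w
        · rw [hv, if_pos rfl, if_pos rfl]
        · rw [if_neg hv, if_neg (show ¬ φ v = φ w from fun h' => hv (φ.homeomorph.injective h'))]
      obtain ⟨n, ξ, g, hξ, hg, hloc, hsum⟩ := hz
      haveI : CompactSpace (f.fiber y) := φ.homeomorph.compactSpace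
      choose U hU hxU hfin using hloc
      obtain ⟨t, ht⟩ := isCompact_univ.elim_finite_subcover U hU fun v _ => Set.mem_iUnion.2 ⟨v, hxU v⟩
      haveI : Finite n := Set.finite_univ_iff.1 ((t.finite_toSet.biUnion fun v _ => hfin v).subset fun i _ => by
        obtain ⟨v, hv, hiv⟩ := Set.mem_iUnion₂.1 (ht (Set.mem_univ (ξ i)))
        exact Set.mem_biUnion hv ⟨ξ i, subset_closure rfl, hiv⟩)
      choose g' hg' using fun i => CycPush.residueFieldMap_surjective_pre ι (ξ i) (g i)
      refine ⟨n, Fintype.ofFinite n, fun i => ι (ξ i), g', fun i =>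
        ⟨hι _, ?_, fun h' => hg i (by rw [← hg' i, h', map_zero])⟩, fun p hp => ?_⟩
      · show δX (ι (ξ i)) = δX (ι (φ w)) + 1
        rw [hd, hξ, hw]; ring
      · obtain ⟨v, rfl⟩ : p ∈ Set.range ι := by
          show p ∈ Set.range (f.fiberι y)
          rw [f.range_fiberι]; exact hp
        letI := Fintype.ofFinite n
        show _ = CycRat.pt (ι (φ w)) (ι v)
        have hv : CycRat.pt (ι (φ w)) (ι v) = CycRat.pt (φ w) v := by
          rw [CycRat.pt_apply, CycRat.pt_apply]
          by_cases hv : v = φ w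
          · rw [hv, if_pos rfl, if_pos rfl]
          · rw [if_neg hv, if_neg (show ¬ ι v = ι (φ w) from fun h' => hv (ι.isEmbedding.injective h'))]
        rw [hv, hsum, finsum_eq_sum_of_fintype]
        refine Finset.sum_congr rfl fun i _ => ?_
        rw [CycLine.divFun_pre ι (dl _) δX (δY y) hd (ξ i) (g' i) v, hg']

end Groth.Agent.CycAff
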