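import Groth.Agent.CycDim.Norm
import Groth.Agent.CycDim.PullDiv
import Mathlib

/-!
Pushing forward principal divisors along a morphism of integral schemes finite near a point.
-/

set_option autoImplicit false
set_option linter.style.haveILetI false
set_option backward.isDefEq.respectTransparency false

universe u

open CategoryTheory AlgebraicGeometry TopologicalSpace Opposite
open Groth.Agent.CDivNormal (genPrime mem_genPrime germ_mem_genPrime exists_genPrime_eq genPrime_mono)
open Groth.Agent.C1Cap (rdu)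

noncomputable section

namespace Groth.Agent.CycPush

open CycDim (spz isLocalization_genPrime mem_genPrime_iff lenAt length_congr)
open CycPull (ordAt_eq_length krullDimLE_locQuot)

/-- Lengths of localisations of cyclic modules. -/
theorem lenAt_quot_localization {R S : Type u} [CommRing R] [CommRing S] [Algebra R S] (q : PrimeSpectrum R)
    [IsLocalization q.asIdeal.primeCompl S] (J : Ideal R) :
    lenAt q (R ⧸ J) = Module.length S (S ⧸ J.map (algebraMap R S)) := by
  let Rp := Localization.AtPrime q.asIdeal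
  let T := Rp ⧸ J.map (algebraMap R Rp)
  have h1 : lenAt q (R ⧸ J) = Module.length Rp T :=
    LinearEquiv.length_eq ((IsLocalizedModule.iso q.asIdeal.primeCompl
      (IsScalarTower.toAlgHom R (R ⧸ J) T).toLinearMap).extendScalarsOfIsLocalization q.asIdeal.primeCompl Rp)
  let e : Rp ≃ₐ[R] S := IsLocalization.algEquiv q.asIdeal.primeCompl Rp S
  let E : T ≃+* S ⧸ J.map (algebraMap R S) := Ideal.quotientEquiv _ _ e.toRingEquiv (by
    rw [show J.map (algebraMap R S) = J.map (((e.toRingEquiv : Rp →+* S)).comp (algebraMap R Rp)) from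
      congrArg (fun φ => Ideal.map φ J) (RingHom.ext fun a => (e.commutes a).symm), ← Ideal.map_map])
  rw [h1, Module.length_eq_of_surjective (R := T) (M := T) (S := Rp) Ideal.Quotient.mk_surjective, length_congr E,
    ← Module.length_eq_of_surjective (R := S ⧸ J.map (algebraMap R S)) (M := S ⧸ J.map (algebraMap R S)) (S := S)
      Ideal.Quotient.mk_surjective]

variable {X : Scheme.{u}}

/-- The residue field of a point is the fraction field of the local ring of its closure at a specialisation. -/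
theorem isFractionRing_locQuot {ξ x : X} (h : ξ ⤳ x) :
    IsDomain (Cyc.LocQuot x ξ h) ∧ IsFractionRing (Cyc.LocQuot x ξ h) (X.residueField ξ) := by
  let Q := Cyc.LocQuot x ξ h
  let q : (X.presheaf.stalk x) →+* Q := Ideal.Quotient.mk _
  have halg : ∀ b : (X.presheaf.stalk x), algebraMap Q (X.residueField ξ) (q b) = rdu ξ (spz h b) := fun _ => rfl
  have hinj : Function.Injective (algebraMap Q (X.residueField ξ)) := by
    rw [injective_iff_map_eq_zero]
    intro b hb
    obtain ⟨b, rfl⟩ := Ideal.Quotient.mk_surjective b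
    exact Ideal.Quotient.eq_zero_iff_mem.2 (RingHom.mem_ker.2 hb)
  haveI : IsDomain Q := hinj.isDomain
  haveI : FaithfulSMul Q (X.residueField ξ) := (faithfulSMul_iff_algebraMap_injective _ _).2 hinj
  refine ⟨inferInstance, IsFractionRing.of_field _ _ fun z => ?_⟩
  obtain ⟨w, rfl⟩ : ∃ w, rdu ξ w = z := Ideal.Quotient.mk_surjective z
  letI := (spz h).toAlgebra
  haveI := isLocalization_genPrime h
  obtain ⟨⟨b, s⟩, hbs⟩ := IsLocalization.surj (genPrime h).primeCompl w
  refine ⟨q b, q s, ?_⟩
  have hs : rdu ξ (spz h s) ≠ 0 := fun h0 => s.2 ((mem_genPrime_iff h s.1).2 (RingHom.mem_ker.2 h0))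
  rw [halg, halg, eq_div_iff hs, ← map_mul]
  exact congrArg (rdu ξ) hbs

variable {W Y : Scheme.{u}}

/-- A finite morphism of integral schemes near a point: the push forward of a principal divisor is the divisor of
the norm. -/
theorem sum_ord_finite [IsIntegral W] [IsLocallyNoetherian W] [IsLocallyNoetherian Y] (g : W ⟶ Y) {δW : W → ℤ}
    {δY : Y → ℤ} (hW : Cyc.IsDimFun W δW) (hY : Cyc.IsDimFun Y δY) {V : Y.Opens} (hV : IsAffineOpen V)
    [IsFinite (g ∣_ V)] {y : Y} (hyV : y ∈ V) (hs : g (genericPoint W) ⤳ y)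
    (hy : δY y + 1 = δY (g (genericPoint W))) (hη : δW (genericPoint W) = δY (g (genericPoint W)))
    (hlow : ∀ w, g w = y → δY y ≤ δW w) (f : W.residueField (genericPoint W)) (hf : f ≠ 0) :
    ∑ᶠ w : {w : W // g w = y}, (g.residueDegree w.1 : ℤ) *
        Cyc.ordAt w.1 (genericPoint W) (genericPoint_specializes w.1) f =
      Cyc.ordAt y (g (genericPoint W)) hs (Cyc.normGen g (genericPoint W) f) := by
  classical
  let ξ := genericPoint W
  let η := g ξ
  let U : W.Opens := g ⁻¹ᵁ V
  have hU : IsAffineOpen U := by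
    haveI : IsAffine (V : Scheme.{u}) := hV
    exact isAffine_of_isAffineHom (g ∣_ V)
  have hξU : ξ ∈ U := hs.mem_open V.2 hyV
  haveI : Nonempty U := ⟨⟨ξ, hξU⟩⟩
  -- the rings
  let A := Cyc.LocQuot y η hs
  let K := Y.residueField η
  let L := W.residueField ξ
  obtain ⟨_, _⟩ := isFractionRing_locQuot hs
  haveI hA1 : Ring.KrullDimLE 1 A := krullDimLE_locQuot hY hs hy.ge
  letI algK : Algebra K L := (g.residueFieldMap ξ).hom.toAlgebra
  letI := (Y.presheaf.germ V y hyV).hom.toAlgebra
  let p := hV.primeIdealOf ⟨y, hyV⟩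
  haveI := hV.isLocalization_stalk ⟨y, hyV⟩
  let φ₀ : Γ(Y, V) →+* Γ(W, U) := (g.app V).hom
  letI alg0 : Algebra Γ(Y, V) Γ(W, U) := φ₀.toAlgebra
  haveI : Module.Finite Γ(Y, V) Γ(W, U) := by
    haveI : IsAffine (V : Scheme.{u}) := hV
    have h := IsFinite.finite_app (g ∣_ V) ⊤ (isAffineOpen_top (V : Scheme.{u}))
    rw [morphismRestrict_app] at h
    have key : ∀ V' : Y.Opens, V' = V → (g.app V').hom.Finite → φ₀.Finite := by
      rintro _ rfl h; exact h
    refine key _ (Scheme.Opens.ι_image_top V) ?_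
    let m := eqToHom (image_morphismRestrict_preimage g V ⊤)
    have h2 := RingHom.Finite.comp (g := (inv (W.presheaf.map m.op)).hom)
      (RingHom.Finite.of_surjective _ (ConcreteCategory.bijective_of_isIso (inv (W.presheaf.map m.op))).2) h
    rwa [← CommRingCat.hom_comp, Category.assoc, IsIso.hom_inv_id, Category.comp_id] at h2
  let M := p.asIdeal.primeCompl
  let B := Localization (Algebra.algebraMapSubmonoid Γ(W, U) M)
  let ev : Γ(W, U) →+* L := (rdu ξ).comp (W.presheaf.germ U ξ hξU).hom
  haveI := functionField_isFractionRing_of_isAffineOpen W U hU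
  have hfun : Function.Bijective (rdu ξ) := by
    refine ⟨?_, Ideal.Quotient.mk_surjective⟩
    haveI : IsField W.functionField := Field.toIsField _
    rw [injective_iff_map_eq_zero]
    intro a ha
    by_contra hne
    have hu : IsUnit a := (Field.toIsField W.functionField).mul_inv_cancel hne |>.elim fun b hb => IsUnit.of_mul_eq_one _ hb
    exact (IsLocalRing.mem_maximalIdeal _).1 (Ideal.Quotient.eq_zero_iff_mem.1 ha) hu
  have hgerm : Function.Injective (W.presheaf.germ U ξ hξU).hom := IsFractionRing.injective Γ(W, U) W.functionField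
  have hev : Function.Injective ev := hfun.1.comp hgerm
  -- the units
  have hgw : ∀ (w : W) (hw : w ∈ U) (a : Γ(Y, V)),
      IsUnit ((W.presheaf.germ U w hw).hom (φ₀ a)) ↔ IsUnit ((Y.presheaf.germ V (g w) hw).hom a) := fun w hw a => by
    rw [show (W.presheaf.germ U w hw).hom (φ₀ a) = (g.stalkMap w).hom ((Y.presheaf.germ V (g w) hw).hom a) from
      (Scheme.Hom.germ_stalkMap_apply g V w hw a).symm]
    exact isUnit_map_iff _ _
  have hgy : ∀ a : Γ(Y, V), IsUnit ((Y.presheaf.germ V y hyV).hom a) ↔ a ∉ p.asIdeal := fun a =>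
    IsLocalization.AtPrime.isUnit_to_map_iff (Y.presheaf.stalk y) p.asIdeal a
  have hMev : ∀ a ∈ M, IsUnit (ev (φ₀ a)) := fun a ha => by
    refine ((hgw ξ hξU a).2 ?_).map (rdu ξ)
    have h1 := ((hgy a).2 ha).map (Y.presheaf.stalkSpecializes hs).hom
    rwa [Y.presheaf.germ_stalkSpecializes_apply hyV hs] at h1
  have hM0 : Algebra.algebraMapSubmonoid Γ(W, U) M ≤ nonZeroDivisors Γ(W, U) := by
    rintro _ ⟨a, ha, rfl⟩
    refine mem_nonZeroDivisors_of_ne_zero fun h0 => (hMev a ha).ne_zero ?_
    rw [show φ₀ a = 0 from h0, map_zero]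
  haveI : IsDomain B := IsLocalization.isDomain_localization hM0
  let evB : B →+* L := IsLocalization.lift (M := Algebra.algebraMapSubmonoid Γ(W, U) M) (g := ev) (by
    rintro ⟨_, a, ha, rfl⟩; exact hMev a ha)
  letI : Algebra B L := evB.toAlgebra
  haveI : IsFractionRing B L := by
    haveI : FaithfulSMul B L := (faithfulSMul_iff_algebraMap_injective _ _).2
      ((IsLocalization.lift_injective_iff _).2 (fun a b => ⟨fun h => congrArg ev (IsLocalization.injective B hM0 h),
        fun h => congrArg _ (hev h)⟩))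
    refine IsFractionRing.of_field _ _ fun z => ?_
    obtain ⟨z', rfl⟩ := hfun.2 z
    obtain ⟨a, b, -, rfl⟩ := IsFractionRing.div_surjective Γ(W, U) (z' : W.functionField)
    refine ⟨algebraMap _ B a, algebraMap _ B b, ?_⟩
    show rdu ξ (algebraMap _ W.functionField a / algebraMap _ W.functionField b) = evB _ / evB _
    rw [IsLocalization.lift_eq, IsLocalization.lift_eq]
    exact map_div₀ (f := rdu ξ) _ _
  -- the structure over the stalk and over A
  let ψ : Y.presheaf.stalk y →+* B :=
    IsLocalization.lift (M := M) (g := (algebraMap Γ(W, U) B).comp φ₀) fun a =>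
      IsLocalization.map_units B (⟨φ₀ a.1, a.1, a.2, rfl⟩ : Algebra.algebraMapSubmonoid Γ(W, U) M)
  have hψL : evB.comp ψ = ((g.residueFieldMap ξ).hom.comp (rdu η)).comp (spz hs) := by
    refine IsLocalization.ringHom_ext M (RingHom.ext fun a => ?_)
    show evB (ψ ((algebraMap Γ(Y, V) (Y.presheaf.stalk y)) a)) = _
    rw [IsLocalization.lift_eq]
    show evB (algebraMap _ B (φ₀ a)) = _
    rw [IsLocalization.lift_eq]
    show rdu ξ ((W.presheaf.germ U ξ hξU).hom (φ₀ a)) = (g.residueFieldMap ξ).hom (rdu η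
      ((Y.presheaf.stalkSpecializes hs).hom ((Y.presheaf.germ V y hyV).hom a)))
    rw [Y.presheaf.germ_stalkSpecializes_apply hyV hs,
      show (W.presheaf.germ U ξ hξU).hom (φ₀ a) = (g.stalkMap ξ).hom ((Y.presheaf.germ V η hξU).hom a) from
        (Scheme.Hom.germ_stalkMap_apply g V ξ hξU a).symm]
    exact (DFunLike.congr_fun (CommRingCat.hom_ext_iff.mp (Scheme.residue_residueFieldMap g ξ))
      ((Y.presheaf.germ V η hξU).hom a)).symm
  have hevB : Function.Injective evB := IsFractionRing.injective B L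
  let χ : A →+* B := Ideal.Quotient.lift _ ψ fun a ha => hevB (by
    rw [map_zero, show evB (ψ a) = (g.residueFieldMap ξ).hom (rdu η (spz hs a)) from DFunLike.congr_fun hψL a,
      show rdu η (spz hs a) = 0 from RingHom.mem_ker.1 ha, map_zero])
  letI : Algebra A B := χ.toAlgebra
  letI : Algebra A L := (evB.comp χ).toAlgebra
  haveI : IsScalarTower A B L := IsScalarTower.of_algebraMap_eq fun _ => rfl
  haveI : IsScalarTower A K L := IsScalarTower.of_algebraMap_eq fun a => by
    obtain ⟨a, rfl⟩ := Ideal.Quotient.mk_surjective a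
    exact DFunLike.congr_fun hψL a
  letI : Algebra (Y.presheaf.stalk y) B := ψ.toAlgebra
  haveI : IsScalarTower Γ(Y, V) (Y.presheaf.stalk y) B :=
    IsScalarTower.of_algebraMap_eq fun a => (IsLocalization.lift_eq _ a).symm
  haveI : Module.Finite (Y.presheaf.stalk y) B :=
    Module.Finite.of_isLocalization Γ(Y, V) Γ(W, U) (Rₚ := Y.presheaf.stalk y) (Sₚ := B) M
  haveI : IsScalarTower (Y.presheaf.stalk y) A B := IsScalarTower.of_algebraMap_eq fun _ => rfl
  haveI : Module.Finite A B := Module.Finite.of_restrictScalars_finite (Y.presheaf.stalk y) A B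
  have hinjA : Function.Injective (algebraMap A B) := fun a b h =>
    IsFractionRing.injective A K ((algebraMap K L).injective (by
      rw [← IsScalarTower.algebraMap_apply A K L, ← IsScalarTower.algebraMap_apply A K L,
        IsScalarTower.algebraMap_apply A B L, IsScalarTower.algebraMap_apply A B L, h]))
  -- the points over y
  let S := {w : W // g w = y}
  have hwU : ∀ w : S, w.1 ∈ U := fun w => show g w.1 ∈ V by rw [w.2]; exact hyV
  have hMw : ∀ (w : S) (a : Γ(Y, V)), a ∈ M → IsUnit ((W.presheaf.germ U w.1 (hwU w)).hom (φ₀ a)) := fun w a ha => by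
    refine (hgw w.1 (hwU w) a).2 ?_
    have h1 := ((hgy a).2 ha).map (Y.presheaf.stalkSpecializes (specializes_of_eq w.2 : g w.1 ⤳ y)).hom
    rwa [Y.presheaf.germ_stalkSpecializes_apply hyV] at h1
  let θ : (w : S) → B →+* W.presheaf.stalk w.1 := fun w =>
    IsLocalization.lift (M := Algebra.algebraMapSubmonoid Γ(W, U) M) (g := (W.presheaf.germ U w.1 (hwU w)).hom) (by
      rintro ⟨_, a, ha, rfl⟩; exact hMw w a ha)
  have hθ : ∀ (w : S) (a : Γ(W, U)), θ w (algebraMap _ B a) = (W.presheaf.germ U w.1 (hwU w)).hom a := fun w a =>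
    IsLocalization.lift_eq _ a
  have hθL : ∀ (w : S) (b : B), rdu ξ (spz (genericPoint_specializes w.1) (θ w b)) = evB b := by
    intro w b
    refine DFunLike.congr_fun (IsLocalization.ringHom_ext (Algebra.algebraMapSubmonoid Γ(W, U) M)
      (j := ((rdu ξ).comp (spz (genericPoint_specializes w.1))).comp (θ w)) (k := evB) (RingHom.ext fun a => ?_)) b
    show rdu ξ (spz _ (θ w (algebraMap _ B a))) = evB (algebraMap _ B a)
    rw [hθ, IsLocalization.lift_eq]
    exact congrArg (rdu ξ) (W.presheaf.germ_stalkSpecializes_apply (hwU w) (genericPoint_specializes w.1) a)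
  let q : S → PrimeSpectrum B := fun w => ⟨(IsLocalRing.maximalIdeal (W.presheaf.stalk w.1)).comap (θ w), inferInstance⟩
  have hq0 : ∀ (w : S), (q w).asIdeal.comap (algebraMap Γ(W, U) B) = (hU.primeIdealOf ⟨w.1, hwU w⟩).asIdeal := by
    intro w
    letI := (W.presheaf.germ U w.1 (hwU w)).hom.toAlgebra
    haveI := hU.isLocalization_stalk ⟨w.1, hwU w⟩
    ext a
    rw [Ideal.mem_comap, Ideal.mem_comap, hθ]
    exact IsLocalization.AtPrime.to_map_mem_maximal_iff (W.presheaf.stalk w.1) _ a
  have hloc : ∀ w : S, @IsLocalization B _ (q w).asIdeal.primeCompl (W.presheaf.stalk w.1) _ (θ w).toAlgebra := by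
    intro w
    letI := (W.presheaf.germ U w.1 (hwU w)).hom.toAlgebra
    haveI := hU.isLocalization_stalk ⟨w.1, hwU w⟩
    letI := (θ w).toAlgebra
    haveI : IsScalarTower Γ(W, U) B (W.presheaf.stalk w.1) := IsScalarTower.of_algebraMap_eq fun a => (hθ w a).symm
    let N := (hU.primeIdealOf ⟨w.1, hwU w⟩).asIdeal.primeCompl
    have hMN : Algebra.algebraMapSubmonoid Γ(W, U) M ≤ N := by
      rintro _ ⟨a, ha, rfl⟩ hmem
      exact (IsLocalRing.mem_maximalIdeal _).1
        ((IsLocalization.AtPrime.to_map_mem_maximal_iff (W.presheaf.stalk w.1) _ (φ₀ a)).2 hmem) (hMw w a ha)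
    haveI := IsLocalization.isLocalization_of_submonoid_le B (W.presheaf.stalk w.1) _ N hMN
    refine IsLocalization.isLocalization_of_is_exists_mul_mem (W.presheaf.stalk w.1)
      (N.map (algebraMap Γ(W, U) B)) _ ?_ ?_
    · rintro _ ⟨a, ha, rfl⟩
      exact fun hm => ha ((hq0 w).le hm)
    · rintro ⟨c, hc⟩
      obtain ⟨⟨a, s⟩, has⟩ := IsLocalization.surj (Algebra.algebraMapSubmonoid Γ(W, U) M) c
      refine ⟨algebraMap Γ(W, U) B s, a, fun ha => ?_, ?_⟩
      · have h1 : algebraMap Γ(W, U) B a ∈ (q w).asIdeal := (hq0 w).ge ha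
        rw [← has] at h1
        rcases (q w).2.mem_or_mem h1 with h2 | h2
        · exact hc h2
        · exact hMN s.2 ((hq0 w).le h2)
      · rw [← has]; exact mul_comm _ _
  haveI : Algebra.IsIntegral A B := inferInstance
  haveI : IsLocalRing A :=
    haveI : Nontrivial A := inferInstance
    IsLocalRing.of_surjective' (Ideal.Quotient.mk _) Ideal.Quotient.mk_surjective
  have he : ∀ w : S, (θ w).comp ψ = (g.stalkMap w.1).hom.comp (spz (specializes_of_eq w.2 : g w.1 ⤳ y)) := by
    intro w
    refine IsLocalization.ringHom_ext M (RingHom.ext fun c => ?_)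
    show θ w (ψ ((algebraMap Γ(Y, V) (Y.presheaf.stalk y)) c)) = (g.stalkMap w.1).hom
      ((Y.presheaf.stalkSpecializes (specializes_of_eq w.2 : g w.1 ⤳ y)).hom ((Y.presheaf.germ V y hyV).hom c))
    rw [IsLocalization.lift_eq, Y.presheaf.germ_stalkSpecializes_apply hyV]
    exact (hθ w _).trans (Scheme.Hom.germ_stalkMap_apply g V w.1 (hwU w) c).symm
  have hmax : ∀ w, (q w).asIdeal.IsMaximal := by
    intro w
    refine Ideal.isMaximal_of_isIntegral_of_isMaximal_comap (R := A) _ ?_
    haveI : (((q w).asIdeal).comap (algebraMap A B)).IsPrime := inferInstance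
    suffices h : IsLocalRing.maximalIdeal A ≤ (q w).asIdeal.comap (algebraMap A B) by
      rw [← (IsLocalRing.maximalIdeal.isMaximal A).eq_of_le Ideal.IsPrime.ne_top' h]
      exact IsLocalRing.maximalIdeal.isMaximal A
    intro a ha
    obtain ⟨a, rfl⟩ := Ideal.Quotient.mk_surjective a
    rw [Ideal.mem_comap]
    show θ w (ψ a) ∈ IsLocalRing.maximalIdeal _
    rw [show θ w (ψ a) = (g.stalkMap w.1).hom (spz (specializes_of_eq w.2) a) from DFunLike.congr_fun (he w) a,
      IsLocalRing.mem_maximalIdeal, mem_nonunits_iff, isUnit_map_iff]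
    intro hu
    refine (IsLocalRing.mem_maximalIdeal _).1 ha ((?_ : IsUnit a).map _)
    have h2 := hu.map (Y.presheaf.stalkSpecializes (specializes_of_eq w.2.symm : y ⤳ g w.1)).hom
    rwa [show (Y.presheaf.stalkSpecializes (specializes_of_eq w.2.symm)).hom (spz (specializes_of_eq w.2) a) = a by
      show (Y.presheaf.stalkSpecializes _ ≫ Y.presheaf.stalkSpecializes _).hom a = a
      rw [TopCat.Presheaf.stalkSpecializes_comp, TopCat.Presheaf.stalkSpecializes_refl]; rfl] at h2
  have hinjq : Function.Injective q := fun w w' h => by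
    have h1 : hU.primeIdealOf ⟨w.1, hwU w⟩ = hU.primeIdealOf ⟨w'.1, hwU w'⟩ :=
      PrimeSpectrum.ext (by rw [← hq0, ← hq0, h])
    have h2 := congrArg (hU.fromSpec ·) h1
    simp only [IsAffineOpen.fromSpec_primeIdealOf] at h2
    exact Subtype.ext h2
  have hsurj : ∀ P : PrimeSpectrum B, P.asIdeal.IsMaximal → ∃ w, q w = P := by
    intro P hP
    let P₀ : PrimeSpectrum Γ(W, U) := PrimeSpectrum.comap (algebraMap Γ(W, U) B) P
    let w₀ : W := hU.fromSpec P₀
    have hwU₀ : w₀ ∈ U := by
      have : w₀ ∈ Set.range hU.fromSpec := ⟨P₀, rfl⟩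
      rwa [hU.range_fromSpec] at this
    have hP0 : hU.primeIdealOf ⟨w₀, hwU₀⟩ = P₀ :=
      hU.fromSpec.isOpenEmbedding.injective (hU.fromSpec_primeIdealOf _)
    have hPA : P.asIdeal.comap (algebraMap A B) = IsLocalRing.maximalIdeal A := by
      haveI := hP
      haveI := Ideal.isMaximal_comap_of_isIntegral_of_isMaximal (R := A) P.asIdeal
      exact IsLocalRing.eq_maximalIdeal inferInstance
    have hgw0 : g w₀ = y := by
      have e : hV.primeIdealOf ⟨g w₀, hwU₀⟩ = p := by
        letI := (W.presheaf.germ U w₀ hwU₀).hom.toAlgebra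
        haveI := hU.isLocalization_stalk ⟨w₀, hwU₀⟩
        letI := (Y.presheaf.germ V (g w₀) hwU₀).hom.toAlgebra
        haveI := hV.isLocalization_stalk ⟨g w₀, hwU₀⟩
        refine PrimeSpectrum.ext (Ideal.ext fun a => not_iff_not.1 ?_)
        have h1 : a ∉ (hV.primeIdealOf ⟨g w₀, hwU₀⟩).asIdeal ↔ IsUnit ((Y.presheaf.germ V (g w₀) hwU₀).hom a) :=
          (IsLocalization.AtPrime.isUnit_to_map_iff (Y.presheaf.stalk (g w₀)) _ a).symm
        have h2 : IsUnit ((W.presheaf.germ U w₀ hwU₀).hom (φ₀ a)) ↔ φ₀ a ∉ P₀.asIdeal := by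
          rw [← hP0]
          exact IsLocalization.AtPrime.isUnit_to_map_iff (W.presheaf.stalk w₀) _ (φ₀ a)
        rw [h1, ← hgw w₀ hwU₀ a, h2, ← hgy a]
        refine (not_congr ?_).trans not_not
        show algebraMap Γ(W, U) B (φ₀ a) ∈ P.asIdeal ↔ ¬ IsUnit ((Y.presheaf.germ V y hyV).hom a)
        rw [show algebraMap Γ(W, U) B (φ₀ a) = algebraMap A B (Ideal.Quotient.mk _ ((Y.presheaf.germ V y hyV).hom a)) by
          show _ = ψ (algebraMap Γ(Y, V) (Y.presheaf.stalk y) a)
          exact (IsLocalization.lift_eq (S := Y.presheaf.stalk y) (M := p.asIdeal.primeCompl)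
            (g := (algebraMap Γ(W, U) B).comp φ₀) _ a).symm, ← Ideal.mem_comap, hPA, IsLocalRing.mem_maximalIdeal, mem_nonunits_iff]
        haveI : IsLocalHom (Ideal.Quotient.mk (RingHom.ker (Cyc.specMap y η hs))) :=
          .of_surjective _ Ideal.Quotient.mk_surjective
        exact not_congr (isUnit_map_iff (Ideal.Quotient.mk (RingHom.ker (Cyc.specMap y η hs))) _)
      have h2 := congrArg (hV.fromSpec ·) e
      simp only [p, IsAffineOpen.fromSpec_primeIdealOf] at h2
      exact h2
    refine ⟨⟨w₀, hgw0⟩, PrimeSpectrum.localization_comap_injective B (Algebra.algebraMapSubmonoid Γ(W, U) M)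
      (PrimeSpectrum.ext ?_)⟩
    show (q ⟨w₀, hgw0⟩).asIdeal.comap _ = P₀.asIdeal
    rw [hq0]
    exact congrArg PrimeSpectrum.asIdeal hP0
  haveI hSfin : Finite S := by
    have hf' := ((g ∣_ V).finite_preimage_singleton ⟨y, hyV⟩).image (Subtype.val : U → W)
    refine (hf'.subset fun w hw => ?_).to_subtype (s := {w : W | g w = y})
    have hwU' : w ∈ U := show g w ∈ V by rw [hw]; exact hyV
    refine ⟨⟨w, hwU'⟩, Subtype.ext ?_, rfl⟩
    refine Eq.trans ?_ hw
    exact congrArg (fun m => m ⟨w, hwU'⟩) (morphismRestrict_ι g V)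
  haveI : Fintype S := Fintype.ofFinite S
  let T : Finset (PrimeSpectrum B) := Finset.univ.image q
  have hT : ∀ P : PrimeSpectrum B, P.asIdeal.IsMaximal ↔ P ∈ T := fun P => by
    constructor
    · intro h
      obtain ⟨w, rfl⟩ := hsurj P h
      exact Finset.mem_image_of_mem q (Finset.mem_univ w)
    · intro h
      obtain ⟨w, -, rfl⟩ := Finset.mem_image.1 h
      exact hmax w
  have hdeg : ∀ w : S, Module.length A (B ⧸ (q w).asIdeal) = (g.residueDegree w.1 : ℕ∞) := by
    intro w
    haveI := hmax w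
    let F := W.residueField w.1
    let k := Y.residueField (g w.1)
    letI algk : Algebra k F := (g.residueFieldMap w.1).hom.toAlgebra
    let τ : Y.presheaf.stalk y →+* k := (rdu (g w.1)).comp (spz (specializes_of_eq w.2 : g w.1 ⤳ y))
    have hτ : Function.Surjective τ := by
      intro z
      obtain ⟨c, rfl⟩ : ∃ c, rdu (g w.1) c = z := Ideal.Quotient.mk_surjective z
      refine ⟨(Y.presheaf.stalkSpecializes (specializes_of_eq w.2.symm : y ⤳ g w.1)).hom c, congrArg (rdu (g w.1)) ?_⟩
      show (Y.presheaf.stalkSpecializes _ ≫ Y.presheaf.stalkSpecializes _).hom c = c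
      rw [TopCat.Presheaf.stalkSpecializes_comp, TopCat.Presheaf.stalkSpecializes_refl]; rfl
    letI : Algebra (Y.presheaf.stalk y) k := τ.toAlgebra
    letI : Algebra (Y.presheaf.stalk y) F := ((g.residueFieldMap w.1).hom.comp τ).toAlgebra
    haveI : IsScalarTower (Y.presheaf.stalk y) k F := IsScalarTower.of_algebraMap_eq fun _ => rfl
    let σ : B →ₐ[Y.presheaf.stalk y] F :=
      { (rdu w.1).comp (θ w) with
        commutes' := fun c => (congrArg (rdu w.1) (DFunLike.congr_fun (he w) c)).trans
          (DFunLike.congr_fun (CommRingCat.hom_ext_iff.mp (Scheme.residue_residueFieldMap g w.1))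
            (spz (specializes_of_eq w.2) c)).symm }
    have hσker : ∀ c, c ∈ (q w).asIdeal ↔ σ c = 0 := fun c =>
      (Ideal.Quotient.eq_zero_iff_mem (I := IsLocalRing.maximalIdeal (W.presheaf.stalk w.1)) (a := θ w c)).symm
    have hσ : Function.Surjective σ := by
      intro z
      obtain ⟨c, rfl⟩ : ∃ c, rdu w.1 c = z := Ideal.Quotient.mk_surjective z
      letI := (θ w).toAlgebra
      haveI := hloc w
      obtain ⟨⟨b, t⟩, hbt⟩ := IsLocalization.surj (q w).asIdeal.primeCompl c
      obtain ⟨t', z', hz', ht'⟩ := Ideal.IsMaximal.exists_inv (I := (q w).asIdeal) inferInstance t.2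
      refine ⟨b * t', ?_⟩
      have h1 : rdu w.1 (θ w t.1) * σ t' = 1 := by
        have h2 := congrArg σ ht'
        rw [map_add, map_mul, map_one, (hσker z').1 hz', add_zero, mul_comm] at h2
        exact h2
      have h3 : σ b = rdu w.1 c * rdu w.1 (θ w t.1) := by
        rw [← map_mul]; exact (congrArg (rdu w.1) hbt).symm
      rw [map_mul, h3, mul_assoc, h1, mul_one]
    haveI : Module.Finite (Y.presheaf.stalk y) F := Module.Finite.of_surjective σ.toLinearMap hσ
    haveI : Module.Finite k F := Module.Finite.of_restrictScalars_finite (Y.presheaf.stalk y) k F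
    calc Module.length A (B ⧸ (q w).asIdeal) = Module.length (Y.presheaf.stalk y) (B ⧸ (q w).asIdeal) :=
          (Module.length_eq_of_surjective (R := A) (M := B ⧸ (q w).asIdeal) (S := Y.presheaf.stalk y)
            Ideal.Quotient.mk_surjective).symm
      _ = Module.length (Y.presheaf.stalk y) F :=
          ((Ideal.quotientEquivAlgOfEq (Y.presheaf.stalk y) (Ideal.ext hσker : (q w).asIdeal = RingHom.ker σ)).toLinearEquiv.trans
            (Ideal.quotientKerAlgEquivOfSurjective hσ).toLinearEquiv).length_eq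
      _ = Module.length k F := Module.length_eq_of_surjective (R := k) (M := F) (S := Y.presheaf.stalk y) hτ
      _ = _ := Module.length_eq_finrank k F
  have key : ∀ b : B, b ≠ 0 →
      ∑ w : S, (g.residueDegree w.1 : ℤ) * Cyc.ordAt w.1 ξ (genericPoint_specializes w.1) (evB b) =
        Cyc.ordAt y η hs (Algebra.norm K (evB b)) := by
    intro b hb
    obtain ⟨hfin, hlen⟩ := CycNorm.length_quot_norm (A := A) (B := B) K L hinjA hb
    refine Eq.trans ?_ hlen
    have hflA := isFiniteLength_iff_isNoetherian_isArtinian.1 (Module.length_ne_top_iff.1 hfin.ne)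
    haveI := hflA.1
    haveI := hflA.2
    have hflB : IsFiniteLength B (B ⧸ Ideal.span {b}) :=
      isFiniteLength_iff_isNoetherian_isArtinian.2 ⟨isNoetherian_of_tower A inferInstance, isArtinian_of_tower A inferInstance⟩
    rw [CycNorm.length_eq_sum_lenAt T hT _ hflB, Finset.sum_image hinjq.injOn]
    have hterm : ∀ w : S, lenAt (q w) (B ⧸ Ideal.span {b}) =
        Module.length (W.presheaf.stalk w.1) (W.presheaf.stalk w.1 ⧸
          (genPrime (genericPoint_specializes w.1) ⊔ Ideal.span {θ w b})) := by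
      intro w
      letI := (θ w).toAlgebra
      haveI := hloc w
      rw [lenAt_quot_localization (S := W.presheaf.stalk w.1) (q w) (Ideal.span {b}), Ideal.map_span,
        Set.image_singleton]
      refine (Submodule.quotEquivOfEq _ _ ?_).length_eq
      have hbot : genPrime (genericPoint_specializes w.1) = ⊥ := by
        obtain ⟨z, hz, hzb⟩ := exists_genPrime_eq w.1 (⊥ : Ideal (W.presheaf.stalk w.1))
        exact eq_bot_iff.2 (hzb ▸ genPrime_mono (genericPoint_specializes z) hz)
      rw [hbot, bot_sup_eq]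
      rfl
    have hnotin : ∀ w : S, θ w b ∉ genPrime (genericPoint_specializes w.1) := fun w h0 => by
      have := RingHom.mem_ker.1 ((mem_genPrime_iff _ _).1 h0)
      exact hb (hevB ((hθL w b).symm.trans (this.trans (map_zero _).symm)))
    have hdW : ∀ w : S, δW ξ ≤ δW w.1 + 1 := fun w => by
      have := hlow w.1 w.2
      show δW (genericPoint W) ≤ _
      omega
    have hfinw : ∀ w : S, Module.length A (B ⧸ (q w).asIdeal) * lenAt (q w) (B ⧸ Ideal.span {b}) ≠ ⊤ := fun w => by
      rw [(hdeg w), hterm w]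
      exact WithTop.mul_ne_top (ENat.natCast_ne_top _)
        (CycPull.length_sup_lt_top hW (genericPoint_specializes w.1) (hdW w) (hnotin w)).ne
    rw [ENat.toNat_sum fun w _ => hfinw w, Nat.cast_sum]
    refine Finset.sum_congr rfl fun w _ => ?_
    rw [ENat.toNat_mul, Nat.cast_mul, (hdeg w), hterm w, ENat.toNat_natCast, ← hθL w b,
      ordAt_eq_length hW (genericPoint_specializes w.1) (hdW w) (hnotin w)]
  rw [finsum_eq_sum_of_fintype]
  show _ = Cyc.ordAt y η hs (Algebra.norm K f)
  obtain ⟨a, b, hb, rfl⟩ := IsFractionRing.div_surjective B f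
  have ha : a ≠ 0 := fun h => hf (by rw [h, map_zero, zero_div])
  have hb0 : b ≠ 0 := nonZeroDivisors.ne_zero hb
  have hA0 : evB a ≠ 0 := (map_ne_zero_iff _ hevB).2 ha
  have hB0 : evB b ≠ 0 := (map_ne_zero_iff _ hevB).2 hb0
  haveI : FiniteDimensional K L := by
    have hspan := CycNorm.span_range_eq_top A B K L
    refine Module.finite_def.2 ?_
    obtain ⟨s, hs'⟩ := (Module.Finite.fg_top : (⊤ : Submodule A B).FG)
    refine ⟨s.image (algebraMap B L), top_le_iff.1 (hspan.symm.le.trans ?_)⟩
    rw [Submodule.span_le]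
    rintro _ ⟨x, rfl⟩
    have : IsScalarTower.toAlgHom A B L x ∈
        Submodule.map (IsScalarTower.toAlgHom A B L).toLinearMap (Submodule.span A (s : Set B)) :=
      ⟨x, by rw [hs']; trivial, rfl⟩
    rw [Submodule.map_span] at this
    rw [Finset.coe_image]
    exact Submodule.span_subset_span A K _ this
  have hN : ∀ z : L, z ≠ 0 → Algebra.norm K z ≠ 0 := fun z hz h => hz (Algebra.norm_eq_zero_iff.1 h)
  have hmul := C1Cap.ordAt_mul hs (hN _ (div_ne_zero hA0 hB0)) (hN _ hB0)
  rw [← map_mul, div_mul_cancel₀ _ hB0, ← key a ha, ← key b hb0] at hmul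
  have hmul' : ∀ w : S, Cyc.ordAt w.1 ξ (genericPoint_specializes w.1) (evB a) =
      Cyc.ordAt w.1 ξ (genericPoint_specializes w.1) (evB a / evB b) +
        Cyc.ordAt w.1 ξ (genericPoint_specializes w.1) (evB b) := fun w => by
    rw [← C1Cap.ordAt_mul _ (div_ne_zero hA0 hB0) hB0, div_mul_cancel₀ _ hB0]
  rw [Finset.sum_congr rfl fun w _ => by rw [hmul' w, mul_add], Finset.sum_add_distrib] at hmul
  exact add_right_cancel hmul

end Groth.Agent.CycPush
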