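import Groth.Agent.CycDim.RatBasic
import Groth.Agent.CycDim.PullDiv
import Groth.Agent.CycDim.Norm
import Groth.Agent.WeilLib.Trdeg
import Mathlib

/-!
The affine line over an affine scheme of finite type over a field: points in the fibres and their divisors.
-/

set_option autoImplicit false
set_option linter.style.haveILetI false
set_option backward.isDefEq.respectTransparency false

universe u

open CategoryTheory AlgebraicGeometry TopologicalSpace
open Groth.Agent.C1Cap (rdu)
open Groth.Agent.CDivNormal (genPrime)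
open Groth.Agent.CycDeg (dl)

noncomputable section

namespace Groth.Agent.CycLine

section Poly

variable {A : Type u} [CommRing A] (p : Ideal A) [p.IsPrime]

open Polynomial

/-- Up to constants outside `p`, a prime over `p` other than `p A[T]` is generated by one polynomial modulo it. -/
theorem exists_generator (Q : Ideal A[X]) [Q.IsPrime] (hQ : Q.comap (C : A →+* A[X]) = p)
    (hne : Q ≠ p.map (C : A →+* A[X])) :
    ∃ P ∈ Q, P ∉ p.map (C : A →+* A[X]) ∧
      ∀ q ∈ Q, ∃ s : A, s ∉ p ∧ C s * q ∈ p.map (C : A →+* A[X]) ⊔ Ideal.span {P} := by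
  classical
  have hle : p.map (C : A →+* A[X]) ≤ Q := Ideal.map_le_iff_le_comap.2 hQ.ge
  have hex : ∃ n : ℕ, ∃ P ∈ Q, P ∉ p.map (C : A →+* A[X]) ∧ P.natDegree = n := by
    obtain ⟨P, hP, hP'⟩ := SetLike.not_le_iff_exists.1 fun h => hne (le_antisymm h hle)
    exact ⟨_, P, hP, hP', rfl⟩
  obtain ⟨P, hPQ, hP0, hPd⟩ := Nat.find_spec hex
  have hmin : ∀ q ∈ Q, q ∉ p.map (C : A →+* A[X]) → P.natDegree ≤ q.natDegree := fun q hq hq' =>
    hPd ▸ Nat.find_min' hex ⟨q, hq, hq', rfl⟩
  have hd : 0 < P.natDegree := by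
    by_contra h
    obtain ⟨a, ha⟩ := Polynomial.natDegree_eq_zero.1 (Nat.eq_zero_of_le_zero (not_lt.1 h))
    exact hP0 (ha ▸ Ideal.mem_map_of_mem _ (hQ.le (show C a ∈ Q from ha ▸ hPQ)))
  have hl : P.leadingCoeff ∉ p := by
    intro hl
    have hmem : C P.leadingCoeff * X ^ P.natDegree ∈ p.map (C : A →+* A[X]) :=
      Ideal.mul_mem_right _ _ (Ideal.mem_map_of_mem _ hl)
    have he : P.eraseLead + C P.leadingCoeff * X ^ P.natDegree = P := P.eraseLead_add_C_mul_X_pow
    have h1 : P.eraseLead ∈ Q := by
      rw [show P.eraseLead = P - C P.leadingCoeff * X ^ P.natDegree from eq_sub_of_add_eq he]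
      exact Ideal.sub_mem _ hPQ (hle hmem)
    have h2 : P.eraseLead ∉ p.map (C : A →+* A[X]) := fun h => hP0 (he ▸ Ideal.add_mem _ h hmem)
    have := hmin _ h1 h2
    have := P.eraseLead_natDegree_le
    omega
  refine ⟨P, hPQ, hP0, ?_⟩
  suffices H : ∀ (n : ℕ) (q : A[X]), q.natDegree ≤ n → q ∈ Q →
      ∃ s : A, s ∉ p ∧ C s * q ∈ p.map (C : A →+* A[X]) ⊔ Ideal.span {P} from fun q hq => H _ q le_rfl hq
  intro n
  induction n using Nat.strong_induction_on with
  | _ n ih =>
    intro q hqn hq
    by_cases hq0 : q ∈ p.map (C : A →+* A[X])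
    · exact ⟨1, fun h => Ideal.IsPrime.ne_top ‹_› ((Ideal.eq_top_iff_one p).2 h),
        by rw [map_one, one_mul]; exact Ideal.mem_sup_left hq0⟩
    have hdq := hmin q hq hq0
    let m := q.natDegree
    let q' := C P.leadingCoeff * q - C q.leadingCoeff * X ^ (m - P.natDegree) * P
    have hq'Q : q' ∈ Q := Ideal.sub_mem _ (Ideal.mul_mem_left _ _ hq) (Ideal.mul_mem_left _ _ hPQ)
    have hcoeff : q'.coeff m = 0 := by
      simp only [q', coeff_sub, coeff_C_mul, mul_assoc, coeff_X_pow_mul']
      rw [if_pos (Nat.sub_le _ _), show m - (m - P.natDegree) = P.natDegree by omega]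
      show P.leadingCoeff * q.leadingCoeff - q.leadingCoeff * P.leadingCoeff = 0
      ring
    have hle' : q'.natDegree ≤ m := by
      refine (natDegree_sub_le _ _).trans (max_le (natDegree_C_mul_le _ _) ?_)
      refine natDegree_mul_le.trans ?_
      refine (Nat.add_le_add_right ((natDegree_C_mul_le _ _).trans (natDegree_X_pow_le _)) _).trans ?_
      omega
    have hlt : q'.natDegree < m := by
      rcases eq_or_lt_of_le hle' with h | h
      · exfalso
        have h0 : q' = 0 := by
          by_contra hne'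
          refine Polynomial.leadingCoeff_ne_zero.2 hne' ?_
          rw [Polynomial.leadingCoeff, h, hcoeff]
        rw [h0, natDegree_zero] at h
        omega
      · exact h
    obtain ⟨s, hs, hsq⟩ := ih q'.natDegree (lt_of_lt_of_le hlt hqn) q' le_rfl hq'Q
    refine ⟨s * P.leadingCoeff, fun h => (Ideal.IsPrime.mem_or_mem ‹_› h).elim hs hl, ?_⟩
    have : C (s * P.leadingCoeff) * q = C s * q' + C s * C q.leadingCoeff * X ^ (m - P.natDegree) * P := by
      simp only [q', map_mul]; ring
    rw [this]
    exact Ideal.add_mem _ hsq (Ideal.mem_sup_right (Ideal.mul_mem_left _ _ (Ideal.mem_span_singleton_self P)))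

end Poly

section Spec

/-- The map to a stalk of a spectrum. -/
def toStk {R : CommRingCat.{u}} (x : Spec R) : R →+* (Spec R).presheaf.stalk x :=
  ((Scheme.ΓSpecIso R).inv ≫ (Spec R).presheaf.germ ⊤ x trivial).hom

theorem stalkMap_toStk {R S : CommRingCat.{u}} (φ : R ⟶ S) (x : Spec S) (a : R) :
    ((Spec.map φ).stalkMap x).hom (toStk ((Spec.map φ) x) a) = toStk x (φ a) := by
  refine (Scheme.Hom.germ_stalkMap_apply (Spec.map φ) ⊤ x trivial ((Scheme.ΓSpecIso R).inv a)).trans ?_
  exact congrArg ((Spec S).presheaf.germ ⊤ x trivial).hom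
    (DFunLike.congr_fun (CommRingCat.hom_ext_iff.mp (Scheme.ΓSpecIso_inv_naturality φ)) a).symm

theorem spz_toStk {R : CommRingCat.{u}} {ξ x : Spec R} (h : ξ ⤳ x) (a : R) :
    ((Spec R).presheaf.stalkSpecializes h).hom (toStk x a) = toStk ξ a :=
  TopCat.Presheaf.germ_stalkSpecializes_apply (F := (Spec R).presheaf) (U := ⊤) (y := x) trivial h _

theorem isUnit_toStk_iff {R : CommRingCat.{u}} (x : Spec R) (a : R) : IsUnit (toStk x a) ↔ a ∉ x.asIdeal := by
  have e : toStk x a = (Spec.stalkIso R x).inv.hom (algebraMap R (Localization.AtPrime x.asIdeal) a) :=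
    (DFunLike.congr_fun (CommRingCat.hom_ext_iff.mp (Spec.algebraMap_stalkIso_inv x)) a).symm
  rw [e]
  exact (isUnit_map_iff (Spec.stalkIso R x).symm.commRingCatIsoToRingEquiv _).trans
    (IsLocalization.AtPrime.isUnit_to_map_iff (Localization.AtPrime x.asIdeal) x.asIdeal a)

theorem exists_eq_frac {R : CommRingCat.{u}} (x : Spec R) (z : (Spec R).presheaf.stalk x) :
    ∃ a b : R, b ∉ x.asIdeal ∧ z * toStk x b = toStk x a := by
  let e := (Spec.stalkIso R x).commRingCatIsoToRingEquiv
  obtain ⟨⟨a, b⟩, hab⟩ := IsLocalization.surj x.asIdeal.primeCompl (e z)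
  refine ⟨a, b.1, b.2, e.injective ?_⟩
  have he : ∀ c, e (toStk x c) = algebraMap R (Localization.AtPrime x.asIdeal) c := fun c => by
    rw [← e.apply_symm_apply (algebraMap R (Localization.AtPrime x.asIdeal) c)]
    exact congrArg e (DFunLike.congr_fun (CommRingCat.hom_ext_iff.mp (Spec.algebraMap_stalkIso_inv x)) c).symm
  rw [map_mul, he, he]
  exact hab

theorem topologicalKrullDim_closure {R : CommRingCat.{u}} (x : Spec R) :
    topologicalKrullDim ↥(closure ({x} : Set (Spec R))) = ringKrullDim (R ⧸ x.asIdeal) := by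
  have hemb := PrimeSpectrum.isClosedEmbedding_comap_of_surjective _ (Ideal.Quotient.mk x.asIdeal)
    Ideal.Quotient.mk_surjective
  have hr : Set.range (PrimeSpectrum.comap (Ideal.Quotient.mk x.asIdeal)) = closure ({x} : Set (PrimeSpectrum R)) := by
    rw [range_comap_of_surjective _ _ Ideal.Quotient.mk_surjective, Ideal.mk_ker,
      PrimeSpectrum.closure_singleton]
  rw [← PrimeSpectrum.topologicalKrullDim_eq_ringKrullDim]
  exact (IsHomeomorph.topologicalKrullDim_eq _
    (hemb.isEmbedding.toHomeomorph.trans (Homeomorph.setCongr hr)).isHomeomorph).symm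

theorem pdim_spec {K : Type u} [Field K] {R : CommRingCat.{u}} (c : Spec R ⟶ Spec (CommRingCat.of K))
    [LocallyOfFiniteType c] (x : Spec R) :
    ringKrullDim (R ⧸ x.asIdeal) = (WeilCoh.pdim (Spec R) x : WithBot ℕ∞) := by
  have h := (WeilLib.exists_pdim_eq_trd c x).2
  rw [← topologicalKrullDim_closure, BMCoh.topologicalKrullDim_closure_singleton, h]
  rfl

end Spec

variable {K : Type u} [Field K] {A : Type u} [CommRing A] [IsNoetherianRing A]

/-- The projection of the line. -/
abbrev proj (A : Type u) [CommRing A] : Spec (CommRingCat.of (Polynomial A)) ⟶ Spec (CommRingCat.of A) :=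
  Spec.map (CommRingCat.ofHom Polynomial.C)

instance : LocallyOfFiniteType (proj A) :=
  (HasRingHomProperty.Spec_iff (P := @LocallyOfFiniteType)).2
    (RingHom.finiteType_algebraMap.2 (inferInstance : Algebra.FiniteType A (Polynomial A)))

instance : Flat (proj A) :=
  Flat.SpecMap_iff.2 (RingHom.flat_algebraMap_iff.2 (inferInstance : Module.Flat A (Polynomial A)))

/-- The generic point of a fibre of the line. -/
def gen (η : Spec (CommRingCat.of A)) : Spec (CommRingCat.of (Polynomial A)) :=
  ⟨η.asIdeal.map Polynomial.C, Ideal.isPrime_map_C_of_isPrime⟩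

theorem proj_gen (η : Spec (CommRingCat.of A)) : proj A (gen η) = η := by
  refine PrimeSpectrum.ext (le_antisymm (fun a ha => ?_) Ideal.le_comap_map)
  have := Ideal.mem_map_C_iff.1 ha 0
  simpa using this

theorem gen_spec (w : Spec (CommRingCat.of (Polynomial A))) : gen (proj A w) ⤳ w :=
  (PrimeSpectrum.le_iff_specializes _ _).1 (Ideal.map_comap_le (f := (Polynomial.C : A →+* Polynomial A)))

theorem eq_gen_of_fibMax {w : Spec (CommRingCat.of (Polynomial A))} (hw : EquidimPt.IsFibMax (proj A) w) :
    w = gen (proj A w) :=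
  (hw _ (proj_gen _) (gen_spec w)).symm

variable (cX : Spec (CommRingCat.of A) ⟶ Spec (CommRingCat.of K)) [LocallyOfFiniteType cX]
include cX

theorem dl_gen (η : Spec (CommRingCat.of A)) : dl _ (gen η) = dl _ η + 1 := by
  have h1 := pdim_spec cX η
  have h2 := pdim_spec (R := CommRingCat.of (Polynomial A)) (proj A ≫ cX) (gen η)
  have h3 : ringKrullDim (Polynomial A ⧸ (gen η).asIdeal) = ringKrullDim (A ⧸ η.asIdeal) + 1 := by
    rw [← Polynomial.ringKrullDim_of_isNoetherianRing,
      ringKrullDim_eq_of_ringEquiv η.asIdeal.polynomialQuotientEquivQuotientPolynomial]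
    rfl
  have h4 : (WeilCoh.pdim _ (gen η) : WithBot ℕ∞) = (WeilCoh.pdim _ η : WithBot ℕ∞) + 1 := by
    rw [← h1, ← h2]; exact h3
  have h5 : WeilCoh.pdim _ (gen η) = WeilCoh.pdim _ η + 1 := by exact_mod_cast h4
  simp only [dl]
  omega

theorem isDimFun_line : Cyc.IsDimFun _ (dl (Spec (CommRingCat.of (Polynomial A)))) :=
  CycDeg.isDimFun_dl (proj A ≫ cX)

theorem dl_cases (w : Spec (CommRingCat.of (Polynomial A))) (hw : w ≠ gen (proj A w)) :
    dl _ w = dl _ (proj A w) := by
  have h1 := WeilLib.pdim_lt (proj A ≫ cX) (gen_spec w) hw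
  have h2 := dl_gen cX (proj A w)
  obtain ⟨n, -, hn⟩ := CycDeg.deltaCompat_over (proj A ≫ cX) cX (proj A) rfl w
  simp only [dl] at h2 hn ⊢
  omega

theorem shift_line (w : Spec (CommRingCat.of (Polynomial A))) (hw : EquidimPt.IsFibMax (proj A) w) :
    dl _ w = dl _ (proj A w) + 1 := by
  have h := dl_gen cX (proj A w)
  rwa [← eq_gen_of_fibMax hw] at h

omit cX in
theorem length_gen (η : Spec (CommRingCat.of A)) :
    Module.length ((Spec (CommRingCat.of (Polynomial A))).presheaf.stalk (gen η))
      ((Spec (CommRingCat.of (Polynomial A))).presheaf.stalk (gen η) ⧸ Ideal.map ((proj A).stalkMap (gen η)).hom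
        (IsLocalRing.maximalIdeal ((Spec (CommRingCat.of A)).presheaf.stalk (proj A (gen η))))) = 1 := by
  have hmax : Ideal.map ((proj A).stalkMap (gen η)).hom
      (IsLocalRing.maximalIdeal ((Spec (CommRingCat.of A)).presheaf.stalk (proj A (gen η)))) =
      IsLocalRing.maximalIdeal ((Spec (CommRingCat.of (Polynomial A))).presheaf.stalk (gen η)) := by
    refine le_antisymm (IsLocalRing.map_maximalIdeal_le _) fun z hz => ?_
    obtain ⟨a, b, hb, hab⟩ := exists_eq_frac (gen η) z
    have hu : IsUnit (toStk (gen η) b) := (isUnit_toStk_iff _ _).2 hb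
    refine (Ideal.mul_unit_mem_iff_mem _ hu).1 ?_
    rw [hab]
    have ha : a ∈ (gen η).asIdeal := by
      by_contra hna
      have h := (isUnit_toStk_iff (gen η) a).2 hna
      rw [← hab] at h
      exact (IsLocalRing.mem_maximalIdeal z).1 hz (isUnit_of_mul_isUnit_left h)
    change a ∈ Ideal.map Polynomial.C η.asIdeal at ha
    refine Submodule.span_induction (p := fun a _ => toStk (gen η) a ∈ _) ?_ ?_ (fun a b _ _ h1 h2 => ?_)
      (fun a b _ h => ?_) ha
    · rintro _ ⟨c, hc, rfl⟩
      rw [show toStk (gen η) (Polynomial.C c) =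
        ((proj A).stalkMap (gen η)).hom (toStk (proj A (gen η)) c) from (stalkMap_toStk _ _ c).symm]
      refine Ideal.mem_map_of_mem _ ((IsLocalRing.mem_maximalIdeal _).2 fun h => ?_)
      rw [proj_gen] at h
      exact (isUnit_toStk_iff η c).1 h hc
    · rw [map_zero]; exact zero_mem _
    · rw [map_add]; exact add_mem h1 h2
    · rw [smul_eq_mul, map_mul]; exact Ideal.mul_mem_left _ _ h
  rw [hmax, Module.length_eq_one_iff]
  exact isSimpleModule_iff_isCoatom.2 (IsLocalRing.maximalIdeal.isMaximal _).out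

theorem pullFun_pt (η : Spec (CommRingCat.of A)) (x : Spec (CommRingCat.of (Polynomial A))) [Decidable (x = gen η)] :
    Cyc.pullFun (proj A) (dl _) (dl _) 1 ⇑(CycRat.pt η) x = if x = gen η then 1 else 0 := by
  classical
  unfold Cyc.pullFun
  by_cases hx : x = gen η
  · subst hx
    rw [if_pos (by rw [dl_gen cX η, proj_gen]), if_pos rfl, length_gen, CycRat.pt_apply, proj_gen, if_pos rfl]
    rfl
  · rw [if_neg hx]
    split
    · next h =>
      have hxg : x = gen (proj A x) := by
        by_contra hne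
        rw [dl_cases cX x hne] at h
        omega
      rw [CycRat.pt_apply, if_neg fun e => hx (by rw [hxg, e]), zero_mul]
    · rfl

/-- A point of a fibre of the line which is not generic is, up to points in other fibres, a principal divisor. -/
theorem exists_div (w : Spec (CommRingCat.of (Polynomial A))) (hw : w ≠ gen (proj A w)) :
    ∃ g : (Spec (CommRingCat.of (Polynomial A))).residueField (gen (proj A w)), g ≠ 0 ∧
      Cyc.divFun (dl _) (gen (proj A w)) g w = 1 ∧
      ∀ x, x ≠ w → Cyc.divFun (dl _) (gen (proj A w)) g x ≠ 0 →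
        x = gen (proj A x) ∧ dl _ (proj A x) + 1 = dl _ (proj A w) := by
  classical
  let ζ := gen (proj A w)
  obtain ⟨P, hPw, hP0, hgen⟩ := exists_generator (proj A w).asIdeal w.asIdeal rfl
    (fun h => hw (PrimeSpectrum.ext h))
  let g : (Spec (CommRingCat.of (Polynomial A))).residueField ζ := rdu ζ (toStk ζ P)
  have hg : g ≠ 0 := fun h =>
    (IsLocalRing.mem_maximalIdeal _).1 ((IsLocalRing.residue_eq_zero_iff _).1 h) ((isUnit_toStk_iff ζ P).2 hP0)
  have hY := isDimFun_line cX (A := A)
  haveI : IsLocallyNoetherian (Spec (CommRingCat.of (Polynomial A))) := inferInstance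
  have hdζ : dl _ ζ = dl _ w + 1 := by rw [dl_gen cX (proj A w), dl_cases cX w hw]
  have hspec : ∀ (x : Spec (CommRingCat.of (Polynomial A))) (h : ζ ⤳ x),
      g = rdu ζ (((Spec (CommRingCat.of (Polynomial A))).presheaf.stalkSpecializes h).hom (toStk x P)) :=
    fun x h => congrArg (rdu ζ) (spz_toStk h P).symm
  refine ⟨g, hg, ?_, fun x hxw hx => ?_⟩
  · unfold Cyc.divFun
    rw [dif_pos ⟨gen_spec w, hdζ.symm⟩, hspec w (gen_spec w)]
    have hnot : toStk w P ∉ genPrime (gen_spec w) := fun h => hg (by
      rw [hspec w (gen_spec w)]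
      exact RingHom.mem_ker.1 ((CycDim.mem_genPrime_iff _ _).1 h))
    refine (CycPull.ordAt_eq_length hY (gen_spec w) hdζ.le hnot).trans ?_
    have hJ : genPrime (gen_spec w) ⊔ Ideal.span {toStk w P} =
        IsLocalRing.maximalIdeal ((Spec (CommRingCat.of (Polynomial A))).presheaf.stalk w) := by
      refine le_antisymm (sup_le (IsLocalRing.le_maximalIdeal fun htop => ?_)
        ((Ideal.span_singleton_le_iff_mem _).2 ?_)) fun z hz => ?_
      · exact hnot (htop ▸ Submodule.mem_top)
      · exact (IsLocalRing.mem_maximalIdeal _).2 fun h => (isUnit_toStk_iff w P).1 h hPw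
      obtain ⟨a, b, hb, hab⟩ := exists_eq_frac w z
      have ha : a ∈ w.asIdeal := by
        by_contra hna
        have h := (isUnit_toStk_iff w a).2 hna
        rw [← hab] at h
        exact (IsLocalRing.mem_maximalIdeal z).1 hz (isUnit_of_mul_isUnit_left h)
      obtain ⟨s, hs, hsa⟩ := hgen a ha
      have hsu : IsUnit (toStk w (Polynomial.C s)) := (isUnit_toStk_iff _ _).2 hs
      refine (Ideal.mul_unit_mem_iff_mem _ ((isUnit_toStk_iff w b).2 hb)).1 ?_
      rw [hab]
      refine (Ideal.unit_mul_mem_iff_mem _ hsu).1 ?_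
      rw [← map_mul]
      have h0 := Ideal.mem_map_of_mem (toStk w) hsa
      refine (show Ideal.map (toStk w) ((proj A w).asIdeal.map Polynomial.C ⊔ Ideal.span {P}) ≤ _ from ?_) h0
      rw [Ideal.map_sup, Ideal.map_span, Set.image_singleton]
      refine sup_le (le_trans ?_ le_sup_left) le_sup_right
      rw [Ideal.map_le_iff_le_comap]
      intro c hc
      refine (CycDim.mem_genPrime_iff _ _).2 (RingHom.mem_ker.2 ?_)
      show rdu ζ (((Spec (CommRingCat.of (Polynomial A))).presheaf.stalkSpecializes (gen_spec w)).hom (toStk w c)) = 0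
      rw [spz_toStk]
      exact (IsLocalRing.residue_eq_zero_iff _).2
        ((IsLocalRing.mem_maximalIdeal _).2 fun h => (isUnit_toStk_iff ζ c).1 h hc)
    rw [hJ, Module.length_eq_one_iff.2 (isSimpleModule_iff_isCoatom.2 (IsLocalRing.maximalIdeal.isMaximal _).out)]
    rfl
  · obtain ⟨hζx, hdx⟩ := CycDeg.divFun_delta hx
    have hd : dl _ x = dl _ w := by
      have h3 : dl _ (gen (proj A w)) = dl _ w + 1 := hdζ
      omega
    have hPx : P ∈ x.asIdeal := by
      by_contra hP
      unfold Cyc.divFun at hx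
      rw [dif_pos ⟨hζx, hdx⟩, hspec x hζx] at hx
      exact hx (C1Cap.ordAt_unit hζx ((isUnit_toStk_iff x P).2 hP))
    have hηx : proj A w ⤳ proj A x := by
      have := hζx.map (proj A).continuous
      rwa [proj_gen] at this
    by_cases he : proj A x = proj A w
    · exfalso
      have hxg : x ≠ gen (proj A x) := fun h => hP0 (by
        have h' : (proj A x).asIdeal.map Polynomial.C = x.asIdeal := (congrArg PrimeSpectrum.asIdeal h).symm
        rw [← he, h']; exact hPx)
      have hwx : w.asIdeal ≤ x.asIdeal := fun q hq => by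
        obtain ⟨s, hs, hsq⟩ := hgen q hq
        have hle : (proj A w).asIdeal.map Polynomial.C ⊔ Ideal.span {P} ≤ x.asIdeal := by
          refine sup_le ?_ ((Ideal.span_singleton_le_iff_mem _).2 hPx)
          rw [Ideal.map_le_iff_le_comap, ← he]
          exact le_refl _
        refine (x.2.mem_or_mem (hle hsq)).resolve_left fun h => hs ?_
        rw [← he]
        exact h
      exact hxw (CycDim.eq_of_delta_le hY ((PrimeSpectrum.le_iff_specializes _ _).1 hwx) hd.symm.le).symm
    · have h1 := WeilLib.pdim_lt cX hηx he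
      have hxg : x = gen (proj A x) := by
        by_contra hne
        have h2 := dl_cases cX x hne
        rw [hd, dl_cases cX w hw] at h2
        simp only [dl] at h2
        omega
      refine ⟨hxg, ?_⟩
      have h2 : dl _ x = dl _ (proj A x) + 1 := (congrArg (dl _) hxg).trans (dl_gen cX (proj A x))
      rw [hd, dl_cases cX w hw] at h2
      omega

end Groth.Agent.CycLine
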