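import Groth.Agent.CycDim.Norm

/-!
Local lengths of a module over a finite algebra, pushed down to the base: the length at a prime `p` of the base is
the sum over the primes above `p` of the local lengths times the residue degrees.
-/

set_option autoImplicit false
set_option linter.style.haveILetI false

universe u

noncomputable section

namespace Groth.Agent.CycNorm

open CycDim (lenAt)

section General

variable {A : Type u} [CommRing A]

/-- `lenAt` computed in any localization at the prime. -/
theorem lenAt_eq_length (p : PrimeSpectrum A) (R : Type u) [CommRing R] [Algebra A R]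
    [IsLocalization.AtPrime R p.asIdeal] {M : Type u} [AddCommGroup M] [Module A M] {N : Type u} [AddCommGroup N]
    [Module A N] [Module R N] [IsScalarTower A R N] (g : M →ₗ[A] N) [IsLocalizedModule p.asIdeal.primeCompl g] :
    lenAt p M = Module.length R N := by
  let e₁ : Localization.AtPrime p.asIdeal ≃ₐ[A] R := IsLocalization.algEquiv p.asIdeal.primeCompl _ _
  letI : Algebra (Localization.AtPrime p.asIdeal) R := e₁.toAlgHom.toRingHom.toAlgebra
  letI : Module (Localization.AtPrime p.asIdeal) N := Module.compHom N e₁.toAlgHom.toRingHom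
  haveI : IsScalarTower (Localization.AtPrime p.asIdeal) R N := ⟨fun a r n => mul_smul (e₁ a) r n⟩
  haveI : IsScalarTower A (Localization.AtPrime p.asIdeal) N := ⟨fun a r n => by
    change e₁ (a • r) • n = a • (e₁ r • n)
    rw [map_smul, smul_assoc]⟩
  let e : LocalizedModule p.asIdeal.primeCompl M ≃ₗ[Localization.AtPrime p.asIdeal] N :=
    (IsLocalizedModule.iso p.asIdeal.primeCompl g).extendScalarsOfIsLocalization p.asIdeal.primeCompl _
  rw [lenAt, e.length_eq]
  exact Module.length_eq_of_surjective e₁.surjective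

theorem lenAt_of_subsingleton (p : PrimeSpectrum A) (M : Type u) [AddCommGroup M] [Module A M] [Subsingleton M] :
    lenAt p M = 0 := by
  rw [lenAt, Module.length_eq_zero_iff]
  exact LocalizedModule.subsingleton_iff.2 fun m => ⟨1, p.asIdeal.primeCompl.one_mem, Subsingleton.elim _ _⟩

theorem lenAt_of_killed (p : PrimeSpectrum A) {M : Type u} [AddCommGroup M] [Module A M] {a : A}
    (ha : a ∉ p.asIdeal) (h : ∀ m : M, a • m = 0) : lenAt p M = 0 := by
  rw [lenAt, Module.length_eq_zero_iff]
  exact LocalizedModule.subsingleton_iff.2 fun m => ⟨a, ha, h m⟩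

end General

section Algebra

variable {A C : Type u} [CommRing A] [CommRing C] [Algebra A C]

/-- The length at `p` of a module over a finite algebra all whose primes in question lie exactly over `p`. -/
theorem lenAt_eq_sum [IsNoetherianRing C] [Algebra.IsIntegral A C] (p : PrimeSpectrum A)
    (hdeep : ∀ Q : PrimeSpectrum C, Q.asIdeal.comap (algebraMap A C) ≤ p.asIdeal →
      Q.asIdeal.comap (algebraMap A C) = p.asIdeal)
    (T : Finset (PrimeSpectrum C)) (hT : ∀ Q : PrimeSpectrum C, Q ∈ T ↔ Q.asIdeal.comap (algebraMap A C) = p.asIdeal)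
    (M : Type u) [AddCommGroup M] [Module C M] [Module.Finite C M] [Module A M] [IsScalarTower A C M] :
    lenAt p M = ∑ Q ∈ T, lenAt p (C ⧸ Q.asIdeal) * lenAt Q M ∧ ∀ Q ∈ T, lenAt Q M ≠ ⊤ := by
  classical
  suffices H : ∀ [Module A M] [IsScalarTower A C M],
      lenAt p M = ∑ Q ∈ T, lenAt p (C ⧸ Q.asIdeal) * lenAt Q M ∧ ∀ Q ∈ T, lenAt Q M ≠ ⊤ from H
  clear * - hdeep hT
  induction ‹Module.Finite C M› using IsNoetherianRing.induction_on_isQuotientEquivQuotientPrime C with
  | subsingleton N =>
    intro _ _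
    refine ⟨?_, fun Q _ => by rw [lenAt_of_subsingleton]; exact ENat.zero_ne_top⟩
    rw [lenAt_of_subsingleton]
    exact (Finset.sum_eq_zero fun Q _ => by rw [lenAt_of_subsingleton Q N, mul_zero]).symm
  | quotient N q e =>
    intro _ _
    have hN : lenAt p N = lenAt p (C ⧸ q.asIdeal) := lenAt_congr' p (e.restrictScalars A)
    have hQ : ∀ Q ∈ T, lenAt Q N = if Q = q then 1 else 0 := by
      intro Q hQT
      rw [lenAt_congr' Q e]
      split
      · next h => subst h; exact lenAt_self Q
      · next h =>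
        refine lenAt_of_not_le fun hle => h (PrimeSpectrum.ext ?_)
        by_contra hne
        obtain ⟨x, hxQ, hxq⟩ := SetLike.exists_of_lt (lt_of_le_of_ne hle (fun e' => hne e'.symm))
        have hlt := Ideal.comap_lt_comap_of_integral_mem_sdiff (R := A) hle ⟨hxQ, hxq⟩
          (Algebra.IsIntegral.isIntegral x)
        rw [(hT Q).1 hQT] at hlt
        exact hlt.ne (hdeep q hlt.le)
    refine ⟨?_, fun Q hQT => by rw [hQ Q hQT]; split <;> simp⟩
    rw [hN, Finset.sum_congr rfl fun Q hQT => by rw [hQ Q hQT]]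
    simp only [mul_ite, mul_one, mul_zero, Finset.sum_ite_eq']
    split
    · rfl
    · next hq =>
      have hnle : ¬ q.asIdeal.comap (algebraMap A C) ≤ p.asIdeal := fun hle => hq ((hT q).2 (hdeep q hle))
      obtain ⟨a, haq, hap⟩ := SetLike.not_le_iff_exists.1 hnle
      refine lenAt_of_killed p hap fun m => ?_
      obtain ⟨b, rfl⟩ := Ideal.Quotient.mk_surjective m
      rw [← Ideal.Quotient.mkₐ_eq_mk A, ← map_smul, Ideal.Quotient.mkₐ_eq_mk, Ideal.Quotient.eq_zero_iff_mem,
        Algebra.smul_def]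
      exact q.asIdeal.mul_mem_right _ haq
  | exact N₁ N₂ N₃ f g hf hg hfg h₁ h₃ =>
    intro _ _
    letI : Module A N₁ := Module.compHom N₁ (algebraMap A C)
    letI : Module A N₃ := Module.compHom N₃ (algebraMap A C)
    haveI : IsScalarTower A C N₁ := IsScalarTower.of_algebraMap_smul fun _ _ => rfl
    haveI : IsScalarTower A C N₃ := IsScalarTower.of_algebraMap_smul fun _ _ => rfl
    obtain ⟨e₁, t₁⟩ := @h₁ _ _
    obtain ⟨e₃, t₃⟩ := @h₃ _ _
    have hadd : ∀ Q : PrimeSpectrum C, lenAt Q N₂ = lenAt Q N₁ + lenAt Q N₃ := fun Q => lenAt_add' Q f g hf hg hfg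
    refine ⟨?_, fun Q hQT => by rw [hadd Q]; exact WithTop.add_ne_top.2 ⟨t₁ Q hQT, t₃ Q hQT⟩⟩
    rw [lenAt_add' p (f.restrictScalars A) (g.restrictScalars A) hf hg hfg, e₁, e₃, ← Finset.sum_add_distrib]
    exact Finset.sum_congr rfl fun Q _ => by rw [hadd Q, mul_add]

/-- The length at `p` of the quotient by a prime above `p`, through a residue field. -/
theorem lenAt_quot_eq_length [Module.Finite A C] (p : PrimeSpectrum A) (Q : PrimeSpectrum C)
    (hQ : Q.asIdeal.comap (algebraMap A C) = p.asIdeal) (R : Type u) [CommRing R] [Algebra A R]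
    [IsLocalization.AtPrime R p.asIdeal] (K : Type u) [Field K] [Algebra R K] (φ : C →+* K)
    (hφ : RingHom.ker φ = Q.asIdeal) (hcompat : ∀ a : A, algebraMap R K (algebraMap A R a) = φ (algebraMap A C a))
    (hfrac : ∀ t : K, ∃ b c : C, c ∉ Q.asIdeal ∧ t = φ b / φ c) :
    lenAt p (C ⧸ Q.asIdeal) = Module.length R K ∧ Module.Finite R K := by
  letI : Algebra A K := ((algebraMap R K).comp (algebraMap A R)).toAlgebra
  haveI : IsScalarTower A R K := IsScalarTower.of_algebraMap_eq fun _ => rfl
  have hcQ : ∀ x ∈ Q.asIdeal, φ x = 0 := fun x hx => by rwa [← RingHom.mem_ker, hφ]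
  have hsm : ∀ (a : A) (t : K), a • t = φ (algebraMap A C a) * t := fun a t => by
    rw [Algebra.smul_def]
    exact congrArg (· * t) (hcompat a)
  let g : (C ⧸ Q.asIdeal) →ₗ[A] K :=
    { toFun := Ideal.Quotient.lift Q.asIdeal φ hcQ
      map_add' := map_add _
      map_smul' := fun a x => by
        obtain ⟨b, rfl⟩ := Ideal.Quotient.mk_surjective x
        rw [Algebra.smul_def, map_mul, RingHom.id_apply, hsm]
        rfl }
  have hne : ∀ a : A, a ∉ p.asIdeal → φ (algebraMap A C a) ≠ 0 := fun a ha h0 => ha <| by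
    rw [← hQ, Ideal.mem_comap, ← hφ, RingHom.mem_ker]
    exact h0
  haveI : IsLocalizedModule p.asIdeal.primeCompl g := by
    refine ⟨fun a => ?_, fun t => ?_, fun {x y} h => ?_⟩
    · rw [Module.End.isUnit_iff]
      constructor
      · intro s t h
        have h' : (a : A) • s = (a : A) • t := h
        rw [hsm, hsm] at h'
        exact mul_left_cancel₀ (hne a a.2) h'
      · intro t
        exact ⟨(φ (algebraMap A C a))⁻¹ * t, by
          show (a : A) • ((φ (algebraMap A C a))⁻¹ * t) = t
          rw [hsm, mul_inv_cancel_left₀ (hne a a.2)]⟩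
    · obtain ⟨b, c, hc, rfl⟩ := hfrac t
      have hlt := Ideal.comap_lt_comap_of_integral_mem_sdiff (R := A) (I := Q.asIdeal)
        (J := Q.asIdeal ⊔ Ideal.span {c}) le_sup_left
        ⟨Ideal.mem_sup_right (Ideal.mem_span_singleton_self c), hc⟩ (Algebra.IsIntegral.isIntegral c)
      obtain ⟨a, haJ, haI⟩ := SetLike.exists_of_lt hlt
      rw [hQ] at haI
      obtain ⟨q, hq, w, hw, hqw⟩ := Submodule.mem_sup.1 (Ideal.mem_comap.1 haJ)
      obtain ⟨d, rfl⟩ := Ideal.mem_span_singleton'.1 hw
      refine ⟨(Ideal.Quotient.mk _ (b * d), ⟨a, haI⟩), ?_⟩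
      show a • (φ b / φ c) = φ (b * d)
      have hc0 : φ c ≠ 0 := fun h0 => hc (by rw [← hφ]; exact h0)
      rw [hsm, ← hqw, map_add, hcQ q hq, zero_add, map_mul, map_mul]
      field_simp
    · refine ⟨1, ?_⟩
      rw [one_smul, one_smul]
      obtain ⟨b₁, rfl⟩ := Ideal.Quotient.mk_surjective x
      obtain ⟨b₂, rfl⟩ := Ideal.Quotient.mk_surjective y
      rw [Ideal.Quotient.eq, ← hφ, RingHom.mem_ker, map_sub]
      exact sub_eq_zero.2 h
  exact ⟨lenAt_eq_length p R g, Module.Finite.of_isLocalizedModule p.asIdeal.primeCompl g⟩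

end Algebra

end Groth.Agent.CycNorm
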