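import Groth.Agent.CycDim.SpSetup
import Groth.Agent.P1Div.SheafFibre
import Mathlib

/-!
Specialisation of the cycle of a flat coherent module.
-/

set_option autoImplicit false
set_option linter.style.haveILetI false
set_option backward.isDefEq.respectTransparency false

universe u

open CategoryTheory AlgebraicGeometry TopologicalSpace IsLocalRing
open Groth.Agent.CDivNormal (genPrime exists_genPrime_eq)
open Groth.Agent.CycDim (coef Coker spz)
open scoped Pointwise TensorProduct

noncomputable section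

namespace Groth.Agent.CycSp

variable {R : Type u} [CommRing R] [IsDomain R] [IsDiscreteValuationRing R] {X : Scheme.{u}}
  (a : X ⟶ Spec (CommRingCat.of R)) [LocallyOfFiniteType a]

omit [LocallyOfFiniteType a] in
/-- Stalks of restrictions to fibres. -/
theorem length_pullback_fibre (t : ↥(Spec (CommRingCat.of R))) (F : X.Modules) (z : ↥(a.fiber t))
    {f : X.presheaf.stalk (a.fiberι t z)}
    (hf : (maximalIdeal ((Spec (CommRingCat.of R)).presheaf.stalk (a (a.fiberι t z)))).map
      (a.stalkMap (a.fiberι t z)).hom = Ideal.span {f}) :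
    Module.length ((a.fiber t).presheaf.stalk z) (((Scheme.Modules.pullback (a.fiberι t)).obj F).presheaf.stalk z) =
      Module.length (X.presheaf.stalk (a.fiberι t z)) (Coker f (F.presheaf.stalk (a.fiberι t z))) := by
  letI := ((a.fiberι t).stalkMap z).hom.toAlgebra
  obtain ⟨hs, hk⟩ := FibCrit.fiberι_stalkMap a t z
  exact ((Groth.Agent.KFlat.pullStalkIso (a.fiberι t) z).app F).toLinearEquiv.length_eq.trans
    (P1Div.length_baseChange_quot hs (hk.trans hf) (F.presheaf.stalk (a.fiberι t z)))

omit [LocallyOfFiniteType a] in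
theorem length_pullback_generic (F : X.Modules)
    (z : ↥(a.fiber (genericPoint ↥(Spec (CommRingCat.of R))))) :
    Module.length ((a.fiber (genericPoint ↥(Spec (CommRingCat.of R)))).presheaf.stalk z)
        (((Scheme.Modules.pullback (a.fiberι (genericPoint ↥(Spec (CommRingCat.of R))))).obj F).presheaf.stalk z) =
      Module.length (X.presheaf.stalk (a.fiberι (genericPoint ↥(Spec (CommRingCat.of R))) z))
        (F.presheaf.stalk (a.fiberι (genericPoint ↥(Spec (CommRingCat.of R))) z)) := by
  have hm : maximalIdeal ((Spec (CommRingCat.of R)).presheaf.stalk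
      (a (a.fiberι (genericPoint ↥(Spec (CommRingCat.of R))) z))) = ⊥ := by
    refine le_bot_iff.1 fun v hv => ?_
    by_contra h
    exact (mem_maximalIdeal _).1 hv (isUnit_stalk_generic (fiberι_map a _ z) h)
  rw [length_pullback_fibre a _ F z (f := 0) (by rw [hm, Ideal.map_bot, Ideal.span_singleton_eq_bot.2 rfl])]
  exact (Submodule.quotEquivOfEqBot _ (by
    rw [← Submodule.ideal_span_singleton_smul, Ideal.span_singleton_eq_bot.2 rfl, Submodule.bot_smul])).length_eq

variable (F : X.Modules) [IsLocallyNoetherian X]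

omit [LocallyOfFiniteType a] [IsLocallyNoetherian X] in
theorem injective_of_flat (hflat : FlatMod.IsFlatOver a F) (p : X)
    {π : (Spec (CommRingCat.of R)).presheaf.stalk (a p)} (hπ : π ≠ 0)
    (m : F.presheaf.stalk p) (hm : (a.stalkMap p).hom π • m = 0) : m = 0 := by
  letI := FlatMod.moduleStalkOver a F p
  haveI : Module.Flat ((Spec (CommRingCat.of R)).presheaf.stalk (a p)) (F.presheaf.stalk p) := hflat p
  exact ((smul_eq_zero (M := F.presheaf.stalk p)).1 (show π • m = 0 from hm)).resolve_left hπ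

variable [hq : Coh.IsQCoh F] (hft : CohB1.IsFT F) (hflat : FlatMod.IsFlatOver a F)

include hq hft hflat in
/-- Points of the support in the closed fibre specialise from the generic fibre. -/
theorem exists_generic {p : X} (hp : a p = closedPoint R) (hn : Nontrivial (F.presheaf.stalk p)) :
    ∃ w, w ⤳ p ∧ w ≠ p ∧ a w = genericPoint ↥(Spec (CommRingCat.of R)) ∧ Nontrivial (F.presheaf.stalk w) := by
  obtain ⟨π, hπ, hmax⟩ := exists_uniformizer hp
  haveI := SupportLib.finite_stalk F hft p
  obtain ⟨m, hm⟩ := exists_ne (0 : F.presheaf.stalk p)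
  obtain ⟨Q, hQ, -⟩ := exists_le_isAssociatedPrime_of_isNoetherianRing (X.presheaf.stalk p) m hm
  haveI := hQ.isPrime
  obtain ⟨w, hw, hwQ⟩ := exists_genPrime_eq p Q
  have hnQ : (a.stalkMap p).hom π ∉ Q := by
    intro hin
    obtain ⟨hI, v, hv⟩ := hQ
    rw [hv, Ideal.mem_radical_iff] at hin
    obtain ⟨n, hn'⟩ := hin
    rw [← map_pow, Submodule.mem_colon_singleton, Submodule.mem_bot] at hn'
    have hv0 := injective_of_flat a F hflat p (pow_ne_zero n hπ) v hn'
    refine hI.ne_top ?_
    rw [hv, hv0, Ideal.radical_eq_top, Ideal.eq_top_iff_one, Submodule.mem_colon_singleton, one_smul]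
    rfl
  have hne : w ≠ p := by
    rintro rfl
    rw [CycDim.genPrime_rfl] at hwQ
    refine hnQ (hwQ ▸ (mem_maximalIdeal _).2 fun hu => ?_)
    exact (mem_maximalIdeal _).1 (hmax.ge (Ideal.mem_span_singleton_self π))
      ((isUnit_map_iff (a.stalkMap w).hom π).1 hu)
  refine ⟨w, hw, hne, ?_, not_subsingleton_iff_nontrivial.1 fun hs => ?_⟩
  · rcases point_eq (a w) with h | h
    · exfalso
      have hsw : a w ⤳ a p := hw.map a.continuous
      have hn1 : ¬ IsUnit (spz hw ((a.stalkMap p).hom π)) := by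
        intro hu
        change IsUnit ((X.presheaf.stalkSpecializes hw).hom _) at hu
        rw [← Scheme.Hom.stalkSpecializes_stalkMap_apply a w p hw π] at hu
        have h2 := (isUnit_map_iff (a.stalkMap w).hom _).1 hu
        have hps : a p ⤳ a w := specializes_of_eq (hp.trans h.symm)
        have h3 := h2.map ((Spec (CommRingCat.of R)).presheaf.stalkSpecializes hps).hom
        rw [← CategoryTheory.comp_apply, TopCat.Presheaf.stalkSpecializes_comp,
          TopCat.Presheaf.stalkSpecializes_refl] at h3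
        exact (mem_maximalIdeal _).1 (hmax.ge (Ideal.mem_span_singleton_self π)) h3
      exact hnQ (hwQ ▸ hn1)
    · exact h
  · have hann : Module.annihilator (X.presheaf.stalk p) (F.presheaf.stalk p) ≤ Q :=
      (le_of_eq Submodule.annihilator_top.symm).trans hQ.annihilator_le
    have h0 : CycDim.lenAt ⟨genPrime hw, inferInstance⟩ (F.presheaf.stalk p) = 0 := by
      rw [P1Div.lenAt_stalk F hw]; exact Module.length_eq_zero
    rw [CycDim.lenAt, Module.length_eq_zero_iff] at h0
    exact not_subsingleton_iff_nontrivial.2 (Module.mem_support_iff.1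
      ((Module.mem_support_iff_of_finite (p := ⟨genPrime hw, inferInstance⟩)).2 (hwQ ▸ hann))) h0

include hq hft hflat in
/-- Specialisation of the cycle of a flat coherent module. -/
theorem spFun_sheafFun (δη : ↥(a.fiber (genericPoint ↥(Spec (CommRingCat.of R)))) → ℤ)
    (δs : ↥(a.fiber (closedPoint R)) → ℤ)
    (hδη : Cyc.DeltaCompat (a.fiberToSpecResidueField (genericPoint ↥(Spec (CommRingCat.of R)))) δη (fun _ => 0))
    (hδs : Cyc.DeltaCompat (a.fiberToSpecResidueField (closedPoint R)) δs (fun _ => 0)) (r : ℤ)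
    (hdim : ∀ ζ : ↥(a.fiber (genericPoint ↥(Spec (CommRingCat.of R)))),
      Nontrivial (((Scheme.Modules.pullback (a.fiberι (genericPoint ↥(Spec (CommRingCat.of R))))).obj F).presheaf.stalk ζ) →
        δη ζ ≤ r) :
    (∀ x : ↥(a.fiber (closedPoint R)),
      Nontrivial (((Scheme.Modules.pullback (a.fiberι (closedPoint R))).obj F).presheaf.stalk x) → δs x ≤ r) ∧
    Cyc.spFun a (genericPoint ↥(Spec (CommRingCat.of R))) (closedPoint R) δη δs r
        (Cyc.sheafFun δη r ((Scheme.Modules.pullback (a.fiberι (genericPoint ↥(Spec (CommRingCat.of R))))).obj F)) =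
      Cyc.sheafFun δs r ((Scheme.Modules.pullback (a.fiberι (closedPoint R))).obj F) := by
  classical
  obtain ⟨δX, hδX⟩ := P1Div.exists_deltaCompat a (deltaR (R := R))
  have hD : Cyc.IsDimFun X δX := S9684.result a deltaR isSetup_spec δX hδX
  let η := genericPoint ↥(Spec (CommRingCat.of R))
  have hdη : ∀ ζ, δX (a.fiberι η ζ) = δη ζ + 1 := fun ζ => by
    rw [delta_fiberι a hδX _ hδη, deltaR_generic]
  have hds : ∀ x, δX (a.fiberι (closedPoint R) x) = δs x := fun x => by
    have h := delta_fiberι a hδX _ hδs x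
    rw [show deltaR (closedPoint R : ↥(Spec (CommRingCat.of R))) = 0 from deltaR_closed, add_zero] at h
    exact h
  have hgen : ∀ w, a w = η → Nontrivial (F.presheaf.stalk w) → δX w ≤ r + 1 := by
    intro w hw hn
    obtain ⟨ζ, rfl⟩ : w ∈ Set.range (a.fiberι η) := by rw [a.range_fiberι]; exact hw
    rw [hdη]
    have := hdim ζ (not_subsingleton_iff_nontrivial.1 fun hs => by
      have h0 := length_pullback_generic a F ζ
      rw [Module.length_eq_zero, eq_comm, Module.length_eq_zero_iff] at h0
      exact not_subsingleton_iff_nontrivial.2 hn h0)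
    omega
  have hcl : ∀ z, a z = closedPoint R → Nontrivial (F.presheaf.stalk z) → δX z ≤ r := by
    intro z hz hn
    obtain ⟨w, hwz, hne, hwη, hnw⟩ := exists_generic a F hft hflat hz hn
    have h1 := CycDim.delta_lt hD (CycDim.lt_of_spec hwz hne)
    have h2 := hgen w hwη hnw
    omega
  have hsupp : ∀ z, Nontrivial (F.presheaf.stalk z) → δX z ≤ r + 1 := by
    intro z hn
    rcases point_eq (a z) with h | h
    · have := hcl z h hn; omega
    · exact hgen z h hn
  have hlen : ∀ x : ↥(a.fiber (closedPoint R)), ∃ π, π ≠ 0 ∧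
      maximalIdeal ((Spec (CommRingCat.of R)).presheaf.stalk (a (a.fiberι (closedPoint R) x))) = Ideal.span {π} ∧
      Module.length ((a.fiber (closedPoint R)).presheaf.stalk x)
        (((Scheme.Modules.pullback (a.fiberι (closedPoint R))).obj F).presheaf.stalk x) =
      Module.length (X.presheaf.stalk (a.fiberι (closedPoint R) x))
        (Coker ((a.stalkMap (a.fiberι (closedPoint R) x)).hom π) (F.presheaf.stalk (a.fiberι (closedPoint R) x))) := by
    intro x
    obtain ⟨π, hπ, hmax⟩ := exists_uniformizer (fiberι_map a (closedPoint R) x)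
    exact ⟨π, hπ, hmax, length_pullback_fibre a _ F x (by rw [hmax, Ideal.map_span, Set.image_singleton])⟩
  refine ⟨fun x hx => ?_, funext fun x => ?_⟩
  · rw [← hds]
    refine hcl _ (fiberι_map a _ x) (not_subsingleton_iff_nontrivial.1 fun hs => ?_)
    obtain ⟨π, -, -, h0⟩ := hlen x
    rw [Module.length_eq_zero (M := Coker _ _), Module.length_eq_zero_iff] at h0
    exact not_subsingleton_iff_nontrivial.2 hx h0
  unfold Cyc.spFun Cyc.sheafFun
  split
  swap
  · rfl
  next hxr =>
  obtain ⟨π, hπ, hmax, hl⟩ := hlen x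
  let p := a.fiberι (closedPoint R) x
  let f := (a.stalkMap p).hom π
  have hp : δX p = r := (hds x).trans hxr
  have ha : ∀ z (hz : z ⤳ p), Nontrivial (F.presheaf.stalk z) → δX z = r + 1 → f ∉ genPrime hz := by
    intro z hz hn hzk hmem
    refine hmem (isUnit_spz a hz ?_ hπ)
    rcases point_eq (a z) with h | h
    · have := hcl z h hn; omega
    · exact h
  rw [hl, P1Div.length_coker_eq_sum F hft hD hp (fun z _ hn => hsupp z hn) ha
    (fun m hm => injective_of_flat a F hflat p hπ m hm)]
  let G : {ξ : X // ξ ⤳ p ∧ δX ξ = r + 1} → ℤ := fun ξ =>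
    ((Module.length (X.presheaf.stalk ξ.1) (F.presheaf.stalk ξ.1)).toNat : ℤ) *
      ((coef f ⟨genPrime ξ.2.1, inferInstance⟩).toNat : ℤ)
  let e : {ζ : ↥(a.fiber η) // δη ζ = r ∧ a.fiberι η ζ ⤳ p} → {ξ : X // ξ ⤳ p ∧ δX ξ = r + 1} :=
    fun ζ => ⟨a.fiberι η ζ.1, ζ.2.2, by rw [hdη, ζ.2.1]⟩
  have he : Function.Injective e := fun u v huv =>
    Subtype.ext ((a.fiberι η).isEmbedding.injective (congrArg Subtype.val huv))
  have hG : ∑ᶠ ξ, G ξ = ∑ᶠ ζ, G (e ζ) := by
    rw [← finsum_mem_range (f := G) he, ← finsum_mem_univ G]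
    refine finsum_mem_inter_support_eq' G _ _ fun ξ hξ => ⟨fun _ => ?_, fun _ => trivial⟩
    obtain ⟨ξ, hξp, hξr⟩ := ξ
    have hn : Nontrivial (F.presheaf.stalk ξ) := by
      refine not_subsingleton_iff_nontrivial.1 fun hs => hξ ?_
      show _ * _ = _
      rw [Module.length_eq_zero]
      simp
    rcases point_eq (a ξ) with h | h
    · have := hcl ξ h hn; omega
    · obtain ⟨ζ, rfl⟩ : ξ ∈ Set.range (a.fiberι η) := by rw [a.range_fiberι]; exact h
      exact ⟨⟨ζ, by have := hdη ζ; omega, hξp⟩, rfl⟩
  refine Eq.trans ?_ hG.symm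
  refine finsum_congr fun ζ => ?_
  show (if δη ζ.1 = r then _ else _) * _ = G (e ζ)
  rw [if_pos ζ.2.1, length_pullback_generic a F ζ.1]
  congr 1
  refine congrArg (fun n : ℕ∞ => (n.toNat : ℤ)) ?_
  let h := ζ.2.2
  have hker : RingHom.ker (Cyc.specMap p (a.fiberι η ζ.1) h) = genPrime h :=
    Ideal.ext fun b => (CycDim.mem_genPrime_iff h b).symm
  show Module.length (X.presheaf.stalk p) ((↥(X.presheaf.stalk p) ⧸ RingHom.ker (Cyc.specMap p (a.fiberι η ζ.1) h)) ⧸
      (maximalIdeal ((Spec (CommRingCat.of R)).presheaf.stalk (a p))).map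
        ((Ideal.Quotient.mk (RingHom.ker (Cyc.specMap p (a.fiberι η ζ.1) h))).comp (a.stalkMap p).hom)) =
    Module.length (X.presheaf.stalk p) (↥(X.presheaf.stalk p) ⧸ (genPrime h ⊔ Ideal.span {f}))
  rw [← Ideal.map_map, hmax, Ideal.map_span (a.stalkMap p).hom, Set.image_singleton, ← hker]
  exact (DoubleQuot.quotQuotEquivQuotSupₐ (X.presheaf.stalk p) (RingHom.ker (Cyc.specMap p (a.fiberι η ζ.1) h))
    (Ideal.span {f})).toLinearEquiv.length_eq

end Groth.Agent.CycSp
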