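import Groth.Agent.S9684
import Groth.Agent.CycDim.PushVanish
import Groth.Agent.P1Div.Delta
import Groth.Agent.Cohen.Structure
import Groth.Agent.FibCrit.Stalk
import Mathlib

/-!
Schemes of finite type over a discrete valuation ring and their two fibres.
-/

set_option autoImplicit false
set_option linter.style.haveILetI false
set_option backward.isDefEq.respectTransparency false

universe u

open CategoryTheory AlgebraicGeometry TopologicalSpace IsLocalRing

noncomputable section

namespace Groth.Agent.CycSp

variable {R : Type u} [CommRing R] [IsDomain R] [IsDiscreteValuationRing R]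

/-- Discrete valuation rings are universally catenary. -/
theorem uc_dvr : CAlg.IsUniversallyCatenary R := by
  haveI : IsRegularLocalRing R := inferInstance
  haveI := CMFlat.isCohenMacaulayLocalRing_of_isRegularLocalRing R
  haveI : LocCoh.IsCohenMacaulayRing R :=
    { isCohenMacaulayLocalRing_localization := fun q _ => CMFlat.isCohenMacaulayLocalRing_atPrime R q }
  exact Catenary.isUniversallyCatenary_of_cm R

theorem point_eq (t : ↥(Spec (CommRingCat.of R))) : t = closedPoint R ∨ t = genericPoint ↥(Spec (CommRingCat.of R)) := by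
  by_cases h : (t : PrimeSpectrum R).asIdeal = ⊥
  · right
    rw [genericPoint_eq_bot_of_affine]
    exact PrimeSpectrum.ext h
  · left
    haveI := (t : PrimeSpectrum R).isPrime.isMaximal h
    exact PrimeSpectrum.ext (IsLocalRing.eq_maximalIdeal this)

theorem generic_ne_closed : genericPoint ↥(Spec (CommRingCat.of R)) ≠ closedPoint R := by
  rw [genericPoint_eq_bot_of_affine]
  intro h
  exact IsDiscreteValuationRing.not_a_field R (congrArg PrimeSpectrum.asIdeal h).symm

theorem isNoetherian_spec : IsLocallyNoetherian (Spec (CommRingCat.of R)) := inferInstance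

open Classical in
/-- The dimension function of the base. -/
def deltaR : ↥(Spec (CommRingCat.of R)) → ℤ := fun t => if t = closedPoint R then 0 else 1

theorem deltaR_closed : deltaR (closedPoint R : ↥(Spec (CommRingCat.of R))) = 0 := if_pos rfl

theorem deltaR_generic : deltaR (genericPoint ↥(Spec (CommRingCat.of R))) = 1 := if_neg generic_ne_closed

theorem isSetup_spec : Cyc.IsSetup (Spec (CommRingCat.of R)) deltaR := by
  refine ⟨isNoetherian_spec, fun t => ?_, fun x y hxy hne => ?_⟩
  · exact Catenary.isUniversallyCatenary_stalk (isAffineOpen_top _) t trivial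
      (Catenary.isUniversallyCatenary_of_ringEquiv
        ((Scheme.ΓSpecIso (CommRingCat.of R)).commRingCatIsoToRingEquiv).symm uc_dvr)
  · have hx : x = genericPoint ↥(Spec (CommRingCat.of R)) := by
      rcases point_eq x with h | h
      · refine absurd ?_ hne
        rcases point_eq y with h' | h'
        · rw [h, h']
        · exact (hxy.antisymm (h' ▸ genericPoint_specializes x)).eq
      · exact h
    have hy : y = closedPoint R := by
      rcases point_eq y with h | h
      · exact h
      · exact absurd (hx.trans h.symm) hne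
    rw [hx, hy, deltaR_closed, deltaR_generic]
    exact ⟨one_pos, fun _ => rfl⟩

variable {X : Scheme.{u}} (a : X ⟶ Spec (CommRingCat.of R)) [LocallyOfFiniteType a]

/-- The dimension function of the total space restricts to those of the fibres. -/
theorem delta_fiberι {δX : X → ℤ} (hδX : Cyc.DeltaCompat a δX deltaR) (t : ↥(Spec (CommRingCat.of R)))
    {δt : ↥(a.fiber t) → ℤ} (hδt : Cyc.DeltaCompat (a.fiberToSpecResidueField t) δt (fun _ => 0)) (z : ↥(a.fiber t)) :
    δX (a.fiberι t z) = δt z + deltaR t := by
  have h1 : Cyc.DeltaCompat (a.fiberι t ≫ a) (fun z => δX (a.fiberι t z)) deltaR :=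
    Bivar.deltaCompat_comp _ _ _ δX _ (CycPush.deltaCompat_preimmersion (a.fiberι t) δX) hδX
  have h2 : Cyc.DeltaCompat (a.fiberToSpecResidueField t) (fun z => δt z + deltaR t)
      (fun _ => deltaR t) := by
    intro w
    obtain ⟨n, hn, hw⟩ := hδt w
    exact ⟨n, hn, by simp only [hw]; ring⟩
  have h3 : Cyc.DeltaCompat ((Spec (CommRingCat.of R)).fromSpecResidueField t) (fun _ => deltaR t) deltaR := by
    have h := CycPush.deltaCompat_preimmersion ((Spec (CommRingCat.of R)).fromSpecResidueField t) deltaR
    simpa only [Scheme.fromSpecResidueField_apply] using h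
  have h4 := Bivar.deltaCompat_comp _ _ _ _ _ h2 h3
  rw [← Scheme.Hom.fiber_fac] at h4
  exact CycPush.deltaCompat_unique _ h1 h4 z

omit [LocallyOfFiniteType a] in
theorem fiberι_map (t : ↥(Spec (CommRingCat.of R))) (z : ↥(a.fiber t)) : a (a.fiberι t z) = t := by
  have : a.fiberι t z ∈ Set.range (a.fiberι t) := ⟨z, rfl⟩
  rwa [a.range_fiberι] at this

omit [LocallyOfFiniteType a] in
theorem isUnit_stalk_generic {t : ↥(Spec (CommRingCat.of R))} (ht : t = genericPoint ↥(Spec (CommRingCat.of R)))
    {v : (Spec (CommRingCat.of R)).presheaf.stalk t} (hv : v ≠ 0) : IsUnit v := by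
  subst ht
  exact isUnit_iff_ne_zero.2 hv

omit [LocallyOfFiniteType a] in
theorem exists_uniformizer {t : ↥(Spec (CommRingCat.of R))} (ht : t = closedPoint R) :
    ∃ π : (Spec (CommRingCat.of R)).presheaf.stalk t, π ≠ 0 ∧
      maximalIdeal ((Spec (CommRingCat.of R)).presheaf.stalk t) = Ideal.span {π} := by
  subst ht
  obtain ⟨ϖ, hϖ⟩ := IsDiscreteValuationRing.exists_irreducible R
  let e : R ≃+* (Spec (CommRingCat.of R)).presheaf.stalk (closedPoint R) :=
    (stalkClosedPointIso (CommRingCat.of R)).commRingCatIsoToRingEquiv.symm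
  refine ⟨e ϖ, fun h => hϖ.ne_zero (e.injective (h.trans (map_zero e).symm)), ?_⟩
  ext b
  obtain ⟨c, rfl⟩ := e.surjective b
  rw [mem_maximalIdeal, Ideal.mem_span_singleton, map_dvd_iff, mem_nonunits_iff, MulEquiv.isUnit_map,
    ← mem_nonunits_iff, ← mem_maximalIdeal, hϖ.maximalIdeal_eq, Ideal.mem_span_singleton]

/-- Nonzero functions on the base are invertible over the generic point. -/
theorem isUnit_spz {ξ p : X} (h : ξ ⤳ p) (hξ : a ξ = genericPoint ↥(Spec (CommRingCat.of R)))
    {π : (Spec (CommRingCat.of R)).presheaf.stalk (a p)} (hπ : π ≠ 0) :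
    IsUnit ((X.presheaf.stalkSpecializes h).hom ((a.stalkMap p).hom π)) := by
  have hs : a ξ ⤳ a p := h.map a.continuous
  have hg : genericPoint ↥(Spec (CommRingCat.of R)) ⤳ a p := genericPoint_specializes _
  have hinj : Function.Injective ((Spec (CommRingCat.of R)).presheaf.stalkSpecializes hg).hom :=
    IsFractionRing.injective ((Spec (CommRingCat.of R)).presheaf.stalk (a p)) (Spec (CommRingCat.of R)).functionField
  have hne : ((Spec (CommRingCat.of R)).presheaf.stalkSpecializes hs).hom π ≠ 0 := by
    intro h0
    refine hπ (hinj ?_)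
    rw [map_zero, ← TopCat.Presheaf.stalkSpecializes_comp _ (specializes_of_eq hξ.symm) hs]
    show ((Spec (CommRingCat.of R)).presheaf.stalkSpecializes (specializes_of_eq hξ.symm)).hom
      (((Spec (CommRingCat.of R)).presheaf.stalkSpecializes hs).hom π) = 0
    rw [h0, map_zero]
  rw [← Scheme.Hom.stalkSpecializes_stalkMap_apply a ξ p h π]
  exact (isUnit_stalk_generic hξ hne).map (a.stalkMap ξ).hom

end Groth.Agent.CycSp
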