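import Groth.Agent.P1Div.SubFibre
import Groth.Agent.CycDim.SpFlat
import Mathlib

/-!
Structure sheaves of closed subschemes restricted along preimmersions.
-/

set_option autoImplicit false
set_option linter.style.haveILetI false
set_option backward.isDefEq.respectTransparency false

universe u

open CategoryTheory CategoryTheory.Limits AlgebraicGeometry TopologicalSpace IsLocalRing
open Groth.Agent.CycDim (Coker)
open scoped Pointwise

noncomputable section

namespace Groth.Agent.P1Div

variable {X W P : Scheme.{u}}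

/-- Lifting through a preimmersion. -/
theorem exists_lift_pre (ι : W ⟶ P) [IsPreimmersion ι] (w : W) (p : P) (hw : ι w = p)
    (J : Ideal (P.presheaf.stalk p))
    (hI : ∀ a, (ι.stalkMap w).hom ((P.presheaf.stalkSpecializes (specializes_of_eq hw)).hom a) = 0 → a ∈ J) :
    ∃ g : Spec (CommRingCat.of (↥(P.presheaf.stalk p) ⧸ J)) ⟶ W, g ≫ ι = phi p J := by
  subst hw
  simp only [TopCat.Presheaf.stalkSpecializes_refl] at hI
  have hs : Function.Surjective (ι.stalkMap w).hom := ι.stalkMap_surjective w
  let l : W.presheaf.stalk w →+* ↥(P.presheaf.stalk (ι w)) ⧸ J :=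
    RingHom.liftOfSurjective (ι.stalkMap w).hom hs ⟨Ideal.Quotient.mk J, fun a ha =>
      RingHom.mem_ker.2 (Ideal.Quotient.eq_zero_iff_mem.2 (hI a ha))⟩
  refine ⟨Spec.map (CommRingCat.ofHom l) ≫ W.fromSpecStalk w, ?_⟩
  rw [Category.assoc, ← Scheme.SpecMap_stalkMap_fromSpecStalk, ← Spec.map_comp_assoc, phi]
  congr 2
  ext a
  exact RingHom.liftOfRightInverse_comp_apply (ι.stalkMap w).hom (Function.surjInv hs) (Function.rightInverse_surjInv hs)
    ⟨Ideal.Quotient.mk J, fun a ha => RingHom.mem_ker.2 (Ideal.Quotient.eq_zero_iff_mem.2 (hI a ha))⟩ a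

/-- The local ring of the intersection of a closed subscheme with a preimmersion. -/
theorem length_inter_pre (ι : W ⟶ P) [IsClosedImmersion ι] (σ : X ⟶ P) [IsPreimmersion σ]
    (z : ↥(pullback ι σ)) (hw : ι ((pullback.fst ι σ) z) = σ ((pullback.snd ι σ) z)) :
    Module.length ((pullback ι σ).presheaf.stalk z) ((pullback ι σ).presheaf.stalk z) =
      Module.length (P.presheaf.stalk (σ ((pullback.snd ι σ) z)))
        (↥(P.presheaf.stalk (σ ((pullback.snd ι σ) z))) ⧸
          (RingHom.ker (stkHom ι _ hw) ⊔ RingHom.ker (σ.stalkMap ((pullback.snd ι σ) z)).hom)) := by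
  let x := (pullback.snd ι σ) z
  let w := (pullback.fst ι σ) z
  let j : P.presheaf.stalk (σ x) →+* (pullback ι σ).presheaf.stalk z :=
    ((pullback.snd ι σ).stalkMap z).hom.comp (σ.stalkMap x).hom
  have hj : Function.Surjective j := ((pullback.snd ι σ).stalkMap_surjective z).comp (σ.stalkMap_surjective x)
  have hjw : ∀ a, j a = ((pullback.fst ι σ).stalkMap z).hom (stkHom ι w hw a) := by
    intro a
    have := Scheme.Hom.stalkMap_congr_hom (pullback.snd ι σ ≫ σ) (pullback.fst ι σ ≫ ι) pullback.condition.symm z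
    rw [Scheme.Hom.stalkMap_comp, Scheme.Hom.stalkMap_comp] at this
    exact DFunLike.congr_fun (CommRingCat.hom_ext_iff.mp this) a
  have hker : RingHom.ker j = RingHom.ker (stkHom ι w hw) ⊔ RingHom.ker (σ.stalkMap x).hom := by
    have hsup : RingHom.ker (stkHom ι w hw) ⊔ RingHom.ker (σ.stalkMap x).hom ≤
        maximalIdeal (P.presheaf.stalk (σ x)) :=
      sup_le (IsLocalRing.le_maximalIdeal (RingHom.ker_ne_top _))
        (IsLocalRing.le_maximalIdeal (RingHom.ker_ne_top _))
    refine le_antisymm (fun a ha => ?_) (sup_le (fun a ha => ?_) fun a ha => ?_)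
    · let J := RingHom.ker (stkHom ι w hw) ⊔ RingHom.ker (σ.stalkMap x).hom
      have hJ : J ≠ ⊤ := fun e => (maximalIdeal.isMaximal _).ne_top (top_le_iff.1 (e.symm.le.trans hsup))
      obtain ⟨gW, hgW⟩ := exists_lift_pre ι w (σ x) hw J fun b hb =>
        Ideal.mem_sup_left (RingHom.mem_ker.2 hb)
      obtain ⟨gX, hgX⟩ := exists_lift_pre σ x (σ x) rfl J fun b hb => Ideal.mem_sup_right (by
        simpa [TopCat.Presheaf.stalkSpecializes_refl] using hb)
      let g := pullback.lift gW gX (hgW.trans hgX.symm)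
      refine ker_le (pullback.snd ι σ ≫ σ) (pullback.snd ι σ ≫ σ).isEmbedding.injective z J hJ g ?_ ?_
      · show g ≫ pullback.snd ι σ ≫ σ = _
        rw [pullback.lift_snd_assoc]; exact hgX
      · rw [Scheme.Hom.stalkMap_comp]
        exact ha
    · rw [RingHom.mem_ker, hjw, RingHom.mem_ker.1 ha, map_zero]
    · rw [RingHom.mem_ker]
      show ((pullback.snd ι σ).stalkMap z).hom ((σ.stalkMap x).hom a) = 0
      rw [RingHom.mem_ker.1 ha, map_zero]
  rw [← hker, ← CycDim.length_congr (RingHom.quotientKerEquivOfSurjective hj)]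
  exact (Module.length_eq_of_surjective (R := ↥(P.presheaf.stalk (σ x)) ⧸ RingHom.ker j)
    (M := ↥(P.presheaf.stalk (σ x)) ⧸ RingHom.ker j) (S := P.presheaf.stalk (σ x))
    (Ideal.Quotient.mk_surjective (I := RingHom.ker j))).symm

theorem sheafFun_pullback_push_pre (δ : X → ℤ) (k : ℤ) (ι : W ⟶ P) [IsClosedImmersion ι] (σ : X ⟶ P)
    [IsPreimmersion σ] (hσ : ∀ x, ∃ f, RingHom.ker (σ.stalkMap x).hom = Ideal.span {f}) :
    Cyc.sheafFun δ k ((Scheme.Modules.pullback σ).obj ((Coh.push ι).obj (Coh.structureModule W))) =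
      Cyc.subschemeFun δ k (pullback.snd ι σ) ∧
    ∀ x, Nontrivial (((Scheme.Modules.pullback σ).obj ((Coh.push ι).obj (Coh.structureModule W))).presheaf.stalk x) ↔
      σ x ∈ Set.range ι := by
  have hl : ∀ x f, RingHom.ker (σ.stalkMap x).hom = Ideal.span {f} →
      Module.length (X.presheaf.stalk x)
        (((Scheme.Modules.pullback σ).obj ((Coh.push ι).obj (Coh.structureModule W))).presheaf.stalk x) =
      Module.length (P.presheaf.stalk (σ x))
        (Coker f (((Coh.push ι).obj (Coh.structureModule W)).presheaf.stalk (σ x))) := by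
    intro x f hf
    letI := (σ.stalkMap x).hom.toAlgebra
    exact ((Groth.Agent.KFlat.pullStalkIso σ x).app _).toLinearEquiv.length_eq.trans
      (length_baseChange_quot (σ.stalkMap_surjective x) hf _)
  have hout : ∀ x, σ x ∉ Set.range ι → Module.length (X.presheaf.stalk x)
      (((Scheme.Modules.pullback σ).obj ((Coh.push ι).obj (Coh.structureModule W))).presheaf.stalk x) = 0 := by
    intro x hx
    obtain ⟨f, hf⟩ := hσ x
    haveI h0 : Subsingleton (((Coh.push ι).obj (Coh.structureModule W)).presheaf.stalk (σ x)) :=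
      Groth.Agent.KFlat.subsingleton_stalk_push ι (Coh.structureModule W) hx
    rw [hl x f hf]
    exact Module.length_eq_zero
  have hin : ∀ v, Module.length (X.presheaf.stalk ((pullback.snd ι σ) v))
      (((Scheme.Modules.pullback σ).obj ((Coh.push ι).obj (Coh.structureModule W))).presheaf.stalk ((pullback.snd ι σ) v)) =
      Module.length ((pullback ι σ).presheaf.stalk v) ((pullback ι σ).presheaf.stalk v) := by
    intro v
    have hw : ι ((pullback.fst ι σ) v) = σ ((pullback.snd ι σ) v) := by
      show (pullback.fst ι σ ≫ ι) v = (pullback.snd ι σ ≫ σ) v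
      rw [pullback.condition]
    obtain ⟨f, hf⟩ := hσ ((pullback.snd ι σ) v)
    rw [hl _ f hf, length_coker_push ι _ _ hw, length_inter_pre ι σ v hw, hf]
  constructor
  · funext x
    simp only [Cyc.subschemeFun, Cyc.sheafFun]
    split
    · by_cases hx : x ∈ Set.range (pullback.snd ι σ).base
      · obtain ⟨v, rfl⟩ := hx
        have hset : {w | (pullback.snd ι σ) w = (pullback.snd ι σ).base v} = {v} :=
          Set.ext fun w => ⟨fun h => (pullback.snd ι σ).isClosedEmbedding.injective h, fun h => congrArg _ h⟩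
        rw [hset, finsum_mem_singleton]
        exact congrArg (fun n : ℕ∞ => (n.toNat : ℤ)) (hin v)
      · rw [hout x fun ⟨z, hz⟩ => hx (by
            obtain ⟨v, -, hv⟩ := Scheme.Pullback.exists_preimage_pullback z x hz
            exact ⟨v, hv⟩)]
        refine Eq.trans ?_ (finsum_mem_eq_zero_of_forall_eq_zero fun w hw => absurd ⟨w, hw⟩ hx).symm
        rfl
    · rfl
  · intro x
    constructor
    · intro hn
      by_contra hx
      exact not_subsingleton_iff_nontrivial.2 hn (Module.length_eq_zero_iff.1 (hout x hx))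
    · rintro ⟨z, hz⟩
      obtain ⟨v, -, rfl⟩ := Scheme.Pullback.exists_preimage_pullback z x hz
      rw [← Module.length_pos_iff (R := X.presheaf.stalk ((pullback.snd ι σ) v)), hin v, Module.length_pos_iff]
      infer_instance

end Groth.Agent.P1Div

namespace Groth.Agent.CycSp

variable {R : Type u} [CommRing R] [IsDomain R] [IsDiscreteValuationRing R] {X W : Scheme.{u}}
  (a : X ⟶ Spec (CommRingCat.of R)) (ι : W ⟶ X) [IsClosedImmersion ι]

theorem isFlatOver_push [Flat (ι ≫ a)] : FlatMod.IsFlatOver a ((Coh.push ι).obj (Coh.structureModule W)) := by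
  intro p
  letI := FlatMod.moduleStalkOver a ((Coh.push ι).obj (Coh.structureModule W)) p
  show Module.Flat _ _
  by_cases hp : p ∈ Set.range ι.base
  · obtain ⟨w, rfl⟩ := hp
    obtain ⟨f, hf, hfs⟩ := P1Div.exists_semilin ι w
    letI : Algebra ((Spec (CommRingCat.of R)).presheaf.stalk (a (ι w))) (W.presheaf.stalk w) :=
      ((ι ≫ a).stalkMap w).hom.toAlgebra
    haveI : Module.Flat ((Spec (CommRingCat.of R)).presheaf.stalk (a (ι w))) (W.presheaf.stalk w) :=
      Flat.stalkMap (ι ≫ a) w
    let e : (((Coh.push ι).obj (Coh.structureModule W)).presheaf.stalk (ι w)) ≃ₗ[(Spec (CommRingCat.of R)).presheaf.stalk (a (ι w))]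
        W.presheaf.stalk w :=
      LinearEquiv.ofBijective
        { toFun := f
          map_add' := map_add f
          map_smul' := fun r m => by
            show f ((a.stalkMap (ι w)).hom r • m) = ((ι ≫ a).stalkMap w).hom r * f m
            rw [hfs, Scheme.Hom.stalkMap_comp]
            rfl } hf
    exact Module.Flat.of_linearEquiv e
  · haveI : Subsingleton (((Coh.push ι).obj (Coh.structureModule W)).presheaf.stalk p) :=
      Groth.Agent.KFlat.subsingleton_stalk_push ι (Coh.structureModule W) hp
    infer_instance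

theorem exists_ker_fiberι (t : ↥(Spec (CommRingCat.of R))) (x : ↥(a.fiber t)) :
    ∃ f, RingHom.ker ((a.fiberι t).stalkMap x).hom = Ideal.span {f} := by
  rw [(FibCrit.fiberι_stalkMap a t x).2]
  rcases point_eq t with rfl | rfl
  · obtain ⟨π, -, hmax⟩ := exists_uniformizer (fiberι_map a (closedPoint R) x)
    exact ⟨_, by rw [hmax, Ideal.map_span, Set.image_singleton]⟩
  · refine ⟨0, ?_⟩
    have hm : maximalIdeal ((Spec (CommRingCat.of R)).presheaf.stalk
        (a (a.fiberι (genericPoint ↥(Spec (CommRingCat.of R))) x))) = ⊥ := by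
      refine le_bot_iff.1 fun v hv => ?_
      by_contra h
      exact (mem_maximalIdeal _).1 hv (isUnit_stalk_generic (fiberι_map a _ x) h)
    rw [hm, Ideal.map_bot, Ideal.span_singleton_eq_bot.2 rfl]

end Groth.Agent.CycSp
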